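import Cfsg.Agent.Lib.Known.ThreeNine.Local
import Cfsg.Agent.Lib.Perm.SelfCentDegree

/-!
# Character identities for one class of elements of order three
-/

set_option autoImplicit false
set_option linter.all false

open scoped Classical ComplexConjugate

namespace CfsgLib.Known.ThreeNine

open Subgroup Cfsg CfsgLib.Char CfsgLib.CharDegree

universe u

variable {G : Type u} [Group G] [Finite G] {R : Sylow 3 G} {q a b : ℕ}

/-- Elements `t` conjugate to `x` with `t⁻¹ w` conjugate to `y`. -/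
def solSet (x y w : G) : Set G := {t | IsConj x t ∧ IsConj y (t⁻¹ * w)}

theorem card_triples (x y w : G) :
    Nat.card {p : G × G // p.1 * x * p.1⁻¹ * (p.2 * y * p.2⁻¹ * w⁻¹) = 1} =
      Nat.card (centralizer ({x} : Set G)) * Nat.card (centralizer ({y} : Set G)) *
        (solSet x y w).ncard := by
  have key : ∀ t : solSet x y w, Nat.card ({g : G // g * x * g⁻¹ = t.1} × {g : G // g * y * g⁻¹ = t.1⁻¹ * w}) =
      Nat.card (centralizer ({x} : Set G)) * Nat.card (centralizer ({y} : Set G)) := by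
    haveI := Fintype.ofFinite G
    intro t
    obtain ⟨g1, h1⟩ := isConj_iff.1 t.2.1
    obtain ⟨g2, h2⟩ := isConj_iff.1 t.2.2
    rw [Nat.card_prod, Perm.SelfCentDegree.card_conj_fiber x _ g1 h1,
      Perm.SelfCentDegree.card_conj_fiber y _ g2 h2]
  have solve : ∀ {u v w : G}, u * (v * w⁻¹) = 1 → v = u⁻¹ * w := fun {u v w} huv => by
    rw [← mul_assoc, mul_inv_eq_one] at huv
    rw [← huv, inv_mul_cancel_left]
  let e : {p : G × G // p.1 * x * p.1⁻¹ * (p.2 * y * p.2⁻¹ * w⁻¹) = 1} ≃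
      Σ t : solSet x y w, {g : G // g * x * g⁻¹ = t.1} × {g : G // g * y * g⁻¹ = t.1⁻¹ * w} :=
    { toFun := fun p => ⟨⟨p.1.1 * x * p.1.1⁻¹, isConj_iff.2 ⟨p.1.1, rfl⟩, isConj_iff.2 ⟨p.1.2, solve p.2⟩⟩,
        ⟨p.1.1, rfl⟩, ⟨p.1.2, solve p.2⟩⟩
      invFun := fun s => ⟨(s.2.1.1, s.2.2.1), by rw [s.2.1.2, s.2.2.2]; group⟩
      left_inv := fun p => rfl
      right_inv := by
        rintro ⟨⟨t, ht⟩, ⟨g, hg⟩, ⟨g', hg'⟩⟩
        obtain rfl : g * x * g⁻¹ = t := hg
        rfl }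
  haveI := Fintype.ofFinite (solSet x y w)
  rw [Nat.card_congr e, Nat.card_sigma, Finset.sum_congr rfl (fun t _ => key t), Finset.sum_const,
    Finset.card_univ, smul_eq_mul, ← Nat.card_eq_fintype_card, Nat.card_coe_set_eq, mul_comm]

theorem One.centralizer_card (h : One R q a b) {r : G} (hr : r ∈ (R : Subgroup G)) (hr1 : r ≠ 1) :
    Nat.card (centralizer ({r} : Set G)) = 9 := by
  rw [h.cen r hr hr1, h.card_R]

theorem One.isConj_inv (h : One R q a b) {r : G} (hr : r ∈ (R : Subgroup G)) (hr1 : r ≠ 1) :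
    IsConj r r⁻¹ := by
  obtain ⟨g, -, hg⟩ := h.one_class r hr hr1 r⁻¹ (inv_mem hr) (inv_ne_one.2 hr1)
  exact isConj_iff.2 ⟨g, hg⟩

/-- The values at an element of order three and the degrees. -/
structure Values (G : Type u) [Group G] (r : G) (A D : IrrCharacter G → ℤ) : Prop where
  value : ∀ χ : IrrCharacter G, (χ : G → ℂ) r = A χ
  value_inv : ∀ χ : IrrCharacter G, (χ : G → ℂ) r⁻¹ = A χ
  degree : ∀ χ : IrrCharacter G, (χ : G → ℂ) 1 = D χ
  pos : ∀ χ, 0 < D χ
  dvd : ∀ χ, D χ ∣ (Nat.card G : ℤ)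
  triv_a : A (trivChar G) = 1
  triv_d : D (trivChar G) = 1
  cong : ∀ χ, (9 : ℤ) ∣ D χ + 8 * A χ
  ne_degree : ∀ χ, χ ≠ trivChar G → A χ ≠ D χ
  eq_one : ∀ χ, D χ = 1 → χ = trivChar G

theorem One.exists_values (h : One R q a b) [IsSimpleGroup G] {r : G} (hr : r ∈ (R : Subgroup G))
    (hr1 : r ≠ 1) : ∃ A D : IrrCharacter G → ℤ, Values G r A D := by
  haveI := Fintype.ofFinite G
  choose d hd using fun χ : IrrCharacter G => IsIrr.exists_degree χ.2
  have hint : ∀ χ : IrrCharacter G, ∃ v : ℤ, (χ : G → ℂ) r = v ∧ ∃ m : ℕ, (d χ : ℤ) + 8 * v = 9 * m := by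
    intro χ
    haveI := Fintype.ofFinite (R : Subgroup G)
    obtain ⟨m, hm⟩ := IsChar.classInner_eq_natCast
      (IsChar.restrict (R : Subgroup G) (IsIrr.isCharacter χ.2)) (isCharacter_one (G := (R : Subgroup G)))
    rw [Cfsg.classInner] at hm
    simp only [map_one, mul_one, h.card_R] at hm
    rw [← Finset.add_sum_erase _ _ (Finset.mem_univ (1 : (R : Subgroup G))),
      Finset.sum_congr rfl (g := fun _ => (χ : G → ℂ) r) (fun x hx => by
        obtain ⟨g, -, hg⟩ := h.one_class r hr hr1 x x.2 fun e => Finset.ne_of_mem_erase hx (Subtype.ext e)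
        exact (apply_eq_of_isConj χ (isConj_iff.2 ⟨g, hg⟩)).symm),
      Finset.sum_const, Finset.card_erase_of_mem (Finset.mem_univ _), Finset.card_univ,
      ← Nat.card_eq_fintype_card, h.card_R] at hm
    have h8 : (8 : ℂ) * (χ : G → ℂ) r = 9 * m - d χ := by
      have h1 : (χ : G → ℂ) ((1 : (R : Subgroup G)) : G) = d χ := (hd χ).2
      rw [h1] at hm
      simp only [nsmul_eq_mul] at hm
      push_cast at hm
      linear_combination (9 : ℂ) * hm
    have hrat : (χ : G → ℂ) r = algebraMap ℚ ℂ ((9 * m - d χ) / 8) := by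
      rw [eq_ratCast]; push_cast
      field_simp
      linear_combination h8
    obtain ⟨n, ρ, -, hρ⟩ := χ.2
    have hI : IsIntegral ℤ ((χ : G → ℂ) r) := hρ ▸ CharIntegral.isIntegral_character ρ r
    rw [hrat, isIntegral_algebraMap_iff (algebraMap ℚ ℂ).injective] at hI
    obtain ⟨z, hz⟩ := IsIntegrallyClosed.isIntegral_iff.mp hI
    have hv : (χ : G → ℂ) r = z := by
      rw [hrat, ← hz, eq_intCast, map_intCast]
    refine ⟨z, hv, m, ?_⟩
    rw [hv] at h8
    have : ((d χ : ℤ) + 8 * z : ℂ) = ((9 * m : ℤ) : ℂ) := by push_cast; linear_combination h8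
    exact_mod_cast this
  choose A hA M hM using hint
  refine ⟨A, fun χ => d χ, hA, fun χ => ?_, fun χ => by rw [(hd χ).2]; norm_num, fun χ => ?_,
    fun χ => ?_, ?_, ?_, fun χ => ⟨M χ, hM χ⟩, fun χ hχ hAd => ?_, fun χ hχ => ?_⟩
  · rw [← apply_eq_of_isConj χ (h.isConj_inv hr hr1), hA]
  · exact_mod_cast (hd χ).1
  · rw [Int.natCast_dvd_natCast, ← CfsgLib.CharDegree.charDegree_eq_of_apply_one (hd χ).2]
    exact CfsgLib.CharDegree.charDegree_dvd_card χ
  · have := hA (trivChar G)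
    rw [trivChar_apply] at this
    exact_mod_cast this.symm
  · have := (hd (trivChar G)).2
    rw [trivChar_apply] at this
    exact_mod_cast this.symm
  · have hker : kerSubgroup χ = ⊤ := by
      rcases (kerSubgroup_normal χ).eq_bot_or_eq_top with e | e
      · exfalso
        have : r ∈ kerSubgroup χ := by
          rw [mem_kerSubgroup, hA, (hd χ).2, hAd]; norm_num
        rw [e, mem_bot] at this
        exact hr1 this
      · exact e
    have hall1 : ∀ g : G, (χ : G → ℂ) g = (χ : G → ℂ) 1 := fun g =>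
      mem_kerSubgroup.1 (hker ▸ mem_top g)
    have hsum := classInner_irr_of_ne (χ := χ) (ψ := trivChar G) hχ
    simp only [Cfsg.classInner, trivChar_apply, map_one, mul_one, hall1, Finset.sum_const,
      Finset.card_univ, nsmul_eq_mul] at hsum
    rw [(hd χ).2, mul_eq_zero, mul_eq_zero, inv_eq_zero] at hsum
    rcases hsum with e | e | e
    · exact absurd e (Nat.cast_ne_zero.2 Nat.card_pos.ne')
    · exact absurd e (Nat.cast_ne_zero.2 Fintype.card_pos.ne')
    · exact absurd e (Nat.cast_ne_zero.2 (hd χ).1.ne')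
  · refine Perm.SelfCentDegree.eq_trivChar_of_degree_one h.perfect χ ?_
    rw [(hd χ).2]
    have : d χ = 1 := by exact_mod_cast hχ
    rw [this]; norm_num

variable {r : G} {A D : IrrCharacter G → ℤ}

theorem One.sum_sq [Fintype (IrrCharacter G)] (h : One R q a b) (hr : r ∈ (R : Subgroup G)) (hr1 : r ≠ 1)
    (hv : Values G r A D) : ∑ χ, A χ * A χ = 9 := by
  have h1 := column_orthogonality r r
  rw [if_pos (IsConj.refl r), h.centralizer_card hr hr1] at h1
  simp only [hv.value, map_intCast] at h1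
  exact_mod_cast h1

theorem One.sum_mul_degree [Fintype (IrrCharacter G)] (h : One R q a b) (hr1 : r ≠ 1)
    (hv : Values G r A D) : ∑ χ, D χ * A χ = 0 := by
  have h1 := sum_degree_mul_apply_of_ne_one hr1
  simp only [hv.value, hv.degree] at h1
  exact_mod_cast h1

theorem One.abs_le_two [Fintype (IrrCharacter G)] (h : One R q a b) (hr : r ∈ (R : Subgroup G))
    (hr1 : r ≠ 1) (hv : Values G r A D) {χ : IrrCharacter G} (hχ : χ ≠ trivChar G) :
    A χ * A χ ≤ 8 ∧ -2 ≤ A χ ∧ A χ ≤ 2 := by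
  have h1 := h.sum_sq hr hr1 hv
  rw [← Finset.add_sum_erase _ _ (Finset.mem_univ (trivChar G)), hv.triv_a] at h1
  have h2 := Finset.single_le_sum (f := fun χ => A χ * A χ) (fun i _ => mul_self_nonneg (A i))
    (Finset.mem_erase.2 ⟨hχ, Finset.mem_univ χ⟩)
  have h3 : A χ * A χ ≤ 8 := by linarith
  exact ⟨h3, by nlinarith, by nlinarith⟩

/-- The class equation for three classes of elements of order three. -/
theorem One.cube_identity [Fintype (IrrCharacter G)] (h : One R q a b) (hr : r ∈ (R : Subgroup G))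
    (hr1 : r ≠ 1) (hv : Values G r A D) :
    (Nat.card G : ℚ) * ∑ χ, ((A χ : ℚ) ^ 3 / D χ) = 81 * ((solSet r r r).ncard : ℚ) := by
  haveI := Fintype.ofFinite G
  have h1 := sum_three (G := G) r r r⁻¹
  rw [card_triples r r r, h.centralizer_card hr hr1] at h1
  simp only [hv.value, hv.value_inv, hv.degree] at h1
  have : (((Nat.card G : ℚ) * ∑ χ, ((A χ : ℚ) ^ 3 / D χ) : ℚ) : ℂ) = ((81 * ((solSet r r r).ncard : ℚ) : ℚ) : ℂ) := by
    push_cast
    rw [show (81 : ℂ) * ((solSet r r r).ncard : ℂ) = ((9 * 9 * (solSet r r r).ncard : ℕ) : ℂ) by push_cast; ring,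
      ← h1]
    congr 1
    refine Finset.sum_congr rfl fun χ _ => ?_
    ring
  exact_mod_cast this

/-- An involution conjugate to one inverting `R` takes small values. -/
theorem One.involution_bound (h : One R q a b) [IsSimpleGroup G] (hv : Values G r A D)
    (hr : r ∈ (R : Subgroup G)) (hr1 : r ≠ 1) {z v : G} (hz : ∀ g ∈ (R : Subgroup G), z * g * z⁻¹ = g⁻¹)
    (hz2 : z * z = 1) (hvz : IsConj z v) (χ : IrrCharacter G) :
    ∃ w : ℤ, (χ : G → ℂ) v = w ∧ 9 * |w| ≤ D χ + 8 * A χ := by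
  haveI := Fintype.ofFinite G
  haveI := Fintype.ofFinite (R : Subgroup G)
  obtain ⟨w, hw⟩ := Perm.SelfCentDegree.exists_int_of_sq_eq_one χ hz2
  refine ⟨w, by rw [← apply_eq_of_isConj χ hvz, hw], ?_⟩
  obtain ⟨n, ρ, -, hρ⟩ := χ.2
  set S : Module.End ℂ (Fin n → ℂ) := ∑ g : (R : Subgroup G), ρ (g : G) with hS
  obtain ⟨P, hP⟩ : ∃ P : Module.End ℂ (Fin n → ℂ), P = (9 : ℂ)⁻¹ • S := ⟨_, rfl⟩
  have hmulS : ∀ g : (R : Subgroup G), ρ (g : G) * S = S := by
    intro g
    rw [hS, Finset.mul_sum]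
    refine Fintype.sum_equiv (Equiv.mulLeft g) _ _ fun x => ?_
    rw [Equiv.coe_mulLeft, Subgroup.coe_mul, map_mul]
  have hSS : S * S = (9 : ℂ) • S := by
    nth_rw 1 [hS]
    rw [Finset.sum_mul, Finset.sum_congr rfl (g := fun _ => S) (fun g _ => hmulS g), Finset.sum_const,
      Finset.card_univ, ← Nat.card_eq_fintype_card, h.card_R, ← Nat.cast_smul_eq_nsmul ℂ]
    norm_num
  have hPP : P * P = P := by
    rw [hP, smul_mul_smul_comm, hSS, smul_smul]; norm_num
  set Z : Module.End ℂ (Fin n → ℂ) := ρ z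
  have hzinv : z⁻¹ = z := inv_eq_of_mul_eq_one_right hz2
  have hZZ : Z * Z = 1 := by rw [← map_mul, hz2, map_one]
  have hZS : Z * S = S * Z := by
    rw [hS, Finset.mul_sum, Finset.sum_mul]
    refine Fintype.sum_equiv (Equiv.inv (R : Subgroup G)) _ _ fun g => ?_
    rw [← map_mul, ← map_mul, Equiv.inv_apply, Subgroup.coe_inv, ← hz g g.2]
    congr 1
    group
  have hZP : Z * P = P * Z := by rw [hP, mul_smul_comm, smul_mul_assoc, hZS]
  -- traces
  have htr : ∀ x : G, LinearMap.trace ℂ (Fin n → ℂ) (ρ x) = (χ : G → ℂ) x := fun x => by rw [← hρ]; rfl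
  have htP : LinearMap.trace ℂ _ P = ((D χ + 8 * A χ : ℤ) : ℂ) / 9 := by
    rw [hP, map_smul, hS, map_sum, ← Finset.add_sum_erase _ _ (Finset.mem_univ (1 : (R : Subgroup G))),
      Finset.sum_congr rfl (g := fun _ => (A χ : ℂ)) (fun x hx => by
        obtain ⟨g, -, hg⟩ := h.one_class r hr hr1 x x.2 fun e => Finset.ne_of_mem_erase hx (Subtype.ext e)
        rw [htr, ← apply_eq_of_isConj χ (isConj_iff.2 ⟨g, hg⟩), hv.value]),
      Finset.sum_const, Finset.card_erase_of_mem (Finset.mem_univ _), Finset.card_univ,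
      ← Nat.card_eq_fintype_card, h.card_R, htr, Subgroup.coe_one, hv.degree, nsmul_eq_mul, smul_eq_mul]
    push_cast
    ring
  have htZP : LinearMap.trace ℂ _ (Z * P) = (w : ℂ) := by
    rw [hP, mul_smul_comm, map_smul, hS, Finset.mul_sum, map_sum,
      Finset.sum_congr rfl (g := fun _ => (w : ℂ)) (fun x _ => by
        rw [← map_mul, htr, ← hw]
        -- `z x` is conjugate to `z`
        have hsq : ((x : G) ^ 2) * ((x : G) ^ 2) = x := by
          rw [← pow_add, show 2 + 2 = 3 + 1 from rfl, pow_succ, h.cube x x.2, one_mul]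
        refine (apply_eq_of_isConj χ (isConj_iff.2 ⟨((x : G) ^ 2)⁻¹, ?_⟩)).symm
        have hy := hz _ (pow_mem x.2 2)
        calc ((x : G) ^ 2)⁻¹ * z * ((x : G) ^ 2)⁻¹⁻¹ = (z * (x : G) ^ 2 * z⁻¹) * z * (x : G) ^ 2 := by
              rw [hy, inv_inv]
          _ = z * (((x : G) ^ 2) * ((x : G) ^ 2)) := by group
          _ = z * x := by rw [hsq]),
      Finset.sum_const, Finset.card_univ, ← Nat.card_eq_fintype_card, h.card_R, nsmul_eq_mul, smul_eq_mul]
    push_cast
    ring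
  have key : ∀ E : Module.End ℂ (Fin n → ℂ), E * E = E → ∃ m : ℕ, LinearMap.trace ℂ _ E = m := fun E hE =>
    ⟨_, ((LinearMap.isProj_range_iff_isIdempotentElem E).2 hE).trace⟩
  have hE : ∀ c : ℂ, c * c = 1 → ((2 : ℂ)⁻¹ • (P + c • (Z * P))) * ((2 : ℂ)⁻¹ • (P + c • (Z * P))) =
      (2 : ℂ)⁻¹ • (P + c • (Z * P)) := by
    intro c hc
    have h1 : P * (Z * P) = Z * P := by rw [← mul_assoc, ← hZP, mul_assoc, hPP]
    have h2 : Z * P * P = Z * P := by rw [mul_assoc, hPP]
    have h3 : Z * P * (Z * P) = P := by rw [mul_assoc, h1, ← mul_assoc, hZZ, one_mul]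
    rw [smul_mul_smul_comm, add_mul, mul_add, mul_add, hPP, smul_mul_assoc, mul_smul_comm, h1, h2,
      smul_mul_smul_comm, h3, hc, one_smul]
    module
  obtain ⟨m1, hm1⟩ := key _ (hE 1 (one_mul 1))
  obtain ⟨m2, hm2⟩ := key _ (hE (-1) (by norm_num))
  simp only [map_smul, map_add, htP, htZP, smul_eq_mul] at hm1 hm2
  have e1 : ((D χ + 8 * A χ + 9 * w : ℤ) : ℂ) = ((18 * m1 : ℤ) : ℂ) := by
    push_cast at hm1 ⊢; linear_combination (18 : ℂ) * hm1
  have e2 : ((D χ + 8 * A χ - 9 * w : ℤ) : ℂ) = ((18 * m2 : ℤ) : ℂ) := by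
    push_cast at hm2 ⊢; linear_combination (18 : ℂ) * hm2
  have e1' : D χ + 8 * A χ + 9 * w = 18 * m1 := by exact_mod_cast e1
  have e2' : D χ + 8 * A χ - 9 * w = 18 * m2 := by exact_mod_cast e2
  rcases abs_cases w with ⟨ha, -⟩ | ⟨ha, -⟩ <;> omega

/-- The counting inequality: `|G| ≤ 9 |C(v)| N + 72 T`. -/
theorem One.count_bound (h : One R q a b) [IsSimpleGroup G] (hr : r ∈ (R : Subgroup G)) (hr1 : r ≠ 1)
    {z v : G} (hz : ∀ g ∈ (R : Subgroup G), z * g * z⁻¹ = g⁻¹) (hz2 : z * z = 1) (hvz : IsConj z v) :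
    Nat.card G ≤ 9 * Nat.card (centralizer ({v} : Set G)) * (solSet v r r).ncard +
      72 * (solSet r r r).ncard := by
  haveI := Fintype.ofFinite G
  haveI := Fintype.ofFinite (IrrCharacter G)
  obtain ⟨A, D, hv⟩ := h.exists_values hr hr1
  choose W hW hWb using h.involution_bound hv hr hr1 hz hz2 hvz
  have h3 := h.cube_identity hr hr1 hv
  have h2 : (Nat.card G : ℚ) * ∑ χ, ((W χ : ℚ) * (A χ : ℚ) ^ 2 / D χ) =
      9 * (Nat.card (centralizer ({v} : Set G)) : ℚ) * ((solSet v r r).ncard : ℚ) := by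
    have h1 := sum_three (G := G) v r r⁻¹
    rw [card_triples v r r, h.centralizer_card hr hr1] at h1
    simp only [hv.value, hv.value_inv, hv.degree, hW] at h1
    have : (((Nat.card G : ℚ) * ∑ χ, ((W χ : ℚ) * (A χ : ℚ) ^ 2 / D χ) : ℚ) : ℂ) =
        ((9 * (Nat.card (centralizer ({v} : Set G)) : ℚ) * ((solSet v r r).ncard : ℚ) : ℚ) : ℂ) := by
      push_cast
      rw [show (9 : ℂ) * (Nat.card (centralizer ({v} : Set G)) : ℂ) * ((solSet v r r).ncard : ℂ) =
        ((Nat.card (centralizer ({v} : Set G)) * 9 * (solSet v r r).ncard : ℕ) : ℂ) by push_cast; ring, ← h1]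
      congr 1
      refine Finset.sum_congr rfl fun χ _ => ?_
      ring
    exact_mod_cast this
  have hW1 : W (trivChar G) = 1 := by
    have := hW (trivChar G)
    rw [trivChar_apply] at this
    exact_mod_cast this.symm
  have hterm : ∀ χ ∈ Finset.univ.erase (trivChar G),
      -((1 / 9 : ℚ) * (A χ : ℚ) ^ 2 + 8 / 9 * ((A χ : ℚ) ^ 3 / D χ)) ≤ (W χ : ℚ) * (A χ : ℚ) ^ 2 / D χ := by
    intro χ _
    have hd : (0 : ℚ) < D χ := by exact_mod_cast hv.pos χ
    have hb : (9 : ℚ) * |(W χ : ℚ)| ≤ D χ + 8 * A χ := by exact_mod_cast hWb χ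
    have habs : -((9 : ℚ) * (W χ : ℚ)) ≤ 9 * |(W χ : ℚ)| := by
      have := neg_abs_le (W χ : ℚ); linarith
    rw [le_div_iff₀ hd]
    have hsq : (0 : ℚ) ≤ (A χ : ℚ) ^ 2 := sq_nonneg _
    have e : (A χ : ℚ) ^ 3 / D χ * D χ = (A χ : ℚ) ^ 3 := div_mul_cancel₀ _ hd.ne'
    nlinarith [mul_le_mul_of_nonneg_right (habs.trans hb) hsq]
  have hsum := Finset.sum_le_sum hterm
  have hsq : ∑ χ, ((A χ : ℚ) ^ 2) = 9 := by
    have := h.sum_sq hr hr1 hv
    simp only [pow_two]
    exact_mod_cast this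
  rw [← Finset.add_sum_erase _ _ (Finset.mem_univ (trivChar G))] at h2 h3 hsq
  rw [hW1, hv.triv_a, hv.triv_d] at h2
  rw [hv.triv_a, hv.triv_d] at h3
  rw [hv.triv_a] at hsq
  simp only [Int.cast_one, one_pow, one_mul, div_one] at h2 h3 hsq
  rw [Finset.sum_neg_distrib, Finset.sum_add_distrib, ← Finset.mul_sum, ← Finset.mul_sum] at hsum
  have hG : (0 : ℚ) ≤ (Nat.card G : ℚ) := Nat.cast_nonneg _
  have key : (Nat.card G : ℚ) ≤
      9 * (Nat.card (centralizer ({v} : Set G)) : ℚ) * ((solSet v r r).ncard : ℚ) +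
        72 * ((solSet r r r).ncard : ℚ) := by
    have h5 := mul_le_mul_of_nonneg_left hsum hG
    have h6 : (Nat.card G : ℚ) * ∑ i ∈ Finset.univ.erase (trivChar G), (A i : ℚ) ^ 2 = Nat.card G * 8 := by
      congr 1; linarith
    simp only [mul_add, mul_neg, mul_one] at h2 h3 h5
    rw [mul_left_comm (Nat.card G : ℚ) (1/9), mul_left_comm (Nat.card G : ℚ) (8/9)] at h5
    rw [h6] at h5
    linarith
  exact_mod_cast key

end CfsgLib.Known.ThreeNine
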