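import Cfsg.Agent.Lib.Known.ThreeNine.FourCase
import Cfsg.Agent.S3341

/-!
# Simple groups of order `9 * 2 ^ a * q ^ b` with strongly self-centralising Sylow 3-subgroup
-/

set_option autoImplicit false
set_option linter.all false

namespace CfsgLib.Known.ThreeNine

open Subgroup

universe u

variable {G : Type u} [Group G] [Finite G] {R : Sylow 3 G} {q a b : ℕ}

/-- Some element of order three must normalise a nontrivial 2-subgroup. -/
theorem One.exists_two_inv (h : One R q a b) [IsSimpleGroup G] (hb : 2 ≤ b) :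
    ∃ k : G, orderOf k = 3 ∧ ∃ U : Subgroup G, Inv k U ∧ IsPGroup 2 U ∧ U ≠ ⊥ := by
  classical
  by_contra hno
  push Not at hno
  haveI := Fact.mk h.prime
  obtain ⟨r, hr, hr1, hro⟩ := h.exists_orderOf_three
  obtain ⟨z, E, -, -, -, hz2, hz1, hzinv, -⟩ := h.exists_inverter
  have hcount := h.count_bound hr hr1 hzinv hz2 (v := z) (IsConj.refl z)
  have hN : (solSet z r r).ncard = 0 := by
    rw [Set.ncard_eq_zero (Set.toFinite _), Set.eq_empty_iff_forall_notMem]
    intro t ht
    obtain ⟨V, hV, hV4, -, -, -⟩ := h.solSet_invol hr hr1 hz2 hz1 ht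
    have := hno r hro V hV (IsPGroup.of_card (n := 2) (by rw [hV4]; norm_num))
    rw [this, card_bot] at hV4
    norm_num at hV4
  obtain ⟨hT1, hT2⟩ := h.T_bound hr hr1 (∅ : Set (Subgroup G)) (B := 0) (by simp)
    (fun A hA hA2 hA1 => absurd (hno r hro A hA hA2) hA1)
  rw [h.card, hN, mul_zero, zero_add] at hcount
  have h25 : 25 ≤ q ^ b :=
    le_trans (by norm_num) ((Nat.pow_le_pow_left h.toData.five_le 2).trans (Nat.pow_le_pow_right h.prime.pos hb))
  by_cases hQ : ∀ A, Inv r A → IsPGroup q A → A = ⊥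
  · have h16 : 16 ≤ 2 ^ a := le_trans (by norm_num) (Nat.pow_le_pow_right (show 0 < 2 by norm_num) h.four_le_a)
    have := Nat.mul_le_mul h16 h25
    have := hT2 hQ
    rw [mul_assoc] at hcount
    omega
  · push Not at hQ
    obtain ⟨A, hA, hAq, hA1⟩ := hQ
    have h64 : 64 ≤ 2 ^ a :=
      le_trans (by norm_num) (Nat.pow_le_pow_right (show 0 < 2 by norm_num) (h.inv_q_six_le hb hro hA hAq hA1))
    have := Nat.mul_le_mul_right (q ^ b) h64
    rw [mul_assoc] at hcount
    omega

theorem One.main (h : One R q a b) [IsSimpleGroup G] : Conclusion G := by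
  haveI : Fact (Nat.Prime 2) := ⟨Nat.prime_two⟩
  rcases eq_or_lt_of_le h.toData.one_le_b with hb1 | hb
  · exact h.toData.conclusion_of_cit (h.toData.cit_of_b_eq_one hb1.symm)
  by_cases hsmall : ∀ k : G, orderOf k = 3 → ∀ U : Subgroup G, Inv k U → IsPGroup 2 U → Nat.card U ≤ 4
  · obtain ⟨k, hk, U, hU, hU2, hU1⟩ := h.exists_two_inv hb
    obtain ⟨l, hl⟩ := hU2.exists_card_eq
    have hl0 : l ≠ 0 := fun e => hU1 (eq_bot_of_card_eq U (by rw [hl, e, pow_zero]))
    obtain ⟨x, hx⟩ := exists_prime_orderOf_dvd_card' (G := U) 2 (hl ▸ dvd_pow_self 2 hl0)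
    rw [← Subgroup.orderOf_coe] at hx
    obtain ⟨V, hV, hV4, -, -, -, -, -, hVe⟩ := hU.orbit_four h.toData hk x.2
      (by rw [← pow_two, ← hx]; exact pow_orderOf_eq_one _)
      (fun e => by rw [e, orderOf_one] at hx; norm_num at hx)
    exact (h.four_case hb hsmall hk hV hV4 hVe).elim h.toData.conclusion_of_cit id
  · push Not at hsmall
    obtain ⟨k, hk, U, hU, hU2, h4⟩ := hsmall
    obtain ⟨M, hM, hUM⟩ := exists_maxInv hU
    have hM2 : IsPGroup 2 M := by
      refine (h.isPGroup_inv hk hM.1).resolve_right fun hq => ?_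
      have := h.toData.not_isPGroup_both hU2 (hq.to_le hUM)
      rw [this, card_bot] at h4
      omega
    obtain ⟨i, hi⟩ := hM.1.exists_four_pow h.toData hk hM2
    have h16 : 16 ≤ Nat.card M := by
      have h1 := h4.trans_le (Nat.card_le_card_of_injective _ (inclusion_injective hUM))
      rw [hi] at h1 ⊢
      have hi2 : 2 ≤ i := by
        by_contra hlt
        have := Nat.pow_le_pow_right (show 0 < 4 by norm_num) (show i ≤ 1 by omega)
        omega
      exact le_trans (by norm_num) (Nat.pow_le_pow_right (show 0 < 4 by norm_num) hi2)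
    obtain ⟨S, hB⟩ := h.exists_big hk hM hM2 h16
    exact h.toData.conclusion_of_cit (h.cit_of_big hB)

theorem Data.main (h : Data R q a b) [IsSimpleGroup G] : Conclusion G := by
  haveI : Fact (Nat.Prime 3) := ⟨Nat.prime_three⟩
  by_cases hcyc : IsCyclic (R : Subgroup G)
  · exact h.conclusion_of_cit (h.cit_of_cyclic hcyc)
  have hcube : ∀ x ∈ (R : Subgroup G), x ^ 3 = 1 := by
    intro x hx
    have hd := Subgroup.orderOf_dvd_natCard (R : Subgroup G) hx
    rw [h.card_R, show (9 : ℕ) = 3 ^ 2 by norm_num] at hd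
    obtain ⟨i, hi, he⟩ := (Nat.dvd_prime_pow Nat.prime_three).1 hd
    rcases (show i ≤ 1 ∨ i = 2 by omega) with hi1 | rfl
    · exact orderOf_dvd_iff_pow_eq_one.1 (he ▸ (pow_dvd_pow 3 hi1))
    · exact absurd (isCyclic_of_orderOf_eq_card (⟨x, hx⟩ : (R : Subgroup G))
        (by rw [← Subgroup.orderOf_coe]; exact he.trans (by rw [h.card_R]; norm_num))) hcyc
  have hcomm : IsMulCommutative (R : Subgroup G) := IsPGroup.isMulCommutative_of_card_eq_prime_sq (p := 3)
    (by rw [h.card_R]; norm_num)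
  by_cases hone : ∀ x ∈ (R : Subgroup G), x ≠ 1 → ∀ y ∈ (R : Subgroup G), y ≠ 1 →
      ∃ g ∈ normalizer ((R : Subgroup G) : Set G), g * x * g⁻¹ = y
  · exact One.main { toData := h, cube := hcube, one_class := hone }
  · push Not at hone
    obtain ⟨x, hx, hx1, y, hy, hy1, hxy⟩ := hone
    refine Or.inl (Cfsg.Agent.S3341.result R (R : Subgroup G) rfl hcomm hcube h.card_R
      ⟨x, y, orderOf_eq_prime (hcube x hx) hx1, orderOf_eq_prime (hcube y hy) hy1, fun g hg => ?_⟩ h.cen)
    obtain ⟨n, hn, he⟩ := R.conj_eq_normalizer_conj_of_mem x g⁻¹ hx (by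
      rw [inv_inv, hg]; exact hy)
    refine hxy n⁻¹ (inv_mem hn) ?_
    rw [inv_inv, ← he, inv_inv, hg]

end CfsgLib.Known.ThreeNine
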