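import Cfsg.Agent.S0199
import Cfsg.Agent.S1349
import Cfsg.Agent.Lib.Components.Radicals
import Cfsg.Agent.Lib.Core.Cores
import Mathlib.GroupTheory.SpecificGroups.Dihedral

/-!
# Two elements moving little in a faithful module of characteristic two

A group of order prime to three without normal 2-subgroup acts faithfully on an elementary abelian
2-group. A 2-element moves more than two elements; and no four group consists of elements all moving
into four-element subgroups through one common nontrivial element.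
-/

set_option autoImplicit false
set_option linter.all false

namespace CfsgLib.Known.ThreeNine

open Subgroup

universe u v

variable {Γ : Type u} [Group Γ] {M : Type v} [CommGroup M]

/-- The commutator map of an operator. -/
def delta (ρ : Γ →* MulAut M) (g : Γ) : M →* M where
  toFun m := m⁻¹ * ρ g m
  map_one' := by simp
  map_mul' m m' := by rw [map_mul, mul_inv]; exact mul_mul_mul_comm _ _ _ _

theorem delta_apply (ρ : Γ →* MulAut M) (g : Γ) (m : M) : delta ρ g m = m⁻¹ * ρ g m := rfl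

/-- The elements moving every element into `Z`. -/
def moves (ρ : Γ →* MulAut M) (Z : Subgroup M) : Subgroup Γ where
  carrier := {g | ∀ m, delta ρ g m ∈ Z}
  one_mem' m := by simp [delta_apply]
  mul_mem' := by
    intro g g' hg hg' m
    have e : delta ρ (g * g') m = delta ρ g' m * delta ρ g (ρ g' m) := by
      simp only [delta_apply, map_mul, MulAut.mul_apply]
      group
    rw [e]
    exact Z.mul_mem (hg' m) (hg _)
  inv_mem' := by
    intro g hg m
    have e : delta ρ g⁻¹ m = (delta ρ g (ρ g⁻¹ m))⁻¹ := by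
      simp only [delta_apply, map_inv, MulAut.inv_apply, MulEquiv.apply_symm_apply]
      group
    rw [e]
    exact Z.inv_mem (hg _)

theorem mem_moves {ρ : Γ →* MulAut M} {Z : Subgroup M} {g : Γ} :
    g ∈ moves ρ Z ↔ ∀ m, delta ρ g m ∈ Z := Iff.rfl

variable [Finite Γ] [Finite M]

theorem fix_of_small (ρ : Γ →* MulAut M) {w : Γ} {p : ℕ} (hp : p.Prime) (hw : w ^ p = 1)
    {Z : Subgroup M} (hZ : ∀ z ∈ Z, ρ w z ∈ Z) (hc : Nat.card Z < p) : ∀ z ∈ Z, ρ w z = z := by
  intro z hz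
  have hit : ∀ i : ℕ, ρ (w ^ i) z ∈ Z := by
    intro i
    induction i with
    | zero => simpa using hz
    | succ i ih => rw [pow_succ', map_mul]; exact hZ _ ih
  have hinj : ¬ Function.Injective (fun i : Fin p => (⟨ρ (w ^ (i : ℕ)) z, hit i⟩ : Z)) := fun hi => by
    have := Nat.card_le_card_of_injective _ hi
    rw [Nat.card_fin] at this
    omega
  rw [Function.Injective] at hinj
  push Not at hinj
  obtain ⟨i, j, he, hne⟩ := hinj
  wlog hij : (i : ℕ) < j generalizing i j
  · exact this j i he.symm hne.symm (lt_of_le_of_ne (not_lt.1 hij) fun e => hne (Fin.ext e.symm))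
  have e : ρ (w ^ ((j : ℕ) - i)) z = z := by
    have h1 : ρ (w ^ (i : ℕ)) z = ρ (w ^ (j : ℕ)) z := congrArg Subtype.val he
    rw [show (j : ℕ) = i + (j - i) by omega, pow_add, map_mul, MulAut.mul_apply] at h1
    exact ((ρ (w ^ (i : ℕ))).injective h1).symm
  let K : Subgroup Γ :=
    { carrier := {g | ρ g z = z}
      one_mem' := by simp
      mul_mem' := fun {g g'} (hg : ρ g z = z) (hg' : ρ g' z = z) => by
        show ρ (g * g') z = z
        rw [map_mul, MulAut.mul_apply, hg', hg]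
      inv_mem' := fun {g} (hg : ρ g z = z) => by
        show ρ g⁻¹ z = z
        conv_lhs => rw [← hg]
        rw [map_inv, MulAut.inv_apply, MulEquiv.symm_apply_apply] }
  have hcop : Nat.Coprime ((j : ℕ) - i) p := by
    refine ((Nat.Prime.coprime_iff_not_dvd hp).2 fun hd => ?_).symm
    have := Nat.le_of_dvd (by omega) hd
    have := j.2
    omega
  have : w ∈ K := by
    rw [← pow_one w, ← hcop.gcd_eq_one]
    have h1 := Nat.gcd_eq_gcd_ab ((j : ℕ) - i) p
    rw [← zpow_natCast, h1, zpow_add, zpow_mul, zpow_mul, zpow_natCast, zpow_natCast, hw, one_zpow, mul_one]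
    exact K.zpow_mem e _
  exact this

/-- An element of large prime order whose commutators lie in a small subgroup of its fixed points
is trivial on those elements. -/
theorem eq_of_two_step (ρ : Γ →* MulAut M) {w : Γ} {p : ℕ} (hp : p.Prime) (hp5 : 5 ≤ p) (hw : w ^ p = 1)
    (hM : ∀ m : M, m * m = 1) {D : Subgroup M} {Z : Subgroup M} (hZD : Z ≤ D)
    (hD : ∀ m ∈ D, delta ρ w m ∈ Z) (hc : Nat.card Z ≤ 4) : ∀ m ∈ D, ρ w m = m := by
  have hfix := fix_of_small ρ hp hw (Z := Z) (fun z hz => by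
    have := Z.mul_mem hz (hD z (hZD hz))
    rwa [delta_apply, mul_inv_cancel_left] at this) (by omega)
  intro m hm
  have hδ := hD m hm
  have e2 : ρ (w ^ 2) m = m := by
    have h1 : ρ w m = m * delta ρ w m := by rw [delta_apply, mul_inv_cancel_left]
    rw [pow_two, map_mul, MulAut.mul_apply, h1, map_mul, hfix _ hδ, h1, mul_assoc, hM, mul_one]
  obtain ⟨n, rfl⟩ : ∃ n, p = 2 * n + 1 := hp.odd_of_ne_two (by omega)
  have e3 : ∀ i : ℕ, ρ (w ^ (2 * i)) m = m := by
    intro i
    induction i with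
    | zero => simp
    | succ i ih => rw [mul_add, mul_one, pow_add, map_mul, MulAut.mul_apply, e2, ih]
  calc ρ w m = ρ w (ρ (w ^ (2 * n)) m) := by rw [e3]
    _ = ρ (w ^ (2 * n + 1)) m := by rw [pow_succ' w (2 * n), map_mul, MulAut.mul_apply]
    _ = m := by rw [hw, map_one, MulAut.one_apply]

theorem five_le_of_dvd (h3 : ¬ 3 ∣ Nat.card Γ) {p : ℕ} (hp : p.Prime) (h2 : p ≠ 2) (hd : p ∣ Nat.card Γ) :
    5 ≤ p := by
  rcases Nat.lt_or_ge p 5 with hlt | hge
  · have := hp.two_le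
    interval_cases p
    · exact absurd rfl h2
    · exact absurd hd h3
    · exact absurd hp (by norm_num)
  · exact hge

/-- A 2-element moving at most two elements lies in `O₂`. -/
theorem eq_one_of_moves_two (ρ : Γ →* MulAut M) (hρ : Function.Injective ρ) (h3 : ¬ 3 ∣ Nat.card Γ)
    (hO : ∀ N : Subgroup Γ, N.Normal → IsPGroup 2 N → N = ⊥) (hM : ∀ m : M, m * m = 1) {x : Γ}
    (hx : IsPGroup 2 (zpowers x)) {Y : Subgroup M} (hY : Nat.card Y ≤ 2) (hm : x ∈ moves ρ Y) : x = 1 := by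
  haveI : Fact (Nat.Prime 2) := ⟨Nat.prime_two⟩
  by_cases hall : ∀ g : Γ, IsPGroup 2 ↥(zpowers x ⊔ (zpowers x).map (MulAut.conj g).toMonoidHom)
  · obtain ⟨N, hN, hN2, hle⟩ := Cfsg.Agent.S0199.result (zpowers x) hx hall
    rw [hO N hN hN2] at hle
    exact Subgroup.mem_bot.1 (hle (mem_zpowers x))
  exfalso
  push Not at hall
  obtain ⟨g, hg⟩ := hall
  set J := zpowers x ⊔ (zpowers x).map (MulAut.conj g).toMonoidHom with hJ
  obtain ⟨p, hp, hp2, hpd⟩ : ∃ p : ℕ, p.Prime ∧ p ≠ 2 ∧ p ∣ Nat.card J := by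
    by_contra hc
    push Not at hc
    exact hg (IsPGroup.of_card (n := (Nat.card J).primeFactorsList.length)
      (Nat.eq_prime_pow_of_unique_prime_dvd Nat.card_pos.ne' fun {r} hr hrd =>
        by_contra fun hne => hc r hr hne hrd))
  haveI := Fact.mk hp
  obtain ⟨w, hw⟩ := exists_prime_orderOf_dvd_card' (G := J) p hpd
  have hp5 := five_le_of_dvd h3 hp hp2 (hpd.trans (card_subgroup_dvd_card J))
  set Z := Y ⊔ Y.map (ρ g).toMonoidHom with hZ
  have hJm : J ≤ moves ρ Z := by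
    refine sup_le (zpowers_le.2 fun m => le_sup_left (a := Y) (hm m)) ?_
    rw [MonoidHom.map_zpowers, zpowers_le]
    intro m
    refine le_sup_right (a := Y) ⟨delta ρ x (ρ g⁻¹ m), hm _, ?_⟩
    show ρ g (delta ρ x (ρ g⁻¹ m)) = delta ρ (g * x * g⁻¹) m
    simp only [delta_apply, map_mul, map_inv, MulAut.mul_apply, MulAut.inv_apply,
      MulEquiv.apply_symm_apply]
  have hZc : Nat.card Z ≤ 4 := by
    have h1 : Nat.card (Y.map (ρ g).toMonoidHom) ≤ 2 :=
      (card_map_of_injective (ρ g).injective).trans_le hY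
    calc Nat.card Z ≤ Nat.card Y * Nat.card (Y.map (ρ g).toMonoidHom) := by
          refine (Nat.card_le_card_of_surjective (fun p : Y × (Y.map (ρ g).toMonoidHom : Subgroup M) =>
            (⟨(p.1 : M) * p.2, mul_mem (le_sup_left (a := Y) p.1.2) (le_sup_right (a := Y) p.2.2)⟩ : Z)) ?_).trans_eq
            (Nat.card_prod _ _)
          rintro ⟨z, hz⟩
          obtain ⟨y, hy, y', hy', rfl⟩ := mem_sup.1 hz
          exact ⟨(⟨y, hy⟩, ⟨y', hy'⟩), rfl⟩
      _ ≤ 2 * 2 := Nat.mul_le_mul hY h1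
      _ = 4 := rfl
  have hwp : (w : Γ) ^ p = 1 := by rw [← hw, ← Subgroup.orderOf_coe, pow_orderOf_eq_one]
  have h1 := eq_of_two_step ρ hp hp5 hwp hM (D := ⊤) le_top (fun m _ => hJm w.2 m) hZc
  have h2 : (w : Γ) = 1 := hρ (by rw [map_one]; exact MulEquiv.ext fun m => h1 m (mem_top m))
  rw [← Subgroup.orderOf_coe, h2, orderOf_one] at hw
  exact hp.ne_one hw.symm

/-- No four group of operators all move into four-element subgroups through one element. -/
theorem no_four_moves (ρ : Γ →* MulAut M) (hρ : Function.Injective ρ) (h3 : ¬ 3 ∣ Nat.card Γ)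
    (hs : Group.IsSolvable Γ)
    (hO : ∀ N : Subgroup Γ, N.Normal → IsPGroup 2 N → N = ⊥) (hM : ∀ m : M, m * m = 1)
    {T : Subgroup Γ} (hT : Cfsg.IsElementaryAbelian 2 T) {d : ℕ} (hd : 2 ≤ d) (hTc : Nat.card T = 2 ^ d)
    {y : M} (hy : y ≠ 1) (hmv : ∀ τ ∈ T, ∃ Z : Subgroup M, y ∈ Z ∧ Nat.card Z ≤ 4 ∧ τ ∈ moves ρ Z) :
    False := by
  classical
  haveI : Fact (Nat.Prime 2) := ⟨Nat.prime_two⟩
  haveI := hs
  set F := Cfsg.fittingSubgroup Γ with hF
  haveI : F.Normal := CfsgLib.Components.fitting_normal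
  have hFodd : Odd (Nat.card F) := by
    rw [Nat.odd_iff]
    by_contra hev
    haveI : Group.IsNilpotent F := CfsgLib.Components.fitting_isNilpotent
    let P : Sylow 2 F := default
    haveI : (P : Subgroup F).Characteristic := Sylow.characteristic_of_normal _ inferInstance
    have e := hO ((P : Subgroup F).map F.subtype) inferInstance (P.isPGroup'.map _)
    rw [Subgroup.map_eq_bot_iff_of_injective _ F.subtype_injective] at e
    exact P.ne_bot_of_dvd_card (by omega) e
  have hC : centralizer (F : Set Γ) ≤ F := CfsgLib.Components.centralizer_fitting_le_of_isSolvable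
  have hfaith : T ⊓ centralizer (F : Set Γ) = ⊥ := by
    rw [eq_bot_iff]
    rintro t ⟨htT, htC⟩
    have h1 : orderOf t ∣ 2 := orderOf_dvd_of_pow_eq_one (hT.2 t htT)
    have h2 : orderOf t ∣ Nat.card F := Subgroup.orderOf_dvd_natCard F (hC htC)
    rw [mem_bot]
    refine orderOf_eq_one_iff.1 (Nat.eq_one_of_dvd_coprimes ?_ h1 h2)
    exact Nat.coprime_two_left.2 hFodd
  obtain ⟨Ai, Li, n, hAL, -, hcomm⟩ := Cfsg.Agent.S1349.result F T (inferInstance : Group.IsSolvable F)
    hFodd hT d (by omega) hTc (by rw [normalizer_eq_top]; exact le_top) hfaith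
  set i0 : Fin d := ⟨0, by omega⟩
  set i1 : Fin d := ⟨1, by omega⟩
  have h01 : i0 ≠ i1 := by simp [i0, i1]
  obtain ⟨hA0, hA0c, hL0, hn0, hn03, ⟨e0⟩⟩ := hAL i0
  obtain ⟨hA1, hA1c, -, -, -, -⟩ := hAL i1
  haveI : IsCyclic (Ai i0) := isCyclic_of_prime_card hA0c
  haveI : IsCyclic (Ai i1) := isCyclic_of_prime_card hA1c
  obtain ⟨a0, ha0⟩ := IsCyclic.exists_ofOrder_eq_natCard (α := Ai i0)
  obtain ⟨a1, ha1⟩ := IsCyclic.exists_ofOrder_eq_natCard (α := Ai i1)
  rw [hA0c, ← Subgroup.orderOf_coe] at ha0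
  rw [hA1c, ← Subgroup.orderOf_coe] at ha1
  set x1 : Γ := a0.1
  set x3 : Γ := a1.1
  have hx11 : x1 * x1 = 1 := by rw [← pow_two]; exact hT.2 _ (hA0 a0.2)
  have hx1i : x1⁻¹ = x1 := inv_eq_of_mul_eq_one_right hx11
  have hA0e : ∀ y ∈ Ai i0, y = 1 ∨ y = x1 := by
    intro y hy
    have hz : zpowers x1 = Ai i0 := eq_of_le_of_card_ge (zpowers_le.2 a0.2) (by rw [Nat.card_zpowers, ha0, hA0c])
    rw [← hz] at hy
    obtain ⟨j, rfl⟩ := mem_zpowers_iff.1 hy
    rw [zpow_eq_zpow_emod' j (n := 2) (by rw [pow_two]; exact hx11)]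
    rcases Int.emod_two_eq j with h' | h' <;> simp [h']
  -- an element of `L` moved by `x₁`
  obtain ⟨l, hl, hlx⟩ : ∃ l ∈ Li i0, x1 * l ≠ l * x1 := by
    by_contra hc
    push Not at hc
    set J := Ai i0 ⊔ Li i0 with hJ
    have hle : J ≤ centralizer ({x1} : Set Γ) := sup_le
      (fun y hy => mem_centralizer_singleton_iff.2 (by rcases hA0e y hy with rfl | rfl <;> simp))
      (fun y hy => mem_centralizer_singleton_iff.2 (hc y hy).symm)
    set z := e0 ⟨x1, le_sup_left (a := Ai i0) a0.2⟩ with hz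
    have hzc : ∀ w, w * z = z * w := by
      intro w
      obtain ⟨y, rfl⟩ := e0.surjective w
      rw [hz, ← map_mul, ← map_mul]
      exact congrArg e0 (Subtype.ext (mem_centralizer_singleton_iff.1 (hle y.2)))
    have hz2 : orderOf z = 2 := by rw [hz, MulEquiv.orderOf_eq, ← Subgroup.orderOf_coe]; exact ha0
    haveI : NeZero (n i0) := ⟨by omega⟩
    haveI : Fact (1 < n i0) := ⟨by omega⟩
    have htwo : ∀ j : ZMod (n i0), j + j = 0 → j = 0 := by
      intro j hj
      obtain ⟨m, hm⟩ := hn0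
      have h1 : (2 * m + 1) • j = 0 := by rw [← hm, nsmul_eq_mul, ZMod.natCast_self, zero_mul]
      rw [add_nsmul, mul_nsmul', one_nsmul, two_nsmul, ← smul_add, hj, smul_zero, zero_add] at h1
      exact h1
    match z with
    | DihedralGroup.r j =>
      have := hzc (DihedralGroup.sr 0)
      rw [DihedralGroup.sr_mul_r, DihedralGroup.r_mul_sr, DihedralGroup.sr.injEq, zero_add, zero_sub] at this
      have hj := htwo j (by nth_rw 1 [this]; exact neg_add_cancel j)
      rw [hj, ← DihedralGroup.one_def, orderOf_one] at hz2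
      exact absurd hz2 (by norm_num)
    | DihedralGroup.sr j =>
      have := hzc (DihedralGroup.r 1)
      rw [DihedralGroup.r_mul_sr, DihedralGroup.sr_mul_r, DihedralGroup.sr.injEq, sub_eq_add_neg,
        add_right_inj] at this
      exact one_ne_zero (htwo 1 (by nth_rw 1 [← this]; exact neg_add_cancel 1))
  set w0 := l⁻¹ * (x1 * l * x1⁻¹) with hw0
  have hw0F : w0 ∈ F := F.mul_mem (F.inv_mem (hL0 hl)) (Subgroup.Normal.conj_mem inferInstance _ (hL0 hl) _)
  have hw01 : w0 ≠ 1 := fun e => hlx (mul_inv_eq_iff_eq_mul.1 (inv_mul_eq_one.1 e).symm)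
  have hw0x : x1 * w0 * x1⁻¹ = w0⁻¹ := by
    rw [hw0, hx1i]
    calc x1 * (l⁻¹ * (x1 * l * x1)) * x1 = x1 * l⁻¹ * x1 * l * (x1 * x1) := by group
      _ = x1 * l⁻¹ * x1⁻¹ * l := by rw [hx11, mul_one, hx1i]
      _ = (l⁻¹ * (x1 * l * x1⁻¹))⁻¹ := by group
      _ = _ := by rw [hx1i]
  have hw0c : x3 * w0 = w0 * x3 := by
    have c1 := hcomm i1 i0 h01.symm x3 (le_sup_left (a := Ai i1) a1.2) l (le_sup_right (a := Ai i0) hl)
    have c2 := hcomm i1 i0 h01.symm x3 (le_sup_left (a := Ai i1) a1.2) x1 (le_sup_left (a := Ai i0) a0.2)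
    have d1 : Commute x3 l := c1
    have d2 : Commute x3 x1 := c2
    exact (d1.inv_right.mul_right ((d2.mul_right d1).mul_right d2.inv_right)).eq
  obtain ⟨p, hp, hpd⟩ := Nat.exists_prime_and_dvd (n := orderOf w0) fun e => hw01 (orderOf_eq_one_iff.1 e)
  have hpF : p ∣ Nat.card F := hpd.trans (Subgroup.orderOf_dvd_natCard F hw0F)
  have hp2 : p ≠ 2 := by
    rintro rfl
    exact Nat.not_even_iff_odd.2 hFodd (even_iff_two_dvd.2 hpF)
  have hp5 := five_le_of_dvd h3 hp hp2 (hpF.trans (card_subgroup_dvd_card F))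
  obtain ⟨w, hw, hwp, hw1, hwx, hwc⟩ : ∃ w, w ∈ zpowers w0 ∧ w ^ p = 1 ∧ w ≠ 1 ∧
      x1 * w * x1⁻¹ = w⁻¹ ∧ x3 * w = w * x3 := by
    have hpos := orderOf_pos w0
    refine ⟨w0 ^ (orderOf w0 / p), npow_mem_zpowers _ _, ?_, ?_, ?_, (Commute.pow_right (show Commute x3 w0 from hw0c) _).eq⟩
    · rw [← pow_mul, Nat.div_mul_cancel hpd, pow_orderOf_eq_one]
    · intro e
      have := Nat.le_of_dvd (Nat.div_pos (Nat.le_of_dvd hpos hpd) hp.pos) (orderOf_dvd_of_pow_eq_one e)
      exact absurd (Nat.div_lt_self hpos hp.one_lt) (not_lt.2 this)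
    · rw [← conj_pow, hw0x, inv_pow]
  -- the two factors
  set Mw := (delta ρ w).range with hMw
  have hinf : ∀ z ∈ Mw, ρ w z = z → z = 1 := by
    rintro _ ⟨m, rfl⟩ hz
    set z := delta ρ w m
    have h1 : ∀ i : ℕ, ρ (w ^ i) m = m * z ^ i := by
      intro i
      induction i with
      | zero => simp
      | succ i ih =>
        rw [pow_succ', map_mul, MulAut.mul_apply, ih, map_mul, map_pow, hz, pow_succ', ← mul_assoc]
        show ρ w m * z ^ i = m * (m⁻¹ * ρ w m) * z ^ i
        rw [mul_inv_cancel_left]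
    have h2 := h1 p
    rw [hwp, map_one, MulAut.one_apply, eq_comm, mul_eq_left] at h2
    obtain ⟨j, rfl⟩ : ∃ j, p = 2 * j + 1 := hp.odd_of_ne_two hp2
    rwa [pow_succ, pow_mul, pow_two, hM, one_pow, one_mul] at h2
  have hsplit : ∀ m, ∃ f, ρ w f = f ∧ ∃ z ∈ Mw, m = f * z := by
    intro m
    have hker : ∀ f, f ∈ (delta ρ w).ker ↔ ρ w f = f := fun f => by
      rw [MonoidHom.mem_ker, delta_apply, inv_mul_eq_one, eq_comm]
    let φ : (delta ρ w).ker × Mw → M := fun p => (p.1 : M) * p.2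
    have hφ : Function.Injective φ := by
      rintro ⟨f, z⟩ ⟨f', z'⟩ e
      have e' : (f : M) * z = f' * z' := e
      have e2 : (z : M) * (z' : M)⁻¹ = (f : M)⁻¹ * f' := by
        rw [← mul_inv_eq_iff_eq_mul.2 e'.symm]; group
      have h1 := hinf _ (Mw.mul_mem z.2 (Mw.inv_mem z'.2)) (by
        rw [e2]; exact (hker _).1 ((delta ρ w).ker.mul_mem ((delta ρ w).ker.inv_mem f.2) f'.2))
      have hz : z = z' := Subtype.ext (mul_inv_eq_one.1 h1)
      subst hz
      exact Prod.ext (Subtype.ext (mul_right_cancel e')) rfl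
    have hb : Function.Bijective φ := (Nat.bijective_iff_injective_and_card φ).2 ⟨hφ, by
      rw [Nat.card_prod, hMw, ← Subgroup.index_ker, Subgroup.card_mul_index]⟩
    obtain ⟨⟨f, z⟩, hfz⟩ := hb.2 m
    exact ⟨f, (hker _).1 f.2, z, z.2, hfz.symm⟩
  -- the images of the two involutions
  have himg : ∀ τ ∈ T, τ ≠ 1 → y ∈ (delta ρ τ).range ∧ Nat.card (delta ρ τ).range ≤ 4 := by
    intro τ hτ hτ1
    obtain ⟨Z, hyZ, hZc, hZm⟩ := hmv τ hτ
    have hle : (delta ρ τ).range ≤ Z := by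
      rintro _ ⟨m, rfl⟩; exact hZm m
    have hgt : 2 < Nat.card (delta ρ τ).range := by
      by_contra hle2
      refine hτ1 (eq_one_of_moves_two ρ hρ h3 hO hM (IsPGroup.of_card (n := 1) ?_) (not_lt.1 hle2) fun m => ⟨m, rfl⟩)
      rw [Nat.card_zpowers, pow_one]
      exact orderOf_eq_prime (hT.2 τ hτ) hτ1
    have hdv := card_dvd_of_le hle
    have heq : Nat.card Z ≤ Nat.card (delta ρ τ).range := by
      obtain ⟨c, hc⟩ := hdv
      rw [hc] at hZc ⊢
      rcases Nat.lt_or_ge c 2 with h' | h'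
      · exact (Nat.mul_le_mul_left _ (show c ≤ 1 by omega)).trans (by rw [mul_one])
      · have := Nat.mul_le_mul_left (Nat.card (delta ρ τ).range) h'; omega
    exact ⟨(eq_of_le_of_card_ge hle heq) ▸ hyZ, (card_le_of_le hle).trans hZc⟩
  have hx10 : x1 ≠ 1 := fun e => by rw [e, orderOf_one] at ha0; omega
  have hx30 : x3 ≠ 1 := fun e => by rw [e, orderOf_one] at ha1; omega
  obtain ⟨hy1, hc1⟩ := himg x1 (hA0 a0.2) hx10
  obtain ⟨hy3, hc3⟩ := himg x3 (hA1 a1.2) hx30
  -- `K₁`
  set K1 := Mw.map (delta ρ x1) with hK1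
  have hK1le : K1 ≤ (delta ρ x1).range := map_le_range _ _
  have hρx : ∀ m, ρ x1 (ρ w m) = ρ w⁻¹ (ρ x1 m) := fun m => by
    rw [← MulAut.mul_apply, ← MulAut.mul_apply, ← map_mul, ← map_mul, ← hwx, mul_assoc, inv_mul_cancel, mul_one]
  have hK1w : K1 ≤ Mw := by
    rintro _ ⟨m, hm, rfl⟩
    rw [delta_apply]
    refine Mw.mul_mem (Mw.inv_mem hm) ?_
    obtain ⟨m0, rfl⟩ := hm
    refine ⟨(ρ w⁻¹ (ρ x1 m0))⁻¹, ?_⟩
    simp only [delta_apply, map_mul, map_inv, hρx, inv_inv, MulAut.inv_apply, MulEquiv.apply_symm_apply]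
    simp [mul_comm, MulEquiv.apply_symm_apply]
  have hyw : y ∈ Mw := by
    rcases Nat.lt_or_ge 2 (Nat.card K1) with hgt | hle
    · have heq : K1 = (delta ρ x1).range := by
        refine eq_of_le_of_card_ge hK1le ?_
        obtain ⟨c, hc⟩ := card_dvd_of_le hK1le
        rw [hc] at hc1 ⊢
        rcases Nat.lt_or_ge c 2 with h' | h'
        · exact (Nat.mul_le_mul_left _ (show c ≤ 1 by omega)).trans (by rw [mul_one])
        · have := Nat.mul_le_mul_left (Nat.card K1) h'; omega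
      exact hK1w (heq ▸ hy1)
    · exfalso
      -- `w⁻²` moves the factor into a small subgroup
      set g := w⁻¹ * x1 * w * x1 with hg
      have hg2 : g = (w ^ 2)⁻¹ := by
        rw [hg, pow_two, mul_inv_rev]
        calc w⁻¹ * x1 * w * x1 = w⁻¹ * (x1 * w * x1⁻¹) := by rw [hx1i]; group
          _ = _ := by rw [hwx]
      set Z := K1 ⊔ K1.map (ρ w⁻¹).toMonoidHom with hZ
      have hwMw : ∀ m ∈ Mw, ρ w m ∈ Mw := by
        rintro _ ⟨m, rfl⟩
        exact ⟨ρ w m, by rw [delta_apply, delta_apply, map_mul, map_inv]⟩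
      have hwiMw : ∀ m ∈ Mw, ρ w⁻¹ m ∈ Mw := by
        intro m hm
        have hw' : ∀ i : ℕ, ρ (w ^ i) m ∈ Mw := by
          intro i
          induction i with
          | zero => simpa using hm
          | succ i ih => rw [pow_succ', map_mul, MulAut.mul_apply]; exact hwMw _ ih
        have : w⁻¹ = w ^ (p - 1) := by
          refine inv_eq_of_mul_eq_one_right ?_
          rw [← pow_succ', show p - 1 + 1 = p by omega, hwp]
        rw [this]; exact hw' _
      have hZD : Z ≤ Mw := sup_le hK1w (by rintro _ ⟨m, hm, rfl⟩; exact hwiMw m (hK1w hm))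
      have hZc : Nat.card Z ≤ 4 := by
        have h1 : Nat.card (K1.map (ρ w⁻¹).toMonoidHom) ≤ 2 :=
          (card_map_of_injective (ρ w⁻¹).injective).trans_le hle
        refine le_trans ((Nat.card_le_card_of_surjective (fun p : K1 × (K1.map (ρ w⁻¹).toMonoidHom : Subgroup M) =>
            (⟨(p.1 : M) * p.2, mul_mem (le_sup_left (a := K1) p.1.2) (le_sup_right (a := K1) p.2.2)⟩ : Z)) ?_).trans_eq
            (Nat.card_prod _ _)) (Nat.mul_le_mul hle h1)
        rintro ⟨z, hz⟩
        obtain ⟨y, hy, y', hy', rfl⟩ := mem_sup.1 hz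
        exact ⟨(⟨y, hy⟩, ⟨y', hy'⟩), rfl⟩
      have hmove : ∀ m ∈ Mw, delta ρ g m ∈ Z := by
        intro m hm
        have e : delta ρ g m = delta ρ x1 m * ρ w⁻¹ (delta ρ x1 (ρ w (ρ x1 m))) := by
          simp only [hg, delta_apply, map_mul, map_inv, MulAut.mul_apply, MulAut.inv_apply,
            MulEquiv.symm_apply_apply]
          group
        rw [e]
        refine Z.mul_mem (le_sup_left (a := K1) ⟨m, hm, rfl⟩) (le_sup_right (a := K1) ⟨_, ⟨_, hwMw _ ?_, rfl⟩, rfl⟩)
        have := Mw.mul_mem hm (hK1w ⟨m, hm, rfl⟩)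
        rwa [delta_apply, mul_inv_cancel_left] at this
      have hfix := eq_of_two_step ρ hp hp5 (w := g) (by rw [hg2, inv_pow, ← pow_mul, mul_comm, pow_mul, hwp, one_pow, inv_one])
        hM hZD hmove hZc
      suffices hall : ∀ m, ρ w m = m from hw1 (hρ (by rw [map_one]; exact MulEquiv.ext hall))
      intro m
      have hMwfix : ∀ z ∈ Mw, ρ w z = z := by
        intro z hz
        have h2 : ρ (w ^ 2) z = z := by
          have := congrArg (fun u => ρ (w ^ 2) u) (hfix z hz)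
          rw [hg2, map_inv, MulAut.inv_apply, MulEquiv.apply_symm_apply] at this
          exact this.symm
        obtain ⟨j, rfl⟩ : ∃ j, p = 2 * j + 1 := hp.odd_of_ne_two hp2
        have e3 : ∀ i : ℕ, ρ (w ^ (2 * i)) z = z := by
          intro i
          induction i with
          | zero => simp
          | succ i ih => rw [mul_add, mul_one, pow_add, map_mul, MulAut.mul_apply, h2, ih]
        calc ρ w z = ρ w (ρ (w ^ (2 * j)) z) := by rw [e3]
          _ = ρ (w ^ (2 * j + 1)) z := by rw [pow_succ' w (2 * j), map_mul, MulAut.mul_apply]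
          _ = z := by rw [hwp, map_one, MulAut.one_apply]
      obtain ⟨f, hf, z, hz, rfl⟩ := hsplit m
      rw [map_mul, hf, hMwfix z hz]
  -- `x₃`
  obtain ⟨m, hm⟩ := hy3
  obtain ⟨f, hf, z, hz, rfl⟩ := hsplit m
  have hcomm3 : ∀ v, ρ w (ρ x3 v) = ρ x3 (ρ w v) := fun v => by
    rw [← MulAut.mul_apply, ← MulAut.mul_apply, ← map_mul, ← map_mul, hwc]
  have hinv3 : ∀ v ∈ Mw, delta ρ x3 v ∈ Mw := by
    rintro _ ⟨v, rfl⟩
    refine ⟨delta ρ x3 v, ?_⟩
    simp only [delta_apply, map_mul, map_inv, ← hcomm3]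
    simp [mul_comm, mul_assoc, mul_left_comm]
  rw [map_mul] at hm
  have hf0 : ρ w (delta ρ x3 f) = delta ρ x3 f := by
    rw [delta_apply, map_mul, map_inv, hcomm3, hf]
  have hf1 : delta ρ x3 f = 1 := by
    refine hinf _ ?_ hf0
    rw [eq_mul_inv_of_mul_eq hm]
    exact Mw.mul_mem hyw (Mw.inv_mem (hinv3 z hz))
  rw [hf1, one_mul] at hm
  set K3 := Mw.map (delta ρ x3) with hK3
  have hfixy := fix_of_small ρ hp hwp (Z := K3) (by
    rintro _ ⟨v, ⟨v0, rfl⟩, rfl⟩
    refine ⟨delta ρ w (ρ w v0), ⟨_, rfl⟩, ?_⟩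
    simp only [delta_apply, map_mul, map_inv, ← hcomm3])
    (by
      exact lt_of_le_of_lt ((card_le_of_le (map_le_range (delta ρ x3) Mw)).trans hc3) (by omega)) y ⟨z, hz, hm⟩
  exact hy (hinf y hyw hfixy)

end CfsgLib.Known.ThreeNine
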