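import Cfsg.Agent.Lib.CIT.Simple
import Cfsg.Agent.Lib.Classical.SmallIsoSix
import Cfsg.Agent.S0904
import Cfsg.Agent.Lib.Known.L34.Upper
import Cfsg.Agent.Lib.Classical.Dickson.PSL
import Cfsg.Agent.Lib.Char.Burnside
import Cfsg.Prelude.Def_Exceptional

/-!
# Simple groups of order `9 * 2 ^ a * q ^ b` with strongly self-centralizing Sylow 3-subgroup

The hypotheses, their first consequences, and the conclusion from the CIT property.
-/

set_option autoImplicit false
set_option linter.all false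

namespace CfsgLib.Known.ThreeNine

open Subgroup

universe u

variable {G : Type u} [Group G] [Finite G]

/-- The hypotheses of the theorem. -/
structure Data (R : Sylow 3 G) (q a b : ℕ) : Prop where
  nonab : ¬ IsMulCommutative G
  prime : q.Prime
  ne_two : q ≠ 2
  ne_three : q ≠ 3
  card : Nat.card G = 9 * 2 ^ a * q ^ b
  cen : ∀ k ∈ (R : Subgroup G), k ≠ 1 → centralizer ({k} : Set G) = R

variable {R : Sylow 3 G} {q a b : ℕ}

theorem Data.five_le (h : Data R q a b) : 5 ≤ q := by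
  rcases Nat.lt_or_ge q 5 with h' | h'
  · have := h.prime.two_le
    interval_cases q
    · exact absurd rfl h.ne_two
    · exact absurd rfl h.ne_three
    · exact absurd h.prime (by norm_num)
  · exact h'

theorem Data.coprime_three (h : Data R q a b) : Nat.Coprime 3 (2 ^ a * q ^ b) :=
  Nat.Coprime.mul_right (Nat.Coprime.pow_right _ (by norm_num))
    (Nat.Coprime.pow_right _ ((Nat.coprime_primes Nat.prime_three h.prime).2 (Ne.symm h.ne_three)))

theorem Data.card_R (h : Data R q a b) : Nat.card (R : Subgroup G) = 9 := by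
  haveI : Fact (Nat.Prime 3) := ⟨Nat.prime_three⟩
  have hc : ¬ 3 ∣ 2 ^ a * q ^ b := (Nat.Prime.coprime_iff_not_dvd Nat.prime_three).1 h.coprime_three
  have hf : (Nat.card G).factorization 3 = 2 := by
    rw [h.card, mul_assoc, Nat.factorization_mul (by norm_num)
      (mul_ne_zero (pow_ne_zero _ two_ne_zero) (pow_ne_zero _ h.prime.ne_zero)), Finsupp.add_apply,
      Nat.factorization_eq_zero_of_not_dvd hc, add_zero, show (9 : ℕ) = 3 ^ 2 by norm_num,
      Nat.Prime.factorization_pow Nat.prime_three, Finsupp.single_eq_same]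
  rw [R.card_eq_multiplicity, hf]
  norm_num

theorem Data.mem_of_commute (h : Data R q a b) {k g : G} (hk : k ∈ (R : Subgroup G)) (hk1 : k ≠ 1)
    (hg : g * k = k * g) : g ∈ (R : Subgroup G) := by
  rw [← h.cen k hk hk1]
  exact mem_centralizer_singleton_iff.2 hg

theorem Data.comm (h : Data R q a b) :
    ∀ x ∈ (R : Subgroup G), ∀ y ∈ (R : Subgroup G), x * y = y * x := by
  intro x hx y hy
  by_cases hy1 : y = 1
  · rw [hy1, mul_one, one_mul]
  · have : x ∈ centralizer ({y} : Set G) := by rw [h.cen y hy hy1]; exact hx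
    exact mem_centralizer_singleton_iff.1 this

/-- Every element of order three has centralizer of order nine. -/
theorem Data.orderOf_commute (h : Data R q a b) {k g : G} (hk : orderOf k = 3) (hg : g * k = k * g) :
    g ^ 9 = 1 := by
  haveI : Fact (Nat.Prime 3) := ⟨Nat.prime_three⟩
  obtain ⟨P, hP⟩ := (IsPGroup.of_card (n := 1) (by rw [Nat.card_zpowers, hk, pow_one]) :
    IsPGroup 3 (zpowers k)).exists_le_sylow
  obtain ⟨x, hx⟩ := MulAction.exists_smul_eq G P R
  have hk' : x * k * x⁻¹ ∈ (R : Subgroup G) := by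
    rw [← hx, Sylow.coe_subgroup_smul]
    exact ⟨k, hP (mem_zpowers k), rfl⟩
  have hk1 : x * k * x⁻¹ ≠ 1 := fun e => by
    rw [conj_eq_one_iff] at e
    rw [e, orderOf_one] at hk
    exact absurd hk (by norm_num)
  have hg' := h.mem_of_commute hk' hk1 (g := x * g * x⁻¹) (by
    calc x * g * x⁻¹ * (x * k * x⁻¹) = x * (g * k) * x⁻¹ := by group
      _ = x * (k * g) * x⁻¹ := by rw [hg]
      _ = _ := by group)
  have h9 : (x * g * x⁻¹) ^ 9 = 1 := by
    have := pow_card_eq_one' (G := (R : Subgroup G)) (x := ⟨_, hg'⟩)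
    rw [h.card_R] at this
    exact congrArg Subtype.val this
  rw [conj_pow, conj_eq_one_iff] at h9
  exact h9

/-- Elements of order prime to three commute with no element of order three. -/
theorem Data.eq_one_of_commute (h : Data R q a b) {k g : G} (hk : orderOf k = 3)
    (hg : g * k = k * g) (h3 : ¬ 3 ∣ orderOf g) : g = 1 := by
  have hd : orderOf g ∣ 3 ^ 2 := by
    rw [orderOf_dvd_iff_pow_eq_one]; norm_num; exact h.orderOf_commute hk hg
  obtain ⟨i, -, hi⟩ := (Nat.dvd_prime_pow Nat.prime_three).1 hd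
  rcases Nat.eq_zero_or_pos i with rfl | hpos
  · simpa using hi
  · exact absurd (hi ▸ dvd_pow_self 3 hpos.ne') h3

/-- The centralizer of an element of order prime to three has order prime to three. -/
theorem Data.not_three_dvd_centralizer (h : Data R q a b) {g : G} (hg : g ≠ 1) (h3 : ¬ 3 ∣ orderOf g) :
    ¬ 3 ∣ Nat.card (centralizer ({g} : Set G)) := by
  intro hd
  haveI : Fact (Nat.Prime 3) := ⟨Nat.prime_three⟩
  obtain ⟨k, hk⟩ := exists_prime_orderOf_dvd_card' 3 hd
  rw [← Subgroup.orderOf_coe] at hk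
  exact hg (h.eq_one_of_commute hk (mem_centralizer_singleton_iff.1 k.2).symm h3)

theorem Data.two_dvd (h : Data R q a b) [IsSimpleGroup G] : 2 ∣ Nat.card G := by
  rcases Nat.eq_zero_or_pos a with rfl | ha
  · exfalso
    refine h.nonab ?_
    have hodd : Odd (Nat.card G) := by
      rw [h.card, pow_zero, mul_one]
      exact (show Odd 9 by decide).mul ((h.prime.odd_of_ne_two h.ne_two).pow)
    haveI : Group.IsSolvable G := by
      refine CfsgLib.Burnside.isSolvable_of_card_eq (a := 2) (b := b) Nat.prime_three h.prime ?_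
      rw [h.card]; ring
    exact ⟨⟨fun x y => IsSimpleGroup.comm_iff_isSolvable.2 inferInstance x y⟩⟩
  · rw [h.card]
    exact (dvd_pow_self 2 ha.ne').mul_left 9 |>.mul_right _

theorem Data.one_le_b (h : Data R q a b) [IsSimpleGroup G] : 1 ≤ b := by
  rcases Nat.eq_zero_or_pos b with rfl | hb
  · exfalso
    refine h.nonab ?_
    haveI : Group.IsSolvable G := by
      refine CfsgLib.Burnside.isSolvable_of_card_eq (a := 2) (b := a) Nat.prime_three Nat.prime_two ?_
      rw [h.card]; ring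
    exact ⟨⟨fun x y => IsSimpleGroup.comm_iff_isSolvable.2 inferInstance x y⟩⟩
  · exact hb

/-- `C(Q) = Q` when `q` divides the order once. -/
theorem Data.cit_of_b_eq_one (h : Data R q a b) [IsSimpleGroup G] (hb : b = 1) : CIT.CIT G := by
  haveI := Fact.mk h.prime
  intro t ht
  have hS := Cfsg.Agent.S0904.result (G := G) 2 3 q a 2 Nat.prime_two Nat.prime_three (by norm_num)
    (Ne.symm h.ne_two) (Ne.symm h.ne_three) (by rw [h.card, hb, pow_one]; ring)
  set C := centralizer ({t} : Set G)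
  have h3 : ¬ 3 ∣ Nat.card C := h.not_three_dvd_centralizer (fun e => by simp [e] at ht)
    (by rw [ht]; norm_num)
  have hq : ¬ q ∣ Nat.card C := by
    intro hd
    obtain ⟨y, hy⟩ := exists_prime_orderOf_dvd_card' q hd
    rw [← Subgroup.orderOf_coe] at hy
    have hPc : Nat.card (zpowers (y : G)) = q := by rw [Nat.card_zpowers, hy]
    obtain ⟨P, hP⟩ := (IsPGroup.of_card (n := 1) (hPc.trans (pow_one q).symm) :
      IsPGroup q (zpowers (y : G))).exists_le_sylow
    have hPq : Nat.card (P : Subgroup G) = q := by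
      rw [P.card_eq_multiplicity, h.card, hb, pow_one,
        Nat.factorization_mul (by positivity) h.prime.ne_zero, Finsupp.add_apply,
        Nat.factorization_eq_zero_of_not_dvd, h.prime.factorization_self, zero_add, pow_one]
      intro hd'
      rcases h.prime.dvd_mul.1 hd' with h9 | h2
      · exact h.ne_three ((Nat.prime_dvd_prime_iff_eq h.prime Nat.prime_three).1
          (h.prime.dvd_of_dvd_pow (show q ∣ 3 ^ 2 by simpa using h9)))
      · exact h.ne_two ((Nat.prime_dvd_prime_iff_eq h.prime Nat.prime_two).1 (h.prime.dvd_of_dvd_pow h2))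
    have hPz : (P : Subgroup G) = zpowers (y : G) :=
      (eq_of_le_of_card_ge hP (by rw [hPq, hPc])).symm
    have htP : t ∈ (P : Subgroup G) := by
      rw [← hS P]
      refine mem_centralizer_iff.2 fun z hz => ?_
      obtain ⟨i, rfl⟩ := mem_zpowers_iff.1 ((SetLike.ext_iff.1 hPz z).1 hz)
      exact (Commute.zpow_left (mem_centralizer_singleton_iff.1 y.2 : Commute (y : G) t) i).eq
    have := Subgroup.orderOf_dvd_natCard (P : Subgroup G) htP
    rw [ht, hPq] at this
    exact h.ne_two ((Nat.prime_dvd_prime_iff_eq Nat.prime_two h.prime).1 this).symm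
  have hd : Nat.card C ∣ 2 ^ a := by
    have h1 : Nat.card C ∣ 2 ^ a * (3 ^ 2 * q ^ b) := by
      have := Subgroup.card_subgroup_dvd_card C
      rw [h.card] at this
      rw [show 2 ^ a * (3 ^ 2 * q ^ b) = 9 * 2 ^ a * q ^ b by ring]
      exact this
    refine Nat.Coprime.dvd_of_dvd_mul_right ?_ h1
    refine Nat.Coprime.mul_right (Nat.Coprime.pow_right _ ?_) (Nat.Coprime.pow_right _ ?_)
    · exact ((Nat.Prime.coprime_iff_not_dvd Nat.prime_three).2 h3).symm
    · exact ((Nat.Prime.coprime_iff_not_dvd h.prime).2 hq).symm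
  obtain ⟨i, -, hi⟩ := (Nat.dvd_prime_pow Nat.prime_two).1 hd
  exact IsPGroup.of_card hi

theorem char_two_case (h : Data R q a b) [IsSimpleGroup G] {Q n : ℕ} (hn : Q = 2 ^ n)
    (hcard : Nat.gcd 2 (Q - 1) * (9 * 2 ^ a * q ^ b) = Q * (Q ^ 2 - 1)) : n = 3 := by
  have hq5 := h.five_le
  have hb := h.one_le_b
  have hqodd := h.prime.odd_of_ne_two h.ne_two
  rcases Nat.eq_zero_or_pos n with rfl | hnpos
  · subst hn
    simp at hcard
    exact (h.prime.ne_zero hcard.1).elim
  have hgcd : Nat.gcd 2 (Q - 1) = 1 := by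
    rw [hn, Nat.Coprime.gcd_eq_one]
    rw [Nat.coprime_two_left]
    have : Even (2 ^ n) := (Nat.even_pow.2 ⟨even_two, hnpos.ne'⟩)
    obtain ⟨w, hw⟩ := this
    have := Nat.one_le_two_pow (n := n)
    exact ⟨w - 1, by omega⟩
  rw [hgcd, one_mul, hn] at hcard
  have hodd1 : ∀ t : ℕ, t % 2 = 1 → Nat.Coprime (2 ^ n) t := fun t ht =>
    Nat.Coprime.pow_left _ (Nat.coprime_two_left.2 (Nat.odd_iff.2 ht))
  have hR : 9 * q ^ b % 2 = 1 := Nat.odd_iff.1 ((show Odd 9 by decide).mul hqodd.pow)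
  have hE : (2 ^ n) % 2 = 0 := by
    obtain ⟨j, rfl⟩ := Nat.exists_eq_succ_of_ne_zero hnpos.ne'
    simp [pow_succ]
  have h1 := Nat.one_le_two_pow (n := n)
  have hS : ((2 ^ n) ^ 2 - 1) % 2 = 1 := by
    have : ((2 ^ n) ^ 2) % 2 = 0 := by rw [Nat.pow_mod, hE]
    have : 1 ≤ (2 ^ n) ^ 2 := Nat.one_le_pow _ _ h1
    omega
  have e : 2 ^ a * (9 * q ^ b) = 2 ^ n * ((2 ^ n) ^ 2 - 1) := by rw [← hcard]; ring
  have han : a = n := by
    refine le_antisymm ?_ ?_
    · refine (Nat.pow_dvd_pow_iff_le_right (by norm_num : 1 < 2)).1 (Nat.Coprime.dvd_of_dvd_mul_right ?_ (Dvd.intro _ e))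
      exact Nat.Coprime.pow_left _ (Nat.coprime_two_left.2 (Nat.odd_iff.2 hS))
    · refine (Nat.pow_dvd_pow_iff_le_right (by norm_num : 1 < 2)).1 (Nat.Coprime.dvd_of_dvd_mul_right ?_ (Dvd.intro _ e.symm))
      exact hodd1 _ hR
  subst han
  have e2 : 9 * q ^ b = (2 ^ a - 1) * (2 ^ a + 1) := by
    have := Nat.eq_of_mul_eq_mul_left (by positivity) e
    rw [this, mul_comm (2 ^ a - 1)]
    simpa using Nat.sq_sub_sq (2 ^ a) 1
  have hcop : Nat.Coprime (2 ^ a - 1) (2 ^ a + 1) := by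
    have hg := Nat.gcd_dvd_left (2 ^ a - 1) (2 ^ a + 1)
    have hg' := Nat.gcd_dvd_right (2 ^ a - 1) (2 ^ a + 1)
    have h2 : Nat.gcd (2 ^ a - 1) (2 ^ a + 1) ∣ 2 := by
      have := Nat.dvd_sub hg' hg
      rwa [show 2 ^ a + 1 - (2 ^ a - 1) = 2 by omega] at this
    rcases (Nat.dvd_prime Nat.prime_two).1 h2 with e3 | e3
    · exact e3
    · rw [e3] at hg; omega
  have h9 : 9 ∣ 2 ^ a - 1 ∨ 9 ∣ 2 ^ a + 1 :=
    (hcop.isPrimePow_dvd_mul ⟨3, 2, Nat.prime_three.prime, two_pos, by norm_num⟩).1 (Dvd.intro _ e2)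
  rcases h9 with ⟨w, hw⟩ | ⟨w, hw⟩
  · have e3 : q ^ b = w * (2 ^ a + 1) := by
      apply Nat.eq_of_mul_eq_mul_left (show 0 < 9 by norm_num)
      rw [e2, hw]; ring
    obtain ⟨i, -, hi⟩ := (Nat.dvd_prime_pow h.prime).1 (Dvd.intro _ e3.symm : w ∣ q ^ b)
    rcases Nat.eq_zero_or_pos i with rfl | hi0
    · exfalso
      rw [pow_zero] at hi
      subst hi
      rcases Nat.lt_or_ge a 4 with ha | ha
      · interval_cases a <;> norm_num at hw
      · have := Nat.pow_le_pow_right (show 0 < 2 by norm_num) ha; omega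
    · exfalso
      have h1' : q ∣ w := hi ▸ dvd_pow_self q hi0.ne'
      have h2' : q ∣ 2 ^ a + 1 := by
        have : 2 ^ a + 1 ∣ q ^ b := Dvd.intro_left _ e3.symm
        obtain ⟨l, -, hl⟩ := (Nat.dvd_prime_pow h.prime).1 this
        rcases Nat.eq_zero_or_pos l with rfl | hl0
        · simp at hl
        · exact hl ▸ dvd_pow_self q hl0.ne'
      have := Nat.dvd_gcd (h1'.mul_left 9) h2'
      rw [← hw, hcop.gcd_eq_one] at this
      exact h.prime.ne_one (Nat.dvd_one.1 this)
  · have e3 : q ^ b = (2 ^ a - 1) * w := by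
      apply Nat.eq_of_mul_eq_mul_left (show 0 < 9 by norm_num)
      rw [e2, hw]; ring
    obtain ⟨i, -, hi⟩ := (Nat.dvd_prime_pow h.prime).1 (Dvd.intro_left _ e3.symm : w ∣ q ^ b)
    rcases Nat.eq_zero_or_pos i with rfl | hi0
    · rw [pow_zero] at hi
      subst hi
      exact (Nat.pow_right_injective le_rfl) (show 2 ^ a = 2 ^ 3 by omega)
    · exfalso
      have h1' : q ∣ w := hi ▸ dvd_pow_self q hi0.ne'
      have h2' : q ∣ 2 ^ a - 1 := by
        have : 2 ^ a - 1 ∣ q ^ b := Dvd.intro _ e3.symm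
        obtain ⟨l, -, hl⟩ := (Nat.dvd_prime_pow h.prime).1 this
        rcases Nat.eq_zero_or_pos l with rfl | hl0
        · rw [pow_zero] at hl
          have : 2 ^ a = 2 ^ 1 := by omega
          rw [Nat.pow_right_injective le_rfl this] at hw
          omega
        · exact hl ▸ dvd_pow_self q hl0.ne'
      have := Nat.dvd_gcd h2' (h1'.mul_left 9)
      rw [← hw, hcop.gcd_eq_one] at this
      exact h.prime.ne_one (Nat.dvd_one.1 this)

theorem prime_case (h : Data R q a b) [IsSimpleGroup G] {Q k : ℕ} (hp : Q.Prime)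
    (hk : Q = 2 ^ k + 1 ∨ Q + 1 = 2 ^ k)
    (hcard : Nat.gcd 2 (Q - 1) * (9 * 2 ^ a * q ^ b) = Q * (Q ^ 2 - 1)) : Q = 17 := by
  have hq5 := h.five_le
  have hb := h.one_le_b
  have hpos : 0 < 9 * 2 ^ a * q ^ b := Nat.mul_pos (by positivity) (pow_pos h.prime.pos _)
  have hQ2 : Q ≠ 2 := by
    rintro rfl
    norm_num at hcard
    have : 9 ≤ 9 * 2 ^ a * q ^ b := Nat.le_of_dvd hpos (dvd_mul_of_dvd_left (dvd_mul_right 9 _) _)
    omega
  have hQ3 : Q ≠ 3 := by
    rintro rfl
    norm_num at hcard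
    have h5 : q ≤ q ^ b := Nat.le_self_pow (by omega) q
    have : 9 * q ^ b ≤ 9 * 2 ^ a * q ^ b := Nat.mul_le_mul_right _ (Nat.le_mul_of_pos_right 9 (by positivity))
    omega
  have hQodd := hp.odd_of_ne_two hQ2
  obtain ⟨M, hM⟩ := hQodd
  have hgcd : Nat.gcd 2 (Q - 1) = 2 := by
    rw [hM, show 2 * M + 1 - 1 = 2 * M by omega]; exact Nat.gcd_mul_right_right M 2
  rw [hgcd] at hcard
  have hQq : Q = q := by
    have hd : Q ∣ 2 * (9 * 2 ^ a * q ^ b) := Dvd.intro _ hcard.symm
    rcases hp.dvd_mul.1 hd with hd | hd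
    · exact absurd ((Nat.prime_dvd_prime_iff_eq hp Nat.prime_two).1 hd) hQ2
    rcases hp.dvd_mul.1 hd with hd | hd
    · rcases hp.dvd_mul.1 hd with hd | hd
      · exact absurd ((Nat.prime_dvd_prime_iff_eq hp Nat.prime_three).1
          (hp.dvd_of_dvd_pow (show Q ∣ 3 ^ 2 by simpa using hd))) hQ3
      · exact absurd ((Nat.prime_dvd_prime_iff_eq hp Nat.prime_two).1 (hp.dvd_of_dvd_pow hd)) hQ2
    · exact (Nat.prime_dvd_prime_iff_eq hp h.prime).1 (hp.dvd_of_dvd_pow hd)
  subst hQq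
  have hb1 : b = 1 := by
    by_contra hne
    have h2 : Q * Q ∣ Q * (Q ^ 2 - 1) := by
      rw [← hcard, ← pow_two]
      exact ((pow_dvd_pow Q (by omega : 2 ≤ b)).mul_left _).mul_left 2
    have h3 := Nat.dvd_of_mul_dvd_mul_left hp.pos h2
    have h4 : Q ∣ Q ^ 2 := dvd_pow_self Q two_ne_zero
    have h5 := Nat.dvd_sub h4 h3
    rw [Nat.sub_sub_self (Nat.one_le_pow _ _ hp.pos)] at h5
    exact hp.ne_one (Nat.dvd_one.1 h5)
  subst hb1
  have e : 18 * 2 ^ a = Q ^ 2 - 1 := by
    apply Nat.eq_of_mul_eq_mul_left hp.pos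
    rw [← hcard]; ring
  rcases k with _ | _ | k
  · simp at hk; omega
  · simp at hk; omega
  rcases hk with hk | hk
  · have e2 : 2 ^ a * 9 = 2 ^ (k + 2) * (2 ^ (k + 1) + 1) := by
      have h3 : Q ^ 2 - 1 = 2 * (2 ^ (k + 2) * (2 ^ (k + 1) + 1)) := by
        rw [hk, Nat.sub_eq_iff_eq_add (Nat.one_le_pow _ _ (Nat.succ_pos _)), Nat.succ_eq_add_one]
        ring
      omega
    have h9 : 2 ^ (k + 1) + 1 = 9 := by
      refine Nat.dvd_antisymm ?_ ?_
      · refine Nat.Coprime.dvd_of_dvd_mul_left (Nat.Coprime.pow_right _ ?_) (Dvd.intro_left _ e2.symm)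
        exact Nat.coprime_two_right.2 ⟨2 ^ k, by ring⟩
      · refine Nat.Coprime.dvd_of_dvd_mul_left (Nat.Coprime.pow_right _ ?_) (Dvd.intro_left _ e2)
        norm_num
    rw [hk, pow_succ]
    omega
  · obtain ⟨P, hP⟩ : ∃ P, 2 ^ k = P + 1 := ⟨2 ^ k - 1, by have := Nat.one_le_two_pow (n := k); omega⟩
    have hQv : Q = 4 * P + 3 := by rw [show k + 1 + 1 = k + 2 from rfl, pow_add, hP] at hk; omega
    have e2 : 2 ^ a * 9 = 2 ^ (k + 2) * (2 * P + 1) := by
      have h3 : Q ^ 2 - 1 = 2 * (2 ^ (k + 2) * (2 * P + 1)) := by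
        rw [hQv, Nat.sub_eq_iff_eq_add (Nat.one_le_pow _ _ (by omega)), pow_add, hP]
        ring
      omega
    exfalso
    have h9 : 2 * P + 1 = 9 := by
      refine Nat.dvd_antisymm ?_ ?_
      · refine Nat.Coprime.dvd_of_dvd_mul_left (Nat.Coprime.pow_right _ ?_) (Dvd.intro_left _ e2.symm)
        exact Nat.coprime_two_right.2 ⟨P, by ring⟩
      · refine Nat.Coprime.dvd_of_dvd_mul_left (Nat.Coprime.pow_right _ ?_) (Dvd.intro_left _ e2)
        norm_num
    have hP4 : P = 4 := by omega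
    subst hP4
    rcases k with _ | _ | _ | k <;> norm_num [pow_succ] at hP
    omega

/-- The conclusion of the theorem. -/
def Conclusion (G : Type u) [Group G] : Prop :=
  Nonempty (G ≃* ↥(alternatingGroup (Fin 6))) ∨
    (∃ (F : Type) (_ : Field F) (_ : Fintype F), Fintype.card F = 8 ∧
      Nonempty (G ≃* Matrix.ProjectiveSpecialLinearGroup (Fin 2) F)) ∨
    Nonempty (G ≃* Matrix.ProjectiveSpecialLinearGroup (Fin 2) (ZMod 17))

theorem Data.conclusion_of_cit (h : Data R q a b) [IsSimpleGroup G] (hC : CIT.CIT G) : Conclusion G := by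
  have hq5 := h.five_le
  have hqodd := h.prime.odd_of_ne_two h.ne_two
  rcases CIT.simple_cit h.nonab hC h.two_dvd with
    ⟨F, iF, iF', hF, ⟨e⟩⟩ | ⟨F, iF, iF', hF, ⟨e⟩⟩ | ⟨-, m, -, hm⟩
  · have hcard := CfsgLib.Classical.Two.card_PSL_two (F := F)
    rw [← Nat.card_congr e.toEquiv, h.card] at hcard
    rcases hF with hF | ⟨n, hn⟩ | ⟨hp, k, hk⟩
    · exact Or.inl ⟨e.trans (CfsgLib.Classical.nonempty_psl_nine_equiv_alt hF).some⟩
    · have hn3 : n = 3 := char_two_case h hn hcard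
      subst hn3
      exact Or.inr (Or.inl ⟨F, iF, iF', hn, ⟨e⟩⟩)
    · have h17 := prime_case h hp hk hcard
      haveI : Fact (Nat.Prime 17) := ⟨by norm_num⟩
      exact Or.inr (Or.inr ⟨e.trans (CfsgLib.Classical.Dickson.pslCongr (ZMod.ringEquivOfPrime F (by norm_num) h17)).symm⟩)
  · exfalso
    have hc := Nat.card_congr e.toEquiv
    rw [CfsgLib.Known.L34.card_PSL hF, h.card] at hc
    have h5 : 5 ∣ 9 * 2 ^ a * q ^ b := hc ▸ (by norm_num)
    have h7 : 7 ∣ 9 * 2 ^ a * q ^ b := hc ▸ (by norm_num)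
    have key : ∀ p : ℕ, p.Prime → 5 ≤ p → p ∣ 9 * 2 ^ a * q ^ b → p = q := by
      intro p hp hp5 hd
      rcases hp.dvd_mul.1 hd with hd | hd
      · rcases hp.dvd_mul.1 hd with hd | hd
        · have := (Nat.prime_dvd_prime_iff_eq hp Nat.prime_three).1 (hp.dvd_of_dvd_pow (show p ∣ 3 ^ 2 by simpa using hd))
          omega
        · have := (Nat.prime_dvd_prime_iff_eq hp Nat.prime_two).1 (hp.dvd_of_dvd_pow hd)
          omega
      · exact (Nat.prime_dvd_prime_iff_eq hp h.prime).1 (hp.dvd_of_dvd_pow hd)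
    have := key 5 (by norm_num) le_rfl h5
    have := key 7 (by norm_num) (by norm_num) h7
    omega
  · exfalso
    have h3 : 3 ∣ Nat.card G := by
      rw [h.card]; exact ((show 3 ∣ 9 by norm_num).mul_right _).mul_right _
    rw [hm] at h3
    set Q := 2 ^ (2 * m + 1)
    have hQ : Q % 3 = 2 := by
      simp only [Q, pow_succ, pow_mul]
      rw [Nat.mul_mod, Nat.pow_mod]
      norm_num
    obtain ⟨P, hP⟩ : ∃ P, Q = 3 * P + 2 := ⟨Q / 3, by omega⟩
    rw [hP, show 3 * P + 2 - 1 = 3 * P + 1 by omega] at h3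
    rcases Nat.prime_three.dvd_mul.1 h3 with h3 | h3
    · rcases Nat.prime_three.dvd_mul.1 h3 with h3 | h3
      · have := Nat.prime_three.dvd_of_dvd_pow h3; omega
      · rw [show (3 * P + 2) ^ 2 + 1 = 3 * (3 * P * P + 4 * P + 1) + 2 by ring] at h3; omega
    · omega

end CfsgLib.Known.ThreeNine
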