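import Cfsg.Agent.Lib.Known.ThreeNine.BigRankTwo

/-!
# The Sylow 2-subgroup of type `U₃(4)` is excluded, so a large invariant 2-subgroup gives a CIT group
-/

set_option autoImplicit false
set_option linter.all false

namespace CfsgLib.Known.ThreeNine

open Subgroup

universe u

variable {G : Type u} [Group G] [Finite G] {R : Sylow 3 G} {q a b : ℕ} {k : G} {U V : Subgroup G}

theorem eq_one_of_sq {D : Subgroup G} (hD : Odd (Nat.card D)) {x : G} (hx : x ∈ D) (hx2 : x * x = 1) : x = 1 := by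
  have h1 : orderOf x ∣ 2 := orderOf_dvd_of_pow_eq_one (by rw [pow_two]; exact hx2)
  rcases (Nat.dvd_prime Nat.prime_two).1 h1 with e | e
  · exact orderOf_eq_one_iff.1 e
  · exact absurd (e ▸ Subgroup.orderOf_dvd_natCard D hx : 2 ∣ Nat.card D) hD.not_two_dvd_nat

/-- A fixed point free involution inverts an odd subgroup. -/
theorem inverts_of_fpf {D : Subgroup G} (hD : Odd (Nat.card D)) {v : G} (hv2 : v * v = 1)
    (hn : ∀ d ∈ D, v * d * v⁻¹ ∈ D) (hfix : ∀ d ∈ D, v * d * v⁻¹ = d → d = 1) :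
    ∀ d ∈ D, v * d * v⁻¹ = d⁻¹ := by
  let f : D → D := fun d => ⟨(d : G)⁻¹ * (v * d * v⁻¹), D.mul_mem (D.inv_mem d.2) (hn d d.2)⟩
  have hf : Function.Injective f := by
    intro d e hde
    have h1 : (d : G)⁻¹ * (v * d * v⁻¹) = (e : G)⁻¹ * (v * e * v⁻¹) := congrArg Subtype.val hde
    refine Subtype.ext (mul_inv_eq_one.1 (hfix _ (D.mul_mem d.2 (D.inv_mem e.2)) ?_))
    calc v * ((d : G) * (e : G)⁻¹) * v⁻¹ = (d : G) * ((d : G)⁻¹ * (v * d * v⁻¹)) * (v * e * v⁻¹)⁻¹ := by group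
      _ = (d : G) * (e : G)⁻¹ := by rw [h1]; group
  intro d hd
  obtain ⟨e, he⟩ := Finite.surjective_of_injective hf ⟨d, hd⟩
  have e1 : d = (e : G)⁻¹ * (v * e * v⁻¹) := (congrArg Subtype.val he).symm
  rw [e1]
  calc v * ((e : G)⁻¹ * (v * e * v⁻¹)) * v⁻¹ = v * (e : G)⁻¹ * v⁻¹ * ((v * v) * e * (v * v)⁻¹) := by group
    _ = _ := by rw [hv2]; group

/-- A faithful action of a group of type `U₃(4)` modulo a central involution needs `q⁴` elements. -/
theorem pow_four_le_of_action {U V D : Subgroup G} {q : ℕ} [Fact q.Prime] (hq : Odd q) {c v : G}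
    (hVU : V ≤ U) (hVmem : ∀ x ∈ V, x = 1 ∨ x = c ∨ x = v ∨ x = c * v) (hcV : c ∈ V) (hvV : v ∈ V)
    (hVc : ∀ x ∈ V, ∀ u ∈ U, x * u = u * x) (hVe : ∀ x ∈ V, x * x = 1)
    (hD1 : D ≠ ⊥) (hDc : ∀ x ∈ D, ∀ y ∈ D, x * y = y * x) (hDq : ∀ x ∈ D, x ^ q = 1)
    (hUD : ∀ u ∈ U, ∀ d ∈ D, u * d * u⁻¹ ∈ D) (hcD : ∀ d ∈ D, c * d * c⁻¹ = d)
    (hvD : ∀ d ∈ D, v * d * v⁻¹ = d⁻¹) (hsize : 64 ≤ Nat.card U) (hV4 : Nat.card V ≤ 4)
    (hcomm : ∀ x ∈ U, ∀ y ∈ U, x * y * x⁻¹ * y⁻¹ ∈ V)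
    (hsq : ∃ s ∈ U, s ∉ V ∧ s * s = c)
    (hnc : ∀ x ∈ U, x ∉ V → ∃ y ∈ U, x * y * x⁻¹ * y⁻¹ = v ∨ x * y * x⁻¹ * y⁻¹ = c * v) :
    q ^ 4 ∣ Nat.card D := by
  classical
  have hDodd : Odd (Nat.card D) := by
    have hp : IsPGroup q D := fun x => ⟨1, Subtype.ext (by simpa using hDq x x.2)⟩
    obtain ⟨i, hi⟩ := hp.exists_card_eq
    rw [hi]; exact hq.pow
  set M : G → Prop := fun x => x = 1 ∨ x = c with hM
  have hMD : ∀ x, M x → ∀ d ∈ D, x * d * x⁻¹ = d := by
    rintro x (rfl | rfl) d hd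
    · group
    · exact hcD d hd
  have hN : ∀ x, (x = v ∨ x = c * v) → ∀ d ∈ D, x * d * x⁻¹ = d⁻¹ := by
    rintro x (rfl | rfl) d hd
    · exact hvD d hd
    · calc c * v * d * (c * v)⁻¹ = c * (v * d * v⁻¹) * c⁻¹ := by group
        _ = d⁻¹ := by rw [hvD d hd, hcD _ (D.inv_mem hd)]
  have hdich : ∀ x ∈ V, M x ∨ (x = v ∨ x = c * v) := fun x hx => by
    rcases hVmem x hx with e | e | e | e
    exacts [Or.inl (Or.inl e), Or.inl (Or.inr e), Or.inr (Or.inl e), Or.inr (Or.inr e)]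
  have hnot : ∀ x, M x → (x = v ∨ x = c * v) → False := by
    intro x hx hx'
    obtain ⟨d, hd, hd1⟩ := D.bot_or_exists_ne_one.resolve_left hD1
    have e := (hMD x hx d hd).symm.trans (hN x hx' d hd)
    exact hd1 (eq_one_of_sq hDodd hd (mul_eq_one_iff_eq_inv.2 e))
  have hcc : c * c = 1 := hVe c hcV
  have hMmul : ∀ x y, M x → M y → M (x * y) := by
    rintro x y (rfl | rfl) (rfl | rfl)
    · exact Or.inl (one_mul 1)
    · exact Or.inr (one_mul _)
    · exact Or.inr (mul_one _)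
    · exact Or.inl hcc
  have hNmul : ∀ x y, (x = v ∨ x = c * v) → (y = v ∨ y = c * v) → M (x * y) := by
    intro x y hx hy
    have hxV : x ∈ V := by rcases hx with rfl | rfl; exacts [hvV, V.mul_mem hcV hvV]
    have hyV : y ∈ V := by rcases hy with rfl | rfl; exacts [hvV, V.mul_mem hcV hvV]
    refine (hdich _ (V.mul_mem hxV hyV)).resolve_right fun h' => ?_
    obtain ⟨d, hd, hd1⟩ := D.bot_or_exists_ne_one.resolve_left hD1
    have e1 : x * y * d * (x * y)⁻¹ = d := by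
      calc x * y * d * (x * y)⁻¹ = x * (y * d * y⁻¹) * x⁻¹ := by group
        _ = d := by rw [hN y hy d hd, hN x hx _ (D.inv_mem hd), inv_inv]
    exact hd1 (eq_one_of_sq hDodd hd (mul_eq_one_iff_eq_inv.2 (e1.symm.trans (hN _ h' d hd))))
  set β : G → G → G := fun x y => x * y * x⁻¹ * y⁻¹ with hβ
  have hβmul : ∀ x ∈ U, ∀ y ∈ U, ∀ z ∈ U, β x (y * z) = β x y * β x z := by
    intro x hx y hy z hz
    have e := hVc _ (hcomm x hx z hz) y hy
    calc β x (y * z) = (x * y * x⁻¹ * y⁻¹) * (y * (x * z * x⁻¹ * z⁻¹) * y⁻¹) := by rw [hβ]; group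
      _ = _ := by rw [← e, hβ]; group
  have hswap : ∀ x ∈ U, ∀ y ∈ U, β y x = β x y := by
    intro x hx y hy
    calc β y x = (β x y)⁻¹ := by rw [hβ]; group
      _ = β x y := inv_eq_of_mul_eq_one_right (hVe _ (hcomm x hx y hy))
  have hact : ∀ x y d : G, x * (y * d * y⁻¹) * x⁻¹ = β x y * (y * (x * d * x⁻¹) * y⁻¹) * (β x y)⁻¹ := by
    intro x y d; rw [hβ]; group
  obtain ⟨s, hsU, hsV, hss⟩ := hsq
  have hs2 : ∀ d ∈ D, s * (s * d * s⁻¹) * s⁻¹ = d := fun d hd => by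
    calc s * (s * d * s⁻¹) * s⁻¹ = (s * s) * d * (s * s)⁻¹ := by group
      _ = d := by rw [hss, hcD d hd]
  obtain ⟨t, htU, ht⟩ := hnc s hsU hsV
  let E : Subgroup G :=
    { carrier := {d | d ∈ D ∧ s * d * s⁻¹ = d}
      one_mem' := ⟨D.one_mem, by group⟩
      mul_mem' := fun {x y} hx hy => ⟨D.mul_mem hx.1 hy.1, by
        rw [show s * (x * y) * s⁻¹ = (s * x * s⁻¹) * (s * y * s⁻¹) by group, hx.2, hy.2]⟩
      inv_mem' := fun {x} hx => ⟨D.inv_mem hx.1, by
        rw [show s * x⁻¹ * s⁻¹ = (s * x * s⁻¹)⁻¹ by group, hx.2]⟩ }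
  have hflip : ∀ d ∈ D, s * (t * d * t⁻¹) * s⁻¹ = (t * (s * d * s⁻¹) * t⁻¹)⁻¹ := fun d hd => by
    rw [hact s t d]
    exact hN _ ht _ (hUD t htU _ (hUD s hsU d hd))
  have hE1 : E ≠ ⊥ := by
    intro hE
    obtain ⟨d, hd, hd1⟩ := D.bot_or_exists_ne_one.resolve_left hD1
    have hmem : d * (s * d * s⁻¹) ∈ E := ⟨D.mul_mem hd (hUD s hsU d hd), by
      rw [show s * (d * (s * d * s⁻¹)) * s⁻¹ = (s * d * s⁻¹) * (s * (s * d * s⁻¹) * s⁻¹) by group,
        hs2 d hd, hDc _ (hUD s hsU d hd) d hd]⟩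
    rw [hE, mem_bot] at hmem
    have e : s * d * s⁻¹ = d⁻¹ := eq_inv_of_mul_eq_one_right hmem
    have hmem' : t * d * t⁻¹ ∈ E := ⟨hUD t htU d hd, by rw [hflip d hd, e]; group⟩
    rw [hE, mem_bot, conj_eq_one_iff] at hmem'
    exact hd1 hmem'
  have hEq : IsPGroup q E := fun x => ⟨1, Subtype.ext (by simpa using hDq x x.2.1)⟩
  obtain ⟨i, hi⟩ := hEq.exists_card_eq
  have hprod : Nat.card E * Nat.card E ≤ Nat.card D := by
    rw [← Nat.card_prod]
    refine Nat.card_le_card_of_injective (fun p : E × E =>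
      (⟨(p.1 : G) * (t * p.2 * t⁻¹), D.mul_mem p.1.2.1 (hUD t htU _ p.2.2.1)⟩ : D)) fun p p' e => ?_
    have e' : (p.1 : G) * (t * p.2 * t⁻¹) = p'.1 * (t * p'.2 * t⁻¹) := congrArg Subtype.val e
    set x := (p'.1 : G)⁻¹ * p.1 with hx
    set y := (p'.2 : G) * (p.2 : G)⁻¹ with hy
    have hxy : x = t * y * t⁻¹ := by
      rw [hx, hy, eq_comm, ← mul_inv_eq_iff_eq_mul.2 e'.symm]; group
    have hxE : x ∈ E := E.mul_mem (E.inv_mem p'.1.2) p.1.2
    have hyE : y ∈ E := E.mul_mem p'.2.2 (E.inv_mem p.2.2)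
    have h2 : x = x⁻¹ := by
      conv_lhs => rw [← hxE.2, hxy, hflip y hyE.1, hyE.2, ← hxy]
    have hx1 : x = 1 := eq_one_of_sq hDodd hxE.1 (mul_eq_one_iff_eq_inv.2 h2)
    rw [hx1, eq_comm, conj_eq_one_iff] at hxy
    exact Prod.ext (Subtype.ext (inv_mul_eq_one.1 hx1).symm) (Subtype.ext (mul_inv_eq_one.1 hxy).symm)
  have hi1 : i ≠ 0 := fun e => hE1 (eq_bot_of_card_eq E (by rw [hi, e, pow_zero]))
  have hDp : IsPGroup q D := fun x => ⟨1, Subtype.ext (by simpa using hDq x x.2)⟩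
  obtain ⟨j, hj⟩ := hDp.exists_card_eq
  rw [hj]
  refine pow_dvd_pow q ?_
  have hq1 : 1 < q := (Fact.out : q.Prime).one_lt
  rw [hi, hj, ← pow_add] at hprod
  have hij := (Nat.pow_le_pow_iff_right hq1).1 hprod
  by_contra hlt
  obtain rfl : i = 1 := by omega
  rw [pow_one] at hi
  -- `E` is cyclic of prime order
  obtain ⟨e0, he0, he01⟩ := E.bot_or_exists_ne_one.resolve_left hE1
  haveI : IsCyclic E := isCyclic_of_prime_card hi
  have hgen : ∀ e ∈ E, ∃ n : ℤ, e = e0 ^ n := by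
    intro e he
    have h1 : zpowers e0 = E := eq_of_le_of_card_ge (zpowers_le.2 he0) (by
      rw [hi, Nat.card_zpowers]
      exact (orderOf_eq_prime (hDq e0 he0.1) he01).ge)
    obtain ⟨n, hn⟩ := mem_zpowers_iff.1 (h1.symm ▸ he : e ∈ zpowers e0)
    exact ⟨n, hn.symm⟩
  have hcpow : ∀ x y : G, ∀ n : ℤ, x * y ^ n * x⁻¹ = (x * y * x⁻¹) ^ n := fun x y n => by
    exact (map_zpow (MulAut.conj x) y n)
  let T : Subgroup G :=
    { carrier := {u | u ∈ U ∧ M (β s u)}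
      one_mem' := ⟨U.one_mem, Or.inl (by rw [hβ]; group)⟩
      mul_mem' := fun {x y} hx hy => ⟨U.mul_mem hx.1 hy.1, by
        rw [hβmul s hsU x hx.1 y hy.1]; exact hMmul _ _ hx.2 hy.2⟩
      inv_mem' := fun {x} hx => ⟨U.inv_mem hx.1, by
        have h1 : β s x * β s x⁻¹ = 1 := by
          rw [← hβmul s hsU x hx.1 _ (U.inv_mem hx.1), mul_inv_cancel, hβ]; group
        rw [eq_inv_of_mul_eq_one_right h1, inv_eq_of_mul_eq_one_right (hVe _ (hcomm s hsU x hx.1))]
        exact hx.2⟩ }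
  have hTE : ∀ x ∈ T, ∀ e ∈ E, x * e * x⁻¹ ∈ E := by
    intro x hx e he
    refine ⟨hUD x hx.1 e he.1, ?_⟩
    rw [hact s x e, he.2]
    exact hMD _ hx.2 _ (hUD x hx.1 e he.1)
  have hTF : ∀ x ∈ T, ∀ f ∈ D, s * f * s⁻¹ = f⁻¹ → s * (x * f * x⁻¹) * s⁻¹ = (x * f * x⁻¹)⁻¹ := by
    intro x hx f hf e
    rw [hact s x f, e, hMD _ hx.2 _ (hUD x hx.1 _ (D.inv_mem hf))]
    group
  have hFE : ∀ f ∈ D, s * f * s⁻¹ = f⁻¹ → t⁻¹ * f * t ∈ E := by
    intro f hf e
    have hfd : t⁻¹ * f * t ∈ D := by simpa using hUD t⁻¹ (U.inv_mem htU) f hf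
    refine ⟨hfd, ?_⟩
    have h1 := hflip _ hfd
    rw [show t * (t⁻¹ * f * t) * t⁻¹ = f by group, e] at h1
    have h2 : t * (s * (t⁻¹ * f * t) * s⁻¹) * t⁻¹ = f := (inv_injective h1).symm
    calc s * (t⁻¹ * f * t) * s⁻¹ = t⁻¹ * (t * (s * (t⁻¹ * f * t) * s⁻¹) * t⁻¹) * t := by group
      _ = t⁻¹ * f * t := by rw [h2]
  have hTM : ∀ x ∈ T, ∀ y ∈ T, M (β x y) := by
    intro x hx y hy
    refine (hdich _ (hcomm x hx.1 y hy.1)).resolve_right fun h' => ?_
    have hone : ∀ f ∈ D, (∀ w ∈ T, ∃ n : ℤ, w * f * w⁻¹ = f ^ n) → f = 1 := by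
      intro f hf hpow
      obtain ⟨m, hm⟩ := hpow x hx
      obtain ⟨n, hn⟩ := hpow y hy
      have e1 : x * (y * f * y⁻¹) * x⁻¹ = y * (x * f * x⁻¹) * y⁻¹ := by
        rw [hn, hm, hcpow, hcpow, hm, hn, ← zpow_mul, ← zpow_mul, mul_comm]
      rw [hact x y f, hN _ h' _ (hUD y hy.1 _ (hUD x hx.1 f hf))] at e1
      have := eq_one_of_sq hDodd (hUD y hy.1 _ (hUD x hx.1 f hf)) (mul_eq_one_iff_eq_inv.2 e1.symm)
      rw [conj_eq_one_iff, conj_eq_one_iff] at this
      exact this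
    refine he01 (hone e0 he0.1 fun w hw => hgen _ (hTE w hw e0 he0))
  set t0 := t
  have ht0 : ¬ M (β s t0) := fun hm => hnot _ hm ht
  have hhalf : ∀ (X : Subgroup G) (ψ : G → G), (∀ x ∈ X, ∀ y ∈ X, ψ (x * y) = ψ x * ψ y) →
      (∀ x ∈ X, ψ x ∈ V) → Nat.card X ≤ 2 * Nat.card {x : X // M (ψ x)} := by
    intro X ψ hψ hψV
    by_cases hall : ∀ x : X, M (ψ x)
    · rw [Nat.card_congr (Equiv.subtypeUnivEquiv hall)]; omega
    push Not at hall
    obtain ⟨x0, hx0⟩ := hall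
    let f : X → {x : X // M (ψ x)} × Bool := fun x =>
      if hx : M (ψ x) then (⟨x, hx⟩, true)
      else (⟨x * x0, by
        show M (ψ ((x : G) * x0))
        rw [hψ x x.2 x0 x0.2]
        exact hNmul _ _ ((hdich _ (hψV x x.2)).resolve_left hx) ((hdich _ (hψV x0 x0.2)).resolve_left hx0)⟩, false)
    have hf : Function.Injective f := by
      intro u u' e
      simp only [f] at e
      split_ifs at e with hu hu' <;> simp only [Prod.mk.injEq, Subtype.mk.injEq, Bool.true_eq_false,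
        Bool.false_eq_true, and_false, and_true] at e
      · exact e
      · exact mul_right_cancel e
    have := Nat.card_le_card_of_injective f hf
    rw [Nat.card_prod, Nat.card_eq_fintype_card (α := Bool), Fintype.card_bool] at this
    omega
  have hT32 : Nat.card U ≤ 2 * Nat.card T := by
    refine (hhalf U (β s) (fun x hx y hy => hβmul s hsU x hx y hy) fun x hx => hcomm s hsU x hx).trans ?_
    refine Nat.mul_le_mul_left 2 (Nat.card_le_card_of_injective (fun x => (⟨x.1, x.1.2, x.2⟩ : T)) fun x y e => ?_)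
    exact Subtype.ext (Subtype.ext (congrArg Subtype.val e :))
  have hT16 := hhalf T (β t) (fun x hx y hy => hβmul t htU x hx.1 y hy.1) fun x hx => hcomm t htU x hx.1
  obtain ⟨w, hw, hwV⟩ : ∃ w : {x : T // M (β t x)}, True ∧ ((w.1 : T) : G) ∉ V := by
    by_contra hcon
    push Not at hcon
    have := Nat.card_le_card_of_injective (fun x : {x : T // M (β t x)} => (⟨x.1, hcon x trivial⟩ : V))
      fun x y e => Subtype.ext (Subtype.ext (congrArg Subtype.val e :))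
    omega
  obtain ⟨u, hu, hwu⟩ := hnc w.1 w.1.2.1 hwV
  refine hnot (β w.1 u) ?_ hwu
  by_cases huT : M (β s u)
  · exact hTM _ w.1.2 u ⟨hu, huT⟩
  have hutT : u * t ∈ T := ⟨U.mul_mem hu htU, by
    rw [hβmul s hsU u hu t htU]; exact hNmul _ _ ((hdich _ (hcomm s hsU u hu)).resolve_left huT) ht⟩
  have h1 := hTM _ w.1.2 _ hutT
  rw [hβmul _ w.1.2.1 u hu t htU] at h1
  have h2 : M (β w.1 t) := by rw [hswap t htU _ w.1.2.1]; exact w.2
  have h3 := hMmul _ _ h1 h2
  rwa [mul_assoc, hVe _ (hcomm _ w.1.2.1 t htU), mul_one] at h3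

namespace Big

variable {S : Sylow 2 G}

/-- The core of a centraliser of type `U₃(4)`. -/
theorem core_big (hB : Big k U S) (h : One R q a b) [IsSimpleGroup G] {c : G} (hV : Inv k V) (hV4 : Nat.card V = 4)
    (hVU : V ≤ U) (hVe : ∀ v ∈ V, v * v = 1) (hCV : centralizer (V : Set G) = U) (hcV : c ∈ V) (hc1 : c ≠ 1)
    (hVmem : ∀ v ∈ V, v = 1 ∨ v = c ∨ v = k * c * k⁻¹ ∨ v = c * (k * c * k⁻¹))
    (hΩ : ∀ x ∈ U, x * x = 1 → x ∈ V) (h64 : Nat.card U = 64) (hsq : ∀ u ∈ U, u * u ∈ V)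
    (hcen : ∀ u ∈ U, (∀ w ∈ U, u * w = w * u) → u ∈ V)
    (hcomm : ∀ u ∈ U, ∀ w ∈ U, u * w * u⁻¹ * w⁻¹ ∈ V) (hD : Cfsg.centralizerPPrimeCore 2 c ≠ ⊥) :
    q ^ 4 ∣ Nat.card (centralizer ({c} : Set G)) := by
  classical
  haveI := Fact.mk h.prime
  haveI : Fact (Nat.Prime 2) := ⟨Nat.prime_two⟩
  set C := centralizer ({c} : Set G) with hC
  set D := Cfsg.centralizerPPrimeCore 2 c with hDdef
  have hDC : D ≤ C := map_subtype_le _
  have hDodd : Odd (Nat.card D) := by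
    rw [hDdef, Cfsg.centralizerPPrimeCore, card_map_of_injective (Subgroup.subtype_injective _)]
    rw [← Nat.not_even_iff_odd, even_iff_two_dvd]
    exact fun hd => (Nat.Prime.coprime_iff_not_dvd Nat.prime_two).1 (CfsgLib.Core.coprime_card_pPrimeCore 2 _).symm hd
  have hnorm : ∀ g ∈ C, ∀ d ∈ D, g * d * g⁻¹ ∈ D := by
    rintro g hg _ ⟨d, hd, rfl⟩
    exact ⟨⟨g, hg⟩ * d * ⟨g, hg⟩⁻¹, (CfsgLib.Core.normal_pPrimeCore 2 C).conj_mem d hd _, rfl⟩
  have hVc : ∀ x ∈ V, ∀ u ∈ U, x * u = u * x := fun x hx u hu => by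
    rw [← hCV] at hu; exact mem_centralizer_iff.1 hu x hx
  have hUC : U ≤ C := fun u hu => mem_centralizer_singleton_iff.2 (hVc c hcV u hu).symm
  set v := k * c * k⁻¹ with hv
  have hvV : v ∈ V := hV.conj_mem hcV
  have hcD : ∀ d ∈ D, c * d * c⁻¹ = d := fun d hd =>
    mul_inv_eq_iff_eq_mul.2 (mem_centralizer_singleton_iff.1 (hDC hd)).symm
  have hfix : ∀ d ∈ D, v * d * v⁻¹ = d → d = 1 := by
    intro d hd e
    have hdU : d ∈ U := by
      rw [← hCV]
      have e1 : v * d = d * v := mul_inv_eq_iff_eq_mul.1 e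
      have e2 : c * d = d * c := (mem_centralizer_singleton_iff.1 (hDC hd)).symm
      refine mem_centralizer_iff.2 fun x hx => ?_
      rcases hVmem x hx with rfl | rfl | rfl | rfl
      · simp
      · exact e2
      · exact e1
      · rw [mul_assoc, e1, ← mul_assoc, e2, mul_assoc]
    obtain ⟨i, hi⟩ := IsPGroup.iff_orderOf.1 hB.two ⟨d, hdU⟩
    rw [← Subgroup.orderOf_coe] at hi
    refine orderOf_eq_one_iff.1 (Nat.eq_one_of_dvd_coprimes ?_ (dvd_of_eq hi) (Subgroup.orderOf_dvd_natCard D hd))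
    exact Nat.Coprime.pow_left i (Nat.coprime_two_left.2 hDodd)
  have hvD := inverts_of_fpf hDodd (hVe v hvV) (hnorm v (hUC (hVU hvV))) hfix
  have hDc : ∀ x ∈ D, ∀ y ∈ D, x * y = y * x := by
    intro x hx y hy
    have e := hvD _ (D.mul_mem hx hy)
    rw [show v * (x * y) * v⁻¹ = (v * x * v⁻¹) * (v * y * v⁻¹) by group, hvD x hx, hvD y hy, ← mul_inv_rev] at e
    exact (inv_injective e).symm
  let D1 : Subgroup G :=
    { carrier := {d | d ∈ D ∧ d ^ q = 1}
      one_mem' := ⟨D.one_mem, one_pow q⟩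
      mul_mem' := fun {x y} hx hy => ⟨D.mul_mem hx.1 hy.1, by
        rw [(show Commute x y from hDc x hx.1 y hy.1).mul_pow, hx.2, hy.2, one_mul]⟩
      inv_mem' := fun {x} hx => ⟨D.inv_mem hx.1, by rw [inv_pow, hx.2, inv_one]⟩ }
  have hD11 : D1 ≠ ⊥ := by
    have h3 : ¬ 3 ∣ Nat.card C := h.not_three_dvd_centralizer hc1
      (by rw [orderOf_eq_prime (p := 2) (by rw [pow_two]; exact hVe c hcV) hc1]; norm_num)
    have hne : Nat.card D ≠ 1 := fun e => hD (eq_bot_of_card_eq D e)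
    obtain ⟨p, hp, hpd⟩ := Nat.exists_prime_and_dvd hne
    haveI := Fact.mk hp
    have hpq : p = q := (h.primes (card_subgroup_dvd_card D) (fun hd => h3 (hd.trans (card_dvd_of_le hDC))) hp hpd).resolve_left
      fun e => hDodd.not_two_dvd_nat (e ▸ hpd)
    obtain ⟨x, hx⟩ := exists_prime_orderOf_dvd_card' p hpd
    rw [← Subgroup.orderOf_coe] at hx
    intro e
    have hmem : (x : G) ∈ D1 := ⟨x.2, by rw [← hpq, ← hx]; exact pow_orderOf_eq_one _⟩
    rw [e, mem_bot] at hmem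
    rw [hmem, orderOf_one] at hx
    exact hp.ne_one hx.symm
  have horb : k * v * k⁻¹ = c * v := by
    have e := eq_inv_of_mul_eq_one_right (hV.orbit_prod h.toData hB.order hcV)
    rw [e, mul_inv_rev, inv_eq_of_mul_eq_one_right (hVe v hvV), inv_eq_of_mul_eq_one_right (hVe c hcV)]
    exact (hVc c hcV v (hVU hvV)).symm
  have hsq' : ∃ s ∈ U, s ∉ V ∧ s * s = c := by
    obtain ⟨u, hu, huV⟩ : ∃ u ∈ U, u ∉ V := by
      by_contra hcon
      push Not at hcon
      have := card_le_of_le (show U ≤ V from hcon)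
      omega
    have key : ∀ w ∈ U, w * w = c → ∃ s ∈ U, s ∉ V ∧ s * s = c := fun w hw e =>
      ⟨w, hw, fun hwV => hc1 (e.symm.trans (hVe w hwV)), e⟩
    rcases hVmem _ (hsq u hu) with e | e | e | e
    · exact absurd (hΩ u hu e) huV
    · exact key u hu e
    · refine key _ (hB.max.1.conj_mem' hB.order hu) ?_
      calc k⁻¹ * u * k * (k⁻¹ * u * k) = k⁻¹ * (u * u) * k := by group
        _ = c := by rw [e, hv]; group
    · refine key _ (hB.max.1.conj_mem hu) ?_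
      calc k * u * k⁻¹ * (k * u * k⁻¹) = k * (u * u) * k⁻¹ := by group
        _ = k * (k * (k * c * k⁻¹) * k⁻¹) * k⁻¹ := by rw [e, ← horb, hv]
        _ = c := conj_cube hB.order c
  have hnc : ∀ x ∈ U, x ∉ V → ∃ y ∈ U, x * y * x⁻¹ * y⁻¹ = v ∨ x * y * x⁻¹ * y⁻¹ = c * v := by
    intro x hx hxV
    by_contra hcon
    push Not at hcon
    have hall : ∀ y ∈ U, x * y * x⁻¹ * y⁻¹ = 1 ∨ x * y * x⁻¹ * y⁻¹ = c := fun y hy => by
      rcases hVmem _ (hcomm x hx y hy) with e | e | e | e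
      exacts [Or.inl e, Or.inr e, absurd e (hcon y hy).1, absurd e (hcon y hy).2]
    set W := U ⊓ centralizer ({x} : Set G)
    have hW : Inv k W := hB.max.1.centralizer h.toData hB.order fun y hy => by
      rw [Set.mem_singleton_iff] at hy; rw [hy]; exact hx
    have hmemW : ∀ y ∈ U, x * y * x⁻¹ * y⁻¹ = 1 → y ∈ W := fun y hy e =>
      ⟨hy, mem_centralizer_singleton_iff.2 (mul_inv_eq_iff_eq_mul.1 (mul_inv_eq_one.1 e)).symm⟩
    refine hxV (hcen x hx fun y hy => ?_)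
    by_cases hex : ∀ y ∈ U, x * y * x⁻¹ * y⁻¹ = 1
    · exact mul_inv_eq_iff_eq_mul.1 (mul_inv_eq_one.1 (hex y hy))
    push Not at hex
    obtain ⟨y0, hy0, hy01⟩ := hex
    have heq : W = U := hW.eq_of_card_le h.toData hB.order hB.max.1 hB.two inf_le_left (by
      let f : U → W × Bool := fun z =>
        if hz : x * (z : G) * x⁻¹ * (z : G)⁻¹ = 1 then (⟨z, hmemW z z.2 hz⟩, true)
        else (⟨(z : G) * y0, hmemW _ (U.mul_mem z.2 hy0) (by
          have e1 := (hall z z.2).resolve_left hz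
          have e2 := (hall y0 hy0).resolve_left hy01
          calc x * ((z : G) * y0) * x⁻¹ * ((z : G) * y0)⁻¹ =
                (x * z * x⁻¹ * (z : G)⁻¹) * ((z : G) * (x * y0 * x⁻¹ * y0⁻¹) * (z : G)⁻¹) := by group
            _ = c * c := by rw [e1, e2, ← hVc c hcV z z.2, mul_inv_cancel_right]
            _ = 1 := hVe c hcV)⟩, false)
      have hf : Function.Injective f := by
        intro u u' e
        simp only [f] at e
        split_ifs at e with hu hu' <;> simp only [Prod.mk.injEq, Subtype.mk.injEq, Bool.true_eq_false,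
          Bool.false_eq_true, and_false, and_true] at e
        · exact Subtype.ext e
        · exact Subtype.ext (mul_right_cancel e)
      have := Nat.card_le_card_of_injective f hf
      rw [Nat.card_prod, Nat.card_eq_fintype_card (α := Bool), Fintype.card_bool] at this
      omega)
    exact (mem_centralizer_singleton_iff.1 (heq.symm ▸ hy : y ∈ W).2).symm
  have hqodd : Odd q := h.prime.odd_of_ne_two h.ne_two
  refine (pow_four_le_of_action (D := D1) hqodd hVU hVmem hcV hvV hVc hVe hD11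
    (fun x hx y hy => hDc x hx.1 y hy.1) (fun x hx => hx.2) ?_ (fun d hd => hcD d hd.1) (fun d hd => hvD d hd.1)
    h64.ge hV4.le hcomm hsq' hnc).trans ((card_dvd_of_le (show D1 ≤ D from fun d hd => hd.1)).trans (card_dvd_of_le hDC))
  intro u hu d hd
  refine ⟨hnorm u (hUC hu) d hd.1, ?_⟩
  rw [conj_pow, hd.2]; group

end Big

/-- A maximal invariant 2-subgroup of order at least sixteen gives a CIT group. -/
theorem One.cit_of_big (h : One R q a b) [IsSimpleGroup G] {S : Sylow 2 G} (hB : Big k U S) :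
    CIT.CIT G := by
  classical
  haveI := Fact.mk h.prime
  haveI : Fact (Nat.Prime 2) := ⟨Nat.prime_two⟩
  obtain ⟨V, c, hV, hV4, hVU, hcV, hc1, hVe, hcS, hCV, hNV, hVmem⟩ := hB.exists_four h
  rcases h.cit_or_omega hB hV hV4 hVU hVe hCV with hC | hΩ
  · exact hC
  obtain ⟨hSU, h64, hsq, hcen, hcomm⟩ := hB.psu_type h hV4 hVU hVe hCV hΩ
  set v := k * c * k⁻¹ with hv
  have hconjV : ∀ x ∈ V, x ≠ 1 → ∃ g : G, x = g * c * g⁻¹ := by
    intro x hx hx1
    rcases hVmem x hx with rfl | rfl | rfl | rfl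
    · exact absurd rfl hx1
    · exact ⟨1, by group⟩
    · exact ⟨k, rfl⟩
    · refine ⟨k * k, ?_⟩
      have e := eq_inv_of_mul_eq_one_right (hV.orbit_prod h.toData hB.order hcV)
      rw [mul_inv_rev, inv_eq_of_mul_eq_one_right (hVe _ (hV.conj_mem hcV)), inv_eq_of_mul_eq_one_right (hVe c hcV)] at e
      rw [show k * k * c * (k * k)⁻¹ = k * (k * c * k⁻¹) * k⁻¹ by group, e]
      have hvU : k * c * k⁻¹ ∈ centralizer (V : Set G) := hCV.symm ▸ hVU (hV.conj_mem hcV)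
      exact mem_centralizer_iff.1 hvU c hcV
  by_cases hD : Cfsg.centralizerPPrimeCore 2 c = ⊥
  · refine h.cit_of_cores hB fun x hx hx2 hx1 => ?_
    obtain ⟨g, rfl⟩ := hconjV x (hΩ x hx hx2) hx1
    refine (eq_bot_iff_forall _).2 fun y hy => ?_
    have hy' := core_map_mem (MulAut.conj g⁻¹) hy
    rw [show (MulAut.conj g⁻¹) (g * c * g⁻¹) = c by simp [mul_assoc], hD, mem_bot] at hy'
    exact (MulAut.conj g⁻¹).injective (hy'.trans (map_one _).symm)
  exfalso
  have hq4 := hB.core_big h hV hV4 hVU hVe hCV hcV hc1 hVmem hΩ h64 hsq hcen hcomm hD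
  have ha : a = 6 := by
    have e := h.card_sylow_two S
    rw [hSU, h64, show (64 : ℕ) = 2 ^ 6 by norm_num] at e
    exact (Nat.pow_right_injective le_rfl e).symm
  subst ha
  obtain ⟨i, δ, hi6, hδb, hCc⟩ := h.card_centralizer_two (hVe c hcV) hc1
  have hUC : U ≤ centralizer ({c} : Set G) := fun u hu => mem_centralizer_singleton_iff.2 (by
    rw [← hCV] at hu; exact (mem_centralizer_iff.1 hu c hcV).symm)
  have hcop : Nat.Coprime 2 q := (Nat.coprime_primes Nat.prime_two h.prime).2 (Ne.symm h.ne_two)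
  have hi : i = 6 := by
    have h1 := card_dvd_of_le hUC
    rw [h64, hCc, show (64 : ℕ) = 2 ^ 6 by norm_num] at h1
    have h2 := (Nat.pow_dvd_pow_iff_le_right (by norm_num)).1 ((Nat.Coprime.pow 6 δ hcop).dvd_of_dvd_mul_right h1)
    omega
  subst hi
  have hδ : 4 ≤ δ := by
    rw [hCc] at hq4
    exact (Nat.pow_dvd_pow_iff_le_right h.prime.one_lt).1 ((Nat.Coprime.pow 4 6 hcop.symm).dvd_of_dvd_mul_left hq4)
  -- the product of two centralisers
  have hprod : (2 ^ 6 * q ^ δ) * (2 ^ 6 * q ^ δ) ≤ 9 * 2 ^ 6 * q ^ b * 64 := by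
    have h1 := card_mul_le (centralizer ({c} : Set G)) (centralizer ({v} : Set G))
    have h2 : Nat.card (centralizer ({v} : Set G)) = 2 ^ 6 * q ^ δ := by
      rw [← hCc, ← card_map_of_injective (K := centralizer ({c} : Set G)) (f := (MulAut.conj k).toMonoidHom) (MulAut.conj k).injective]
      congr 2
      ext y
      rw [Subgroup.mem_map, mem_centralizer_singleton_iff]
      constructor
      · intro e
        refine ⟨k⁻¹ * y * k, mem_centralizer_singleton_iff.2 ?_, by show k * (k⁻¹ * y * k) * k⁻¹ = y; group⟩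
        calc k⁻¹ * y * k * c = k⁻¹ * (y * v) * k := by rw [hv]; group
          _ = c * (k⁻¹ * y * k) := by rw [e, hv]; group
      · rintro ⟨z, hz, rfl⟩
        show k * z * k⁻¹ * v = v * (k * z * k⁻¹)
        calc k * z * k⁻¹ * v = k * (z * c) * k⁻¹ := by rw [hv]; group
          _ = _ := by rw [mem_centralizer_singleton_iff.1 hz, hv]; group
    have h3 : centralizer ({c} : Set G) ⊓ centralizer ({v} : Set G) ≤ U := by
      rintro y ⟨hy1, hy2⟩
      rw [← hCV]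
      have e1 := (mem_centralizer_singleton_iff.1 hy1).symm
      have e2 := (mem_centralizer_singleton_iff.1 hy2).symm
      refine mem_centralizer_iff.2 fun x hx => ?_
      rcases hVmem x hx with rfl | rfl | rfl | rfl
      · simp
      · exact e1
      · exact e2
      · rw [mul_assoc, e2, ← mul_assoc, e1, mul_assoc]
    have h4 := card_le_of_le h3
    rw [h64] at h4
    rw [hCc, h2, h.card] at h1
    exact h1.trans (Nat.mul_le_mul_left _ h4)
  -- counting
  obtain ⟨z, E, -, -, hzinv, hz2, hz1⟩ : ∃ (z : G) (E : Subgroup G), True ∧ True ∧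
      (∀ g ∈ (R : Subgroup G), z * g * z⁻¹ = g⁻¹) ∧ z * z = 1 ∧ z ≠ 1 := by
    obtain ⟨z, E, hE⟩ := h.exists_inverter
    exact ⟨z, E, trivial, trivial, by tauto, by tauto, by tauto⟩
  obtain ⟨g, hg⟩ := hB.exists_conj h hz2 hz1
  have hg2 : g * z * g⁻¹ * (g * z * g⁻¹) = 1 := by
    calc g * z * g⁻¹ * (g * z * g⁻¹) = g * (z * z) * g⁻¹ := by group
      _ = 1 := by rw [hz2]; group
  have hzc : IsConj z c := by
    obtain ⟨g', hg'⟩ := hconjV _ (hΩ _ hg hg2) (fun e => hz1 (conj_eq_one_iff.1 e))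
    refine isConj_iff.2 ⟨g'⁻¹ * g, ?_⟩
    calc g'⁻¹ * g * z * (g'⁻¹ * g)⁻¹ = g'⁻¹ * (g * z * g⁻¹) * g' := by group
      _ = c := by rw [hg']; group
  obtain ⟨r, hr, hr1, hro⟩ := h.exists_orderOf_three
  have hmain : ∀ A : Subgroup G, Inv r A → Nat.card A = 4 → (∀ x ∈ A, x * x = 1) →
      centralizer (A : Set G) ∈ conjInv r U ∧ A = Subgroup.closure {x : G | x ∈ centralizer (A : Set G) ∧ x * x = 1} := by
    intro A hA hA4 hAe
    obtain ⟨P, hP⟩ := (IsPGroup.of_card (n := 2) (by rw [hA4]; norm_num) : IsPGroup 2 A).exists_le_sylow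
    obtain ⟨g, hg⟩ := MulAction.exists_smul_eq G P S
    have hAV : A.map (MulAut.conj g).toMonoidHom = V := by
      refine eq_of_le_of_card_ge ?_ (by rw [card_map_of_injective (MulAut.conj g).injective, hA4, hV4])
      rintro _ ⟨x, hx, rfl⟩
      refine hΩ _ ?_ (by rw [← map_mul, hAe x hx, map_one])
      rw [← hSU, ← hg, Sylow.coe_subgroup_smul]
      exact ⟨x, hP hx, rfl⟩
    have hmem : ∀ x : G, x ∈ A ↔ g * x * g⁻¹ ∈ V := fun x => by
      rw [← hAV]; exact (Subgroup.mem_map_iff_mem (f := (MulAut.conj g).toMonoidHom) (MulAut.conj g).injective).symm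
    have hCA : ∀ x : G, x ∈ centralizer (A : Set G) ↔ g * x * g⁻¹ ∈ U := by
      intro x
      rw [← hCV, mem_centralizer_iff, mem_centralizer_iff]
      constructor
      · intro hx y hy
        have := hx (g⁻¹ * y * g) ((hmem _).2 (by rw [show g * (g⁻¹ * y * g) * g⁻¹ = y by group]; exact hy))
        calc y * (g * x * g⁻¹) = g * ((g⁻¹ * y * g) * x) * g⁻¹ := by group
          _ = g * x * g⁻¹ * y := by rw [this]; group
      · intro hx y hy
        have := hx _ ((hmem y).1 hy)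
        calc y * x = g⁻¹ * (g * y * g⁻¹ * (g * x * g⁻¹)) * g := by group
          _ = x * y := by rw [this]; group
    refine ⟨⟨⟨g⁻¹, ?_⟩, CfsgLib.Signalizer.normalizer_le_normalizer_centralizer_set _ hA.norm⟩, ?_⟩
    · ext x
      rw [hCA, Subgroup.mem_map]
      constructor
      · rintro ⟨u, hu, rfl⟩
        show g * (g⁻¹ * u * g⁻¹⁻¹) * g⁻¹ ∈ U
        rwa [show g * (g⁻¹ * u * g⁻¹⁻¹) * g⁻¹ = u by group]
      · intro hx
        exact ⟨_, hx, by show g⁻¹ * (g * x * g⁻¹) * g⁻¹⁻¹ = x; group⟩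
    · refine le_antisymm (fun x hx => Subgroup.subset_closure ?_) ((Subgroup.closure_le _).2 ?_)
      · exact ⟨(hCA x).2 (hVU ((hmem x).1 hx)), hAe x hx⟩
      · rintro x ⟨hx, hx2⟩
        refine (hmem x).2 (hΩ _ ((hCA x).1 hx) ?_)
        calc g * x * g⁻¹ * (g * x * g⁻¹) = g * (x * x) * g⁻¹ := by group
          _ = 1 := by rw [hx2]; group
  have h6 := h.conjInv_le_six hro hB.order hB.max.1 hB.ne_bot (hB.card_normalizer h)
  have hN := h.N_le hr hr1 (hVe c hcV) hc1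
    ((fun W : Subgroup G => Subgroup.closure {x : G | x ∈ W ∧ x * x = 1}) '' conjInv r U)
    (fun A hA hA4 hAe => ⟨_, (hmain A hA hA4 hAe).1, (hmain A hA hA4 hAe).2.symm⟩)
  have hN18 : (solSet c r r).ncard ≤ 18 := hN.trans
    ((Nat.mul_le_mul_left 3 ((Set.ncard_image_le (Set.toFinite _)).trans h6)).trans (by norm_num))
  obtain ⟨hT, -⟩ := h.T_bound hr hr1 (conjInv r U) (B := 6 * 64)
    (ncard_biUnion_le_mul _ 64 6 h6 (by
      rintro W ⟨⟨g, rfl⟩, -⟩
      rw [card_map_of_injective (MulAut.conj g).injective, h64]))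
    (by
      intro A hA hA2 hA1
      haveI : Nontrivial A := (nontrivial_iff_ne_bot _).2 hA1
      haveI := hA2.center_nontrivial
      obtain ⟨x, hx⟩ := exists_prime_orderOf_dvd_card' (G := center A) 2 (by
        obtain ⟨i, hi, hi'⟩ := (hA2.to_subgroup (center A)).nontrivial_iff_card.1 inferInstance
        rw [hi']; exact dvd_pow_self 2 (by omega))
      rw [← Subgroup.orderOf_coe, ← Subgroup.orderOf_coe] at hx
      set Z := A ⊓ centralizer (A : Set G)
      have hxZ : ((x : A) : G) ∈ Z := ⟨(x : A).2, mem_centralizer_iff.2 fun w hw =>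
        congrArg Subtype.val (mem_center_iff.1 x.2 ⟨w, hw⟩)⟩
      obtain ⟨Y, hY, hY4, hYZ, -, -, -, -, hYe⟩ := (hA.centralizer h.toData hro fun y hy => hy).orbit_four
        h.toData hro hxZ (by rw [← pow_two, ← hx]; exact pow_orderOf_eq_one _)
        (fun e => by rw [e, orderOf_one] at hx; norm_num at hx)
      exact ⟨_, (hmain Y hY hY4 hYe).1, fun w hw => mem_centralizer_iff.2 fun y hy =>
        (mem_centralizer_iff.1 (hYZ hy).2 w hw).symm⟩)
  have hcount := h.count_bound hr hr1 hzinv hz2 hzc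
  rw [h.card, hCc] at hcount
  -- arithmetic
  have hq5 := h.toData.five_le
  set x := q ^ δ
  have hx625 : 625 ≤ x := le_trans (by norm_num) ((Nat.pow_le_pow_left hq5 4).trans (Nat.pow_le_pow_right h.prime.pos hδ))
  have h2δ : 2 * δ ≤ b + 1 := by
    have h1 : q ^ (2 * δ) < q ^ (b + 2) := by
      have h25 : 25 ≤ q ^ 2 := le_trans (by norm_num) (Nat.pow_le_pow_left hq5 2)
      have hpos : 0 < q ^ b := pow_pos h.prime.pos b
      have h9 : x * x ≤ 9 * q ^ b := by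
        refine Nat.le_of_mul_le_mul_left ?_ (show (0 : ℕ) < 4096 by norm_num)
        norm_num at hprod
        linarith
      have h25' := Nat.mul_le_mul_left (q ^ b) h25
      rw [two_mul, pow_add, pow_add]
      show x * x < q ^ b * q ^ 2
      omega
    have := (Nat.pow_lt_pow_iff_right h.prime.one_lt).1 h1
    omega
  have hb : 125 * x ≤ q ^ b := by
    calc 125 * x ≤ q ^ 3 * q ^ δ := Nat.mul_le_mul_right _ (le_trans (by norm_num) (Nat.pow_le_pow_left hq5 3))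
      _ = q ^ (3 + δ) := (pow_add q 3 δ).symm
      _ ≤ q ^ b := Nat.pow_le_pow_right h.prime.pos (by omega)
  have h1 : 9 * (2 ^ 6 * x) * (solSet c r r).ncard ≤ 9 * (2 ^ 6 * x) * 18 := Nat.mul_le_mul_left _ hN18
  norm_num at hcount h1
  omega

end CfsgLib.Known.ThreeNine
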