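import Cfsg.Agent.Lib.Known.ThreeNine.Count
import Cfsg.Agent.Lib.HallGen.SimpleFifteen

/-!
# Invariant `q`-subgroups force a large Sylow 2-subgroup
-/

set_option autoImplicit false
set_option linter.all false

namespace CfsgLib.Known.ThreeNine

open Subgroup

universe u

/-- If the number of Sylow subgroups is not `1` modulo `p²`, two meet in index `p`. -/
theorem exists_relIndex_prime {S : Type u} [Group S] [Finite S] {p : ℕ} [Fact p.Prime] (P : Sylow p S)
    (hn : ¬ Nat.card (Sylow p S) ≡ 1 [MOD p ^ 2]) :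
    ∃ Q : Sylow p S, Q ≠ P ∧ (Q : Subgroup S).relIndex P = p := by
  classical
  by_contra hcon
  push Not at hcon
  refine hn ?_
  haveI := Fintype.ofFinite (Sylow p S)
  haveI := Fintype.ofFinite (MulAction.orbitRel.Quotient (P : Subgroup S) (Sylow p S))
  have hdiv : ∀ Q : Sylow p S, Q ≠ P → p ^ 2 ∣ Nat.card (MulAction.orbit (P : Subgroup S) Q) := by
    intro Q hQ
    rw [Nat.card_coe_set_eq, ← MulAction.index_stabilizer,
      CfsgLib.HallGen.stabilizer_sylow_eq]
    obtain ⟨e, he⟩ := IsPGroup.iff_card.1 P.isPGroup'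
    have hd : (Q : Subgroup S).relIndex P ∣ Nat.card (P : Subgroup S) := index_dvd_card _
    rw [he] at hd
    obtain ⟨i, -, hi⟩ := (Nat.dvd_prime_pow (Fact.out : p.Prime)).1 hd
    show p ^ 2 ∣ (Q : Subgroup S).relIndex P
    rw [hi]
    refine pow_dvd_pow p ?_
    rcases Nat.lt_or_ge i 2 with hlt | hge
    · exfalso
      interval_cases i
      · rw [pow_zero] at hi
        exact hQ (CfsgLib.HallGen.eq_of_sylow_le (relIndex_eq_one.1 hi)).symm
      · exact hcon Q hQ (by rw [hi, pow_one])
    · exact hge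
  set w0 : MulAction.orbitRel.Quotient (P : Subgroup S) (Sylow p S) := Quotient.mk'' P with hw0
  have hfix : ∀ Q, Q ∈ MulAction.orbit (P : Subgroup S) P → Q = P := by
    rintro Q ⟨x, rfl⟩
    show (x : S) • P = P
    rw [Sylow.smul_eq_iff_mem_normalizer]
    exact le_normalizer x.2
  have hout : w0.out = P := by
    have h1 : MulAction.orbitRel (P : Subgroup S) (Sylow p S) w0.out P := Quotient.eq''.1 (Quotient.out_eq w0)
    exact hfix _ h1
  rw [Nat.card_congr (MulAction.selfEquivSigmaOrbits (P : Subgroup S) (Sylow p S)), Nat.card_sigma,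
    ← Finset.add_sum_erase _ _ (Finset.mem_univ w0)]
  have h1 : Nat.card (MulAction.orbit (P : Subgroup S) w0.out) = 1 := by
    rw [hout]
    refine Nat.card_eq_one_iff_unique.2 ⟨⟨fun x y => Subtype.ext ((hfix _ x.2).trans (hfix _ y.2).symm)⟩,
      ⟨⟨P, MulAction.mem_orbit_self P⟩⟩⟩
  rw [h1]
  have h2 : p ^ 2 ∣ ∑ ω ∈ Finset.univ.erase w0, Nat.card (MulAction.orbit (P : Subgroup S) ω.out) :=
    Finset.dvd_sum fun ω hω => hdiv _ fun e => Finset.ne_of_mem_erase hω
      ((Quotient.out_eq ω).symm.trans (congrArg Quotient.mk'' e))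
  obtain ⟨c, hc⟩ := h2
  rw [hc]
  show (1 + p ^ 2 * c) % p ^ 2 = 1 % p ^ 2
  rw [Nat.add_mul_mod_self_left]

/-- The Sylow 2-subgroup of a group of order eighty with several Sylow 5-subgroups. -/
theorem elementary_of_card_eighty {Γ : Type u} [Group Γ] [Finite Γ] [Fact (Nat.Prime 5)]
    (hc : Nat.card Γ = 80) (hn : 1 < Nat.card (Sylow 5 Γ)) (T : Subgroup Γ) (hT : Nat.card T = 16) :
    Cfsg.IsElementaryAbelian 2 T := by
  classical
  haveI : Fact (Nat.Prime 2) := ⟨Nat.prime_two⟩
  haveI := Fintype.ofFinite Γ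
  have P : Sylow 5 Γ := default
  have hf : (Nat.card Γ).factorization 5 = 1 := by
    rw [hc, show 80 = 5 ^ 1 * 16 by norm_num, Nat.factorization_mul (by norm_num) (by norm_num),
      Finsupp.add_apply, (show Nat.Prime 5 by norm_num).factorization_pow, Finsupp.single_eq_same,
      Nat.factorization_eq_zero_of_not_dvd (by norm_num)]
  have hPc : ∀ Q : Sylow 5 Γ, Nat.card (Q : Subgroup Γ) = 5 := fun Q => by
    rw [Q.card_eq_multiplicity, hf, pow_one]
  have hn16 : Nat.card (Sylow 5 Γ) = 16 := by
    have h1 := P.card_dvd_index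
    have h2 := (P : Subgroup Γ).card_mul_index
    rw [hPc, hc] at h2
    have h3 : (P : Subgroup Γ).index = 16 := by omega
    rw [h3] at h1
    have hm := card_sylow_modEq_one 5 Γ
    rw [Nat.ModEq] at hm
    have hle := Nat.le_of_dvd (by norm_num) h1
    obtain ⟨i, hi, e⟩ := (Nat.dvd_prime_pow Nat.prime_two).1 (show Nat.card (Sylow 5 Γ) ∣ 2 ^ 4 from h1)
    rw [e] at hm hn ⊢
    interval_cases i <;> simp_all
  have hN : ∀ Q : Sylow 5 Γ, normalizer ((Q : Subgroup Γ) : Set Γ) = Q := by
    intro Q
    refine (eq_of_le_of_card_ge le_normalizer ?_).symm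
    have h1 := (normalizer ((Q : Subgroup Γ) : Set Γ)).card_mul_index
    have h2 : (normalizer ((Q : Subgroup Γ) : Set Γ)).index = 16 := by
      rw [← hn16, Q.card_eq_index_normalizer]; rfl
    rw [h2, hc] at h1
    rw [hPc]
    omega
  -- elements of order five
  set X : Finset Γ := Finset.univ.filter fun x => orderOf x = 5 with hX
  have hXc : 64 ≤ X.card := by
    let φ : (Σ Q : Sylow 5 Γ, {x : (Q : Subgroup Γ) // x ≠ 1}) → X := fun s => ⟨((s.2.1 : Γ)), by
      rw [hX, Finset.mem_filter]
      refine ⟨Finset.mem_univ _, orderOf_eq_prime ?_ fun e => s.2.2 (Subtype.ext e)⟩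
      have := pow_card_eq_one' (x := s.2.1)
      rw [hPc] at this
      exact congrArg Subtype.val this⟩
    have hφ : Function.Injective φ := by
      rintro ⟨Q, x⟩ ⟨Q', x'⟩ e
      have e' : ((x.1 : Γ)) = x'.1 := congrArg Subtype.val e
      have hz : ∀ (Q : Sylow 5 Γ) (x : {x : (Q : Subgroup Γ) // x ≠ 1}), zpowers ((x.1 : Γ)) = (Q : Subgroup Γ) := by
        intro Q x
        refine eq_of_le_of_card_ge (zpowers_le.2 x.1.2) ?_
        rw [hPc, Nat.card_zpowers]
        have := orderOf_eq_prime (show (x.1 : Γ) ^ 5 = 1 by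
          have := pow_card_eq_one' (x := x.1)
          rw [hPc] at this
          exact congrArg Subtype.val this) fun e => x.2 (Subtype.ext e)
        omega
      obtain rfl : Q = Q' := Sylow.ext (by rw [← hz Q x, ← hz Q' x', e'])
      obtain rfl : x = x' := Subtype.ext (Subtype.ext e')
      rfl
    have := Nat.card_le_card_of_injective φ hφ
    rw [Nat.card_sigma, Finset.sum_congr rfl (g := fun _ => 4) (fun Q _ => ?_), Finset.sum_const,
      Finset.card_univ, ← Nat.card_eq_fintype_card, hn16, Nat.card_eq_fintype_card, Fintype.card_coe] at this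
    · simpa using this
    · rw [Nat.card_eq_fintype_card, Fintype.card_subtype_compl, Fintype.card_subtype_eq,
        ← Nat.card_eq_fintype_card, hPc]
  have hTset : ∀ T' : Subgroup Γ, Nat.card T' = 16 → (Finset.univ.filter (· ∈ T')) = Xᶜ := by
    intro T' hT'
    refine Finset.eq_of_subset_of_card_le (fun x hx => ?_) ?_
    · rw [Finset.mem_compl, hX, Finset.mem_filter]
      rintro ⟨-, hx5⟩
      have := Subgroup.orderOf_dvd_natCard T' (Finset.mem_filter.1 hx).2
      rw [hx5, hT'] at this
      norm_num at this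
    · rw [Finset.card_compl, ← Nat.card_eq_fintype_card, hc]
      have : (Finset.univ.filter (· ∈ T')).card = 16 := by
        rw [← Fintype.card_subtype, ← Nat.card_eq_fintype_card]; exact hT'
      rw [this]
      omega
  haveI hTn : T.Normal := by
    refine ⟨fun x hx g => ?_⟩
    have h1 := hTset (T.map (MulAut.conj g).toMonoidHom)
      (by rw [card_map_of_injective (MulAut.conj g).injective, hT])
    rw [← hTset T hT] at h1
    have := Finset.ext_iff.1 h1 (g * x * g⁻¹)
    simp only [Finset.mem_filter, Finset.mem_univ, true_and] at this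
    exact this.1 ⟨x, hx, rfl⟩
  obtain ⟨y, hy⟩ := exists_prime_orderOf_dvd_card' (G := (P : Subgroup Γ)) 5 (by rw [hPc])
  rw [← Subgroup.orderOf_coe] at hy
  have hPy : (P : Subgroup Γ) = zpowers (y : Γ) :=
    (eq_of_le_of_card_ge (zpowers_le.2 y.2) (by rw [hPc, Nat.card_zpowers, hy])).symm
  have hfp : ∀ c ∈ zpowers (y : Γ), c ≠ 1 → ∀ x ∈ T, x * c = c * x → x = 1 := by
    intro c hc hc1 x hx e
    have hcP : zpowers c = (P : Subgroup Γ) := by
      rw [hPy]
      refine eq_of_le_of_card_ge (zpowers_le.2 hc) ?_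
      have h1 := Subgroup.orderOf_dvd_natCard (P : Subgroup Γ) (hPy ▸ hc : c ∈ (P : Subgroup Γ))
      rw [hPc] at h1
      rw [Nat.card_zpowers, Nat.card_zpowers, hy]
      rcases (Nat.dvd_prime (by norm_num)).1 h1 with h' | h'
      · exact absurd (orderOf_eq_one_iff.1 h') hc1
      · omega
    have hxP : x ∈ (P : Subgroup Γ) := by
      rw [← hN P]
      have : x ∈ centralizer ((zpowers c : Subgroup Γ) : Set Γ) := by
        refine mem_centralizer_iff.2 fun w hw => ?_
        obtain ⟨i, rfl⟩ := mem_zpowers_iff.1 hw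
        exact ((show Commute x c from e).zpow_right i).eq.symm
      have := centralizer_le_normalizer _ this
      rwa [hcP] at this
    have h1 := Subgroup.orderOf_dvd_natCard (P : Subgroup Γ) hxP
    have h2 := Subgroup.orderOf_dvd_natCard T hx
    rw [hPc] at h1
    rw [hT] at h2
    exact orderOf_eq_one_iff.1 (Nat.eq_one_of_dvd_coprimes (by norm_num : Nat.Coprime 5 16) h1 h2)
  have key : ∀ Z : Subgroup Γ, Z.Normal → Z ≤ T → Z ≠ ⊥ → Z = T := by
    intro Z hZn hZT hZ1
    refine eq_of_le_of_card_ge hZT ?_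
    have h1 := CfsgLib.Core.FPF.card_dvd_pred (K := Z) (A := zpowers (y : Γ))
      (by rw [normalizer_eq_top]; exact le_top) fun c hc hc1 => by
        refine (eq_bot_iff_forall _).2 fun x hx => ?_
        exact hfp c hc hc1 x (hZT hx.1) (mem_centralizer_singleton_iff.1 hx.2)
    rw [Nat.card_zpowers, hy] at h1
    have h2 : Nat.card Z ∣ 2 ^ 4 := by rw [show (2:ℕ) ^ 4 = 16 by norm_num, ← hT]; exact card_dvd_of_le hZT
    obtain ⟨i, hi, e⟩ := (Nat.dvd_prime_pow Nat.prime_two).1 h2
    rw [e] at h1 ⊢
    rw [hT]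
    interval_cases i <;> norm_num at *
    exact hZ1 (Subgroup.eq_bot_of_card_eq Z (by rw [Nat.card_eq_fintype_card]; exact e))
  have hT2 : IsPGroup 2 T := IsPGroup.of_card (n := 4) (by rw [hT]; norm_num)
  haveI : Nontrivial T := (nontrivial_iff_ne_bot _).2 fun e => by rw [e, card_bot] at hT; omega
  haveI := hT2.center_nontrivial
  have hcomm : IsMulCommutative T := by
    have h1 := key ((center T).map T.subtype) inferInstance (map_subtype_le _) (by
      rw [ne_eq, Subgroup.map_eq_bot_iff_of_injective _ T.subtype_injective]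
      exact (nontrivial_iff_ne_bot _).1 inferInstance)
    refine ⟨⟨fun x z => ?_⟩⟩
    have hx : (x : Γ) ∈ (center T).map T.subtype := h1.symm ▸ x.2
    obtain ⟨x', hx', e⟩ := hx
    obtain rfl : x' = x := Subtype.ext e
    exact (mem_center_iff.1 hx' z).symm
  refine ⟨hcomm, ?_⟩
  let O : Subgroup Γ :=
    { carrier := {x | x ∈ T ∧ x ^ 2 = 1}
      one_mem' := ⟨T.one_mem, one_pow 2⟩
      mul_mem' := fun {x z} hx hz => ⟨T.mul_mem hx.1 hz.1, by
        have e : x * z = z * x := congrArg Subtype.val (hcomm.is_comm.comm (⟨x, hx.1⟩ : T) ⟨z, hz.1⟩)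
        rw [(show Commute x z from e).mul_pow, hx.2, hz.2, one_mul]⟩
      inv_mem' := fun {x} hx => ⟨T.inv_mem hx.1, by rw [inv_pow, hx.2, inv_one]⟩ }
  have hOn : O.Normal := ⟨fun x hx g => ⟨hTn.conj_mem x hx.1 g, by rw [conj_pow, hx.2, mul_one, mul_inv_cancel]⟩⟩
  have hO1 : O ≠ ⊥ := by
    intro e
    obtain ⟨w, hw⟩ := exists_prime_orderOf_dvd_card' (G := T) 2 (by rw [hT]; norm_num)
    rw [← Subgroup.orderOf_coe] at hw
    have : (w : Γ) ∈ O := ⟨w.2, by rw [← hw]; exact pow_orderOf_eq_one _⟩
    rw [e, mem_bot] at this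
    rw [this, orderOf_one] at hw
    omega
  have hOT := key O hOn (fun x hx => hx.1) hO1
  intro x hx
  rw [← hOT] at hx
  exact hx.2

variable {G : Type u} [Group G] [Finite G] {R : Sylow 3 G} {q a b : ℕ}

/-- An invariant `q`-group lies in an invariant Sylow `q`-subgroup, whose normaliser is small. -/
theorem One.exists_inv_sylow (h : One R q a b) [IsSimpleGroup G] [Fact q.Prime] {k : G} (hk : orderOf k = 3)
    {A : Subgroup G} (hA : Inv k A) (hAq : IsPGroup q A) (hA1 : A ≠ ⊥) :
    ∃ P : Sylow q G, A ≤ (P : Subgroup G) ∧ Inv k (P : Subgroup G) ∧ (P : Subgroup G) ≠ ⊥ ∧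
      (Nat.card (normalizer ((P : Subgroup G) : Set G)) = 3 * q ^ b ∨
        Nat.card (normalizer ((P : Subgroup G) : Set G)) = 6 * q ^ b) := by
  obtain ⟨M, hM, hAM⟩ := exists_maxInv hA
  have hM1 : M ≠ ⊥ := fun e => hA1 (le_bot_iff.1 (e ▸ hAM))
  have hd : q ∣ Nat.card M := by
    obtain ⟨x, hx, hx1⟩ := A.bot_or_exists_ne_one.resolve_left hA1
    obtain ⟨i, hi⟩ := IsPGroup.iff_orderOf.1 hAq ⟨x, hx⟩
    rw [← Subgroup.orderOf_coe] at hi
    have hi0 : i ≠ 0 := fun e => hx1 (orderOf_eq_one_iff.1 (by simpa [e] using hi))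
    exact ((dvd_pow_self q hi0).trans (dvd_of_eq hi.symm)).trans (Subgroup.orderOf_dvd_natCard M (hAM hx))
  have hMq : IsPGroup q M := (h.isPGroup_inv hk hM.1).resolve_left fun h2 => by
    haveI : Fact (Nat.Prime 2) := ⟨Nat.prime_two⟩
    obtain ⟨i, hi⟩ := h2.exists_card_eq
    rw [hi] at hd
    exact h.ne_two ((Nat.prime_dvd_prime_iff_eq h.prime Nat.prime_two).1 (h.prime.dvd_of_dvd_pow hd))
  obtain ⟨m, hm⟩ := hMq.exists_card_eq
  have hpart : part q M = M := eq_of_le_of_card_ge (part_le q M) (by
    rw [card_part, hm, h.prime.factorization_pow, Finsupp.single_eq_same])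
  have hcM := h.q_part_full hk hM hd (by rw [hpart])
  rw [hpart] at hcM
  have hP := h.toData.card_sylow_q (default : Sylow q G)
  rw [Sylow.card_eq_multiplicity] at hP
  let P : Sylow q G := Sylow.ofCard M (by rw [hcM, hP])
  have hPM : (P : Subgroup G) = M := Sylow.coe_ofCard _ _
  refine ⟨P, hPM ▸ hAM, hPM ▸ hM.1, hPM ▸ hM1, ?_⟩
  rw [hPM, ← hcM]
  exact h.card_normalizer_of_max hk hM hM1 hM.1.norm le_normalizer le_rfl

theorem One.inv_q_six_le (h : One R q a b) [IsSimpleGroup G] [Fact q.Prime] (hb : 2 ≤ b) {k : G}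
    (hk : orderOf k = 3) {A : Subgroup G} (hA : Inv k A) (hAq : IsPGroup q A) (hA1 : A ≠ ⊥) : 6 ≤ a := by
  obtain ⟨P, -, hPi, hP1, hN⟩ := h.exists_inv_sylow hk hA hAq hA1
  have ha4 := h.four_le_a
  by_contra hlt
  have hidx := (normalizer ((P : Subgroup G) : Set G)).card_mul_index
  have hn : Nat.card (Sylow q G) = (normalizer ((P : Subgroup G) : Set G)).index := by
    rw [P.card_eq_index_normalizer]; rfl
  rw [← hn, h.card] at hidx
  have hpos : 0 < q ^ b := pow_pos h.prime.pos b
  have hbig := h.toData.two_mul_lt_card_sylow hb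
  have hm := card_sylow_modEq_one q G
  have hq5 := h.toData.five_le
  have hcases : Nat.card (Sylow q G) = 3 * 2 ^ a ∨ 2 * Nat.card (Sylow q G) = 3 * 2 ^ a := by
    rcases hN with hN | hN <;> rw [hN] at hidx
    · exact Or.inl (Nat.eq_of_mul_eq_mul_left (show 0 < 3 * q ^ b by omega) (by rw [hidx]; ring))
    · exact Or.inr (Nat.eq_of_mul_eq_mul_left (show 0 < 3 * q ^ b by omega) (by
        calc 3 * q ^ b * (2 * Nat.card (Sylow q G)) = 6 * q ^ b * Nat.card (Sylow q G) := by ring
          _ = _ := by rw [hidx]; ring))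
  -- reduce to ninety-six
  have h96 : a = 5 ∧ Nat.card (Sylow q G) = 96 ∧ (q = 5 ∨ q = 19) := by
    have hd : q ∣ Nat.card (Sylow q G) - 1 := (Nat.modEq_iff_dvd' (by omega)).1 hm.symm
    have hdq : ∀ n, Nat.card (Sylow q G) = n → q ≤ n - 1 := fun n e =>
      Nat.le_of_dvd (by omega) (e ▸ hd)
    obtain rfl | rfl : a = 4 ∨ a = 5 := by omega
    · exfalso
      rcases hcases with e | e
      · norm_num at e
        rw [e] at hd hbig
        norm_num at hd
        rw [(Nat.prime_dvd_prime_iff_eq h.prime (by norm_num)).1 hd] at hbig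
        omega
      · have e' : Nat.card (Sylow q G) = 24 := by norm_num at e; omega
        rw [e'] at hd hbig
        norm_num at hd
        rw [(Nat.prime_dvd_prime_iff_eq h.prime (by norm_num)).1 hd] at hbig
        omega
    · rcases hcases with e | e
      · norm_num at e
        refine ⟨rfl, e, ?_⟩
        rw [e] at hd
        rcases h.prime.dvd_mul.1 (show q ∣ 5 * 19 by norm_num at hd ⊢; exact hd) with h' | h'
        · exact Or.inl ((Nat.prime_dvd_prime_iff_eq h.prime (by norm_num)).1 h')
        · exact Or.inr ((Nat.prime_dvd_prime_iff_eq h.prime (by norm_num)).1 h')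
      · exfalso
        have e' : Nat.card (Sylow q G) = 48 := by norm_num at e; omega
        rw [e'] at hd hbig
        norm_num at hd
        rw [(Nat.prime_dvd_prime_iff_eq h.prime (by norm_num)).1 hd] at hbig
        omega
  obtain ⟨rfl, h96, hq⟩ := h96
  have hN3 : ∀ Q : Sylow q G, Nat.card (normalizer ((Q : Subgroup G) : Set G)) = 3 * q ^ b := by
    intro Q
    have h1 := (normalizer ((Q : Subgroup G) : Set G)).card_mul_index
    rw [show (normalizer ((Q : Subgroup G) : Set G)).index = 96 by rw [← h96, Q.card_eq_index_normalizer]; rfl,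
      h.card] at h1
    omega
  have hnot : ¬ Nat.card (Sylow q G) ≡ 1 [MOD q ^ 2] := by
    rw [h96]
    rcases hq with rfl | rfl <;> decide
  obtain ⟨Q1, hne, hrel⟩ := exists_relIndex_prime P hnot
  have hrel' : (P : Subgroup G).relIndex Q1 = q := by
    have h1 : Nat.card (((Q1 : Subgroup G).subgroupOf (P : Subgroup G)) : Subgroup _) = Nat.card ((Q1 : Subgroup G) ⊓ P : Subgroup G) := by
      rw [← inf_subgroupOf_right]; exact Nat.card_congr (subgroupOfEquivOfLe inf_le_right).toEquiv
    have h2 : Nat.card (((P : Subgroup G).subgroupOf (Q1 : Subgroup G)) : Subgroup _) = Nat.card ((Q1 : Subgroup G) ⊓ P : Subgroup G) := by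
      rw [← inf_subgroupOf_left]; exact Nat.card_congr (subgroupOfEquivOfLe inf_le_left).toEquiv
    have e1 := ((Q1 : Subgroup G).subgroupOf (P : Subgroup G)).card_mul_index
    have e2 := ((P : Subgroup G).subgroupOf (Q1 : Subgroup G)).card_mul_index
    rw [h1, h.toData.card_sylow_q] at e1
    rw [h2, h.toData.card_sylow_q] at e2
    have := Nat.eq_of_mul_eq_mul_left Nat.card_pos (e2.trans e1.symm)
    show ((P : Subgroup G).subgroupOf (Q1 : Subgroup G)).index = q
    rw [this]; exact hrel
  have hnorm : ∀ X Y : Sylow q G, (Y : Subgroup G).relIndex (X : Subgroup G) = q →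
      (X : Subgroup G) ≤ normalizer (((X : Subgroup G) ⊓ (Y : Subgroup G) : Subgroup G) : Set G) := by
    intro X Y e
    haveI : ((Y : Subgroup G).subgroupOf (X : Subgroup G)).Normal := by
      refine normal_of_index_eq_minFac_card ?_
      show (Y : Subgroup G).relIndex (X : Subgroup G) = _
      rw [e, h.toData.card_sylow_q X, Nat.pow_minFac (by omega), h.prime.minFac_eq]
    rw [← inf_subgroupOf_left] at *
    exact (normal_subgroupOf_iff_le_normalizer inf_le_left).1 inferInstance
  set D := (P : Subgroup G) ⊓ (Q1 : Subgroup G) with hD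
  have hPN : (P : Subgroup G) ≤ normalizer (D : Set G) := hnorm P Q1 hrel
  have hQN : (Q1 : Subgroup G) ≤ normalizer (D : Set G) := by
    rw [hD, inf_comm]; exact hnorm Q1 P hrel'
  have hDc : Nat.card D * q = q ^ b := by
    have e1 := ((Q1 : Subgroup G).subgroupOf (P : Subgroup G)).card_mul_index
    rw [show Nat.card (((Q1 : Subgroup G).subgroupOf (P : Subgroup G)) : Subgroup _) = Nat.card D by
      rw [← inf_subgroupOf_left]; exact Nat.card_congr (subgroupOfEquivOfLe inf_le_left).toEquiv,
      h.toData.card_sylow_q] at e1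
    rw [show ((Q1 : Subgroup G).subgroupOf (P : Subgroup G)).index = q from hrel] at e1
    exact e1
  have hD1 : D ≠ ⊥ := fun e => by
    rw [e, card_bot, one_mul] at hDc
    have : q ^ 1 < q ^ b := Nat.pow_lt_pow_right h.prime.one_lt (by omega)
    rw [pow_one] at this
    omega
  have hDq : IsPGroup q D := P.isPGroup'.to_le inf_le_left
  set L := normalizer (D : Set G)
  by_cases h3 : 3 ∣ Nat.card L
  · haveI : Fact (Nat.Prime 3) := ⟨Nat.prime_three⟩
    obtain ⟨k', hk'⟩ := exists_prime_orderOf_dvd_card' 3 h3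
    rw [← Subgroup.orderOf_coe] at hk'
    have hD3 : ¬ 3 ∣ Nat.card D := fun hd => by
      have h1 : 3 ∣ q ^ b := hd.trans (Dvd.intro q hDc)
      exact h.ne_three ((Nat.prime_dvd_prime_iff_eq Nat.prime_three h.prime).1 (Nat.prime_three.dvd_of_dvd_pow h1)).symm
    obtain ⟨N, hNi, hDN, hNL, hNn, hcase⟩ :=
      h.structure_three hk' k'.2 hD1 ⟨k'.2, hD3⟩ le_normalizer le_rfl
    have hNq : IsPGroup q N := by
      refine (h.isPGroup_inv hk' hNi).resolve_left fun h2 => hD1 ?_
      exact disjoint_self.1 (IsPGroup.disjoint_of_ne 2 q (Ne.symm h.ne_two) D D (h2.to_le hDN) hDq)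
    have hindex : Nat.card L = 3 * Nat.card N ∨ Nat.card L = 6 * Nat.card N := by
      rcases hcase with e | e | ⟨he, -, -⟩
      · exact Or.inl e
      · exact Or.inr e
      · exfalso
        refine hD1 (disjoint_self.1 (IsPGroup.disjoint_of_ne 2 q (Ne.symm h.ne_two) D D ?_ hDq))
        exact IsPGroup.to_le (fun x => ⟨1, by rw [pow_one]; exact Subtype.ext (he.2 x x.2)⟩) hDN
    have hle : ∀ X : Sylow q G, (X : Subgroup G) ≤ L → (X : Subgroup G) ≤ N := by
      intro X hX
      have hsup : IsPGroup q ((X : Subgroup G) ⊔ N : Subgroup G) :=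
        X.isPGroup'.to_sup_of_normal_right' hNq (hX.trans hNn)
      obtain ⟨m, hm⟩ := hsup.exists_card_eq
      obtain ⟨i, hi⟩ := hNq.exists_card_eq
      have h1 : q ^ m ∣ 6 * q ^ i := by
        have := card_dvd_of_le (sup_le hX hNL)
        rw [hm] at this
        rcases hindex with e | e <;> rw [e, hi] at this
        · exact this.trans ⟨2, by ring⟩
        · exact this
      have hcop : Nat.Coprime (q ^ m) 6 := by
        refine Nat.Coprime.pow_left _ ((Nat.Prime.coprime_iff_not_dvd h.prime).2 fun h6 => ?_)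
        rcases h.prime.dvd_mul.1 (show q ∣ 2 * 3 from h6) with h' | h'
        · exact h.ne_two ((Nat.prime_dvd_prime_iff_eq h.prime Nat.prime_two).1 h')
        · exact h.ne_three ((Nat.prime_dvd_prime_iff_eq h.prime Nat.prime_three).1 h')
      have h2 : N = (X : Subgroup G) ⊔ N := eq_of_le_of_card_ge le_sup_right (by
        rw [hm, hi]; exact Nat.le_of_dvd (pow_pos h.prime.pos i) (hcop.dvd_of_dvd_mul_left h1))
      exact le_sup_left.trans h2.ge
    have eP : (P : Subgroup G) = N := eq_of_le_of_card_ge (hle P hPN) (by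
      obtain ⟨Y, hY⟩ := hNq.exists_le_sylow
      rw [h.toData.card_sylow_q, ← h.toData.card_sylow_q Y]
      exact card_le_of_le hY)
    exact hne (CfsgLib.HallGen.eq_of_sylow_le ((hle Q1 hQN).trans eP.ge))
  · -- a group of order eighty
    set PL := P.subtype hPN
    have hPLc : Nat.card (PL : Subgroup L) = q ^ b := by
      rw [Sylow.coe_subtype, Nat.card_congr (subgroupOfEquivOfLe hPN).toEquiv, h.toData.card_sylow_q]
    have hnL1 : 1 < Nat.card (Sylow q L) := Finite.one_lt_card_iff_nontrivial.2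
      ⟨PL, Q1.subtype hQN, fun e => hne (Sylow.subtype_injective e).symm⟩
    have hindexL : (PL : Subgroup L).index ∣ 32 := by
      have h1 := L.card_mul_index
      rw [← (PL : Subgroup L).card_mul_index, hPLc, h.card] at h1
      have h2 : (PL : Subgroup L).index * L.index = 9 * 32 :=
        Nat.eq_of_mul_eq_mul_left hpos (by rw [← mul_assoc, h1]; ring)
      have hc3 : Nat.Coprime (PL : Subgroup L).index 3 :=
        ((Nat.prime_three.coprime_iff_not_dvd).2 fun hd => h3 (hd.trans (index_dvd_card _))).symm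
      exact Nat.Coprime.dvd_of_dvd_mul_left (show Nat.Coprime _ 9 from hc3.pow_right 2) (Dvd.intro _ h2)
    obtain ⟨i, hi, hni⟩ := (Nat.dvd_prime_pow Nat.prime_two).1
      (show Nat.card (Sylow q L) ∣ 2 ^ 5 from PL.card_dvd_index.trans hindexL)
    have hmL := card_sylow_modEq_one q L
    rw [hni] at hnL1 hmL
    rcases hq with rfl | rfl
    · have hi4 : i = 4 := by rw [Nat.ModEq] at hmL; interval_cases i <;> simp_all
      subst hi4
      have hNL : (normalizer ((PL : Subgroup L) : Set L)) = (PL : Subgroup L) := by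
        refine (eq_of_le_of_card_ge le_normalizer ?_).symm
        have e1 : (normalizer ((PL : Subgroup L) : Set L)).map L.subtype ≤ normalizer ((P : Subgroup G) : Set G) := by
          have := Subgroup.le_normalizer_map (H := (PL : Subgroup L)) L.subtype
          rwa [Sylow.coe_subtype, subgroupOf_map_subtype, inf_eq_left.2 hPN] at this
        have e2 := card_dvd_of_le e1
        rw [card_map_of_injective L.subtype_injective, hN3] at e2
        have e3 : Nat.Coprime (Nat.card (normalizer ((PL : Subgroup L) : Set L))) 3 :=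
          ((Nat.prime_three.coprime_iff_not_dvd).2 fun hd => h3 (hd.trans (card_subgroup_dvd_card _))).symm
        rw [hPLc]
        exact Nat.le_of_dvd hpos (e3.dvd_of_dvd_mul_left e2)
      have hLc : Nat.card L = 16 * 5 ^ b := by
        rw [← (normalizer ((PL : Subgroup L) : Set L)).card_mul_index,
          show (normalizer ((PL : Subgroup L) : Set L)).index = Nat.card (Sylow 5 L) by
            rw [PL.card_eq_index_normalizer]; rfl, hni, hNL, hPLc]
        ring
      haveI hDn : (D.subgroupOf L).Normal := (normal_subgroupOf_iff_le_normalizer le_normalizer).2 le_rfl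
      have hDLc : Nat.card (D.subgroupOf L) = Nat.card D := Nat.card_congr (subgroupOfEquivOfLe le_normalizer).toEquiv
      have hΓ : Nat.card (L ⧸ D.subgroupOf L) = 80 := by
        have h1 := (D.subgroupOf L).card_mul_index
        rw [index_eq_card, hDLc, hLc, ← hDc] at h1
        exact Nat.eq_of_mul_eq_mul_left Nat.card_pos (h1.trans (by ring))
      haveI : Fact (Nat.Prime 2) := ⟨Nat.prime_two⟩
      obtain ⟨T, hT⟩ := Sylow.exists_subgroup_card_pow_prime (G := L) 2 (n := 4) (by rw [hLc]; exact dvd_mul_right _ _)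
      let π := QuotientGroup.mk' (D.subgroupOf L)
      have hinj : Set.InjOn π (T : Set L) := by
        intro x hx y hy e
        have hxy : x⁻¹ * y ∈ D.subgroupOf L := (QuotientGroup.eq).1 e
        refine inv_mul_eq_one.1 (orderOf_eq_one_iff.1 (Nat.eq_one_of_dvd_coprimes
          (a := 16) (b := Nat.card D) ?_ ?_ (hDLc ▸ Subgroup.orderOf_dvd_natCard _ hxy)))
        · refine Nat.Coprime.coprime_dvd_right (Dvd.intro 5 hDc) ?_
          exact (Nat.Coprime.pow 4 b (by norm_num : Nat.Coprime 2 5))
        · exact (Subgroup.orderOf_dvd_natCard T (T.mul_mem (T.inv_mem hx) hy)).trans (dvd_of_eq hT)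
      have hTc : Nat.card (T.map π) = 16 := by
        rw [show (16 : ℕ) = 2 ^ 4 by norm_num, ← hT]
        exact (Nat.card_congr (Equiv.Set.imageOfInjOn π (T : Set L) hinj)).symm
      have hn5 : 1 < Nat.card (Sylow 5 (L ⧸ D.subgroupOf L)) := by
        refine Finite.one_lt_card_iff_nontrivial.2 ⟨PL.mapSurjective (QuotientGroup.mk'_surjective _),
          (Q1.subtype hQN).mapSurjective (QuotientGroup.mk'_surjective _), fun e => ?_⟩
        have e' := congrArg (fun X : Sylow 5 (L ⧸ D.subgroupOf L) => (X : Subgroup _).comap π) e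
        simp only [Sylow.coe_mapSurjective] at e'
        rw [comap_map_eq_self (by rw [QuotientGroup.ker_mk']; intro x hx; exact hx.1),
          comap_map_eq_self (by rw [QuotientGroup.ker_mk']; intro x hx; exact hx.2)] at e'
        exact hne (Sylow.subtype_injective (Sylow.ext e')).symm
      obtain ⟨hTab, hTexp⟩ := elementary_of_card_eighty hΓ hn5 (T.map π) hTc
      have hM : Cfsg.IsElementaryAbelian 2 (T.map L.subtype) := by
        refine ⟨⟨⟨?_⟩⟩, ?_⟩
        · rintro ⟨_, x, hx, rfl⟩ ⟨_, y, hy, rfl⟩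
          refine Subtype.ext ?_
          show ((x * y : L) : G) = ((y * x : L) : G)
          refine congrArg Subtype.val (hinj (T.mul_mem hx hy) (T.mul_mem hy hx) ?_)
          rw [map_mul, map_mul]
          exact congrArg Subtype.val (hTab.is_comm.comm (⟨π x, mem_map_of_mem π hx⟩ : T.map π) ⟨π y, mem_map_of_mem π hy⟩)
        · rintro _ ⟨x, hx, rfl⟩
          refine congrArg Subtype.val (hinj (T.pow_mem hx 2) T.one_mem ?_)
          rw [map_pow, map_one]
          exact hTexp _ (mem_map_of_mem π hx)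
      exact h.no_elementary_sixteen le_rfl hM (by rw [card_map_of_injective L.subtype_injective, hT]; norm_num)
    · rw [Nat.ModEq] at hmL
      interval_cases i <;> simp_all

end CfsgLib.Known.ThreeNine
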