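import Cfsg.Agent.Lib.Known.ThreeNine.Count
import Cfsg.Agent.Lib.Known.ThreeNine.QFacts

/-!
# Bounding the solutions by the maximal invariant subgroups
-/

set_option autoImplicit false
set_option linter.all false

namespace CfsgLib.Known.ThreeNine

open Subgroup

universe u

variable {G : Type u} [Group G] [Finite G] {R : Sylow 3 G} {q a b : ℕ}

/-- The invariant Sylow `q`-subgroups. -/
theorem One.exists_q_cover (h : One R q a b) [IsSimpleGroup G] [Fact q.Prime] {r : G} (hr : orderOf r = 3) :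
    ∃ 𝒬 : Set (Subgroup G), 𝒬.ncard ≤ 6 ∧ (∀ U ∈ 𝒬, Nat.card U = q ^ b) ∧
      ∀ A : Subgroup G, Inv r A → IsPGroup q A → A ≠ ⊥ → ∃ U ∈ 𝒬, A ≤ U := by
  by_cases hex : ∃ A : Subgroup G, Inv r A ∧ IsPGroup q A ∧ A ≠ ⊥
  · obtain ⟨A0, hA0, hA0q, hA01⟩ := hex
    obtain ⟨P0, -, hP0, hP01, hP0c⟩ := h.exists_inv_sylow hr hA0 hA0q hA01
    have hc := h.toData.card_sylow_q P0
    refine ⟨conjInv r (P0 : Subgroup G), h.conjInv_le_six hr hr hP0 hP01 (by rw [hc]; exact hP0c), ?_, ?_⟩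
    · rintro U ⟨⟨g, rfl⟩, -⟩
      rw [card_map_of_injective (MulAut.conj g).injective]; exact hc
    · intro A hA hAq hA1
      obtain ⟨P, hAP, hP, -, -⟩ := h.exists_inv_sylow hr hA hAq hA1
      obtain ⟨g, hg⟩ := MulAction.exists_smul_eq G P0 P
      refine ⟨(P : Subgroup G), ⟨⟨g, ?_⟩, hP.norm⟩, hAP⟩
      rw [← hg, Sylow.coe_subgroup_smul]
      rfl
  · exact ⟨∅, by simp, by simp, fun A hA hAq hA1 => absurd ⟨A, hA, hAq, hA1⟩ hex⟩

/-- The bound for the number of solutions of the three classes of elements of order three. -/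
theorem One.T_bound (h : One R q a b) [IsSimpleGroup G] {r : G} (hr : r ∈ (R : Subgroup G)) (hr1 : r ≠ 1)
    (𝒰 : Set (Subgroup G)) {B : ℕ} (hB : (⋃ U ∈ 𝒰, (U : Set G)).ncard ≤ B)
    (hcov : ∀ A, Inv r A → IsPGroup 2 A → A ≠ ⊥ → ∃ U ∈ 𝒰, A ≤ U) :
    (solSet r r r).ncard ≤ 7 + B + 6 * q ^ b ∧
      ((∀ A, Inv r A → IsPGroup q A → A = ⊥) → (solSet r r r).ncard ≤ 7 + B) := by
  haveI := Fact.mk h.prime
  haveI : Fact (Nat.Prime 3) := ⟨Nat.prime_three⟩
  have hro : orderOf r = 3 := orderOf_eq_prime (h.cube r hr) hr1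
  refine ⟨?_, fun hno => ?_⟩
  · obtain ⟨𝒬, h6, hQc, hQ⟩ := h.exists_q_cover hro
    refine (h.T_le hr hr1 (𝒰 ∪ 𝒬) (B + 6 * q ^ b) (fun A hA hA1 => ?_) ?_).trans (by omega)
    · rcases h.isPGroup_inv hro hA with h2 | hq
      · obtain ⟨U, hU, hAU⟩ := hcov A hA h2 hA1; exact ⟨U, Or.inl hU, hAU⟩
      · obtain ⟨U, hU, hAU⟩ := hQ A hA hq hA1; exact ⟨U, Or.inr hU, hAU⟩
    · rw [Set.biUnion_union]
      exact (Set.ncard_union_le _ _).trans (Nat.add_le_add hB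
        (ncard_biUnion_le_mul 𝒬 (q ^ b) 6 h6 fun U hU => (hQc U hU).le))
  · refine h.T_le hr hr1 𝒰 B (fun A hA hA1 => ?_) hB
    rcases h.isPGroup_inv hro hA with h2 | hq
    · exact hcov A hA h2 hA1
    · exact absurd (hno A hA hq) hA1

/-- An involution centraliser has order `2 ^ i * q ^ δ`. -/
theorem One.card_centralizer_two (h : One R q a b) {v : G} (hv : v * v = 1) (hv1 : v ≠ 1) :
    ∃ i δ : ℕ, i ≤ a ∧ δ ≤ b ∧ Nat.card (centralizer ({v} : Set G)) = 2 ^ i * q ^ δ := by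
  haveI : Fact (Nat.Prime 2) := ⟨Nat.prime_two⟩
  have h3 : ¬ 3 ∣ Nat.card (centralizer ({v} : Set G)) := h.not_three_dvd_centralizer hv1
    (by rw [orderOf_eq_prime (p := 2) (by rw [pow_two]; exact hv) hv1]; norm_num)
  have hd : Nat.card (centralizer ({v} : Set G)) ∣ 2 ^ a * q ^ b := by
    have h1 := card_subgroup_dvd_card (centralizer ({v} : Set G))
    rw [h.card, mul_assoc, show (9 : ℕ) = 3 ^ 2 by norm_num] at h1
    exact (((Nat.prime_three.coprime_iff_not_dvd).2 h3).symm.pow_right 2).dvd_of_dvd_mul_left h1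
  obtain ⟨d1, d2, h1, h2, e⟩ := exists_dvd_and_dvd_of_dvd_mul hd
  obtain ⟨i, hi, rfl⟩ := (Nat.dvd_prime_pow Nat.prime_two).1 h1
  obtain ⟨j, hj, rfl⟩ := (Nat.dvd_prime_pow h.prime).1 h2
  exact ⟨i, j, hi, hj, e⟩

theorem card_mul_le (H K : Subgroup G) : Nat.card H * Nat.card K ≤ Nat.card G * Nat.card (H ⊓ K : Subgroup G) := by
  classical
  haveI := Fintype.ofFinite G
  haveI := Fintype.ofFinite (H × K)
  rw [← Nat.card_prod, Nat.card_eq_fintype_card, ← Finset.card_univ, mul_comm, Nat.card_eq_fintype_card (α := G),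
    ← Finset.card_univ (α := G)]
  refine Finset.card_le_mul_card_image_of_maps_to (f := fun p : H × K => (p.1 : G) * p.2)
    (fun _ _ => Finset.mem_univ _) _ fun g _ => ?_
  rcases Finset.eq_empty_or_nonempty (Finset.univ.filter fun p : H × K => (p.1 : G) * p.2 = g) with e | ⟨p0, hp0⟩
  · rw [e, Finset.card_empty]; exact Nat.zero_le _
  rw [← Fintype.card_subtype, ← Nat.card_eq_fintype_card]
  refine Nat.card_le_card_of_injective (fun p => (⟨(p0.1 : G)⁻¹ * p.1.1, ?_, ?_⟩ : (H ⊓ K : Subgroup G)))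
    fun p p' e => ?_
  · exact H.mul_mem (H.inv_mem p0.1.2) p.1.1.2
  · have e : (p.1.1 : G) * p.1.2 = p0.1 * p0.2 := p.2.trans (Finset.mem_filter.1 hp0).2.symm
    show (p0.1 : G)⁻¹ * p.1.1 ∈ K
    have : (p0.1 : G)⁻¹ * p.1.1 = p0.2 * (p.1.2 : G)⁻¹ := by
      rw [eq_mul_inv_iff_mul_eq, mul_assoc, e, inv_mul_cancel_left]
    rw [this]; exact K.mul_mem p0.2.2 (K.inv_mem p.1.2.2)
  · have e1 : (p.1.1 : G) = p'.1.1 := mul_left_cancel (congrArg Subtype.val e)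
    have e2 : (p.1.1 : G) * p.1.2 = p'.1.1 * p'.1.2 := p.2.trans p'.2.symm
    rw [e1] at e2
    exact Subtype.ext (Prod.ext (Subtype.ext e1) (Subtype.ext (mul_left_cancel e2)))

end CfsgLib.Known.ThreeNine
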