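import Cfsg.Agent.Lib.Known.ThreeNine.RankThree
import Cfsg.Agent.Lib.Known.ThreeNine.Cover
import Cfsg.Agent.Lib.TwoGroups.WreathedShapes
import Cfsg.Agent.S0516
import Cfsg.Agent.S1196
import Cfsg.Agent.S1208
import Cfsg.Agent.S1211
import Cfsg.Agent.S1212
import Cfsg.Agent.S1248

/-!
# A maximal invariant 2-subgroup of order at least sixteen and 2-rank two
-/

set_option autoImplicit false
set_option linter.all false

namespace CfsgLib.Known.ThreeNine

open Subgroup

universe u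

variable {G : Type u} [Group G] [Finite G] {R : Sylow 3 G} {q a b : ℕ} {k : G} {U V : Subgroup G}

/-- A group with no element of order three normalises no subgroup with a fixed commutator involution. -/
theorem Data.not_three_dvd_normalizer (h : Data R q a b) {X : Subgroup G} {i : G} (hi : i * i = 1) (hi1 : i ≠ 1)
    (hex : ∃ u ∈ X, ∃ w ∈ X, u * w * u⁻¹ * w⁻¹ = i)
    (hall : ∀ u ∈ X, ∀ w ∈ X, u * w * u⁻¹ * w⁻¹ = 1 ∨ u * w * u⁻¹ * w⁻¹ = i) :
    ¬ 3 ∣ Nat.card (normalizer (X : Set G)) := by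
  intro h3
  haveI : Fact (Nat.Prime 3) := ⟨Nat.prime_three⟩
  obtain ⟨g, hg⟩ := exists_prime_orderOf_dvd_card' 3 h3
  rw [← Subgroup.orderOf_coe] at hg
  obtain ⟨u, hu, w, hw, e⟩ := hex
  have hu' := (mem_normalizer_iff.1 g.2 u).1 hu
  have hw' := (mem_normalizer_iff.1 g.2 w).1 hw
  have hc : (g : G) * u * (g : G)⁻¹ * ((g : G) * w * (g : G)⁻¹) * ((g : G) * u * (g : G)⁻¹)⁻¹ *
      ((g : G) * w * (g : G)⁻¹)⁻¹ = (g : G) * i * (g : G)⁻¹ := by rw [← e]; group
  rcases hall _ hu' _ hw' with e' | e'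
  · rw [hc, conj_eq_one_iff] at e'; exact hi1 e'
  · rw [hc] at e'
    refine h.not_three_dvd_centralizer hi1
      (by rw [orderOf_eq_prime (p := 2) (by rw [pow_two]; exact hi) hi1]; norm_num) (hg ▸ ?_)
    exact Subgroup.orderOf_dvd_natCard _ (mem_centralizer_singleton_iff.2 (mul_inv_eq_iff_eq_mul.1 e'))

/-- A Sylow 2-subgroup of `G` is not wreathed. -/
theorem Data.not_wreathed (h : Data R q a b) [IsSimpleGroup G] (S : Sylow 2 G) :
    ¬ Cfsg.IsWreathed (S : Subgroup G) := by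
  classical
  intro hS
  obtain ⟨m, hm, ⟨e⟩⟩ := CfsgLib.TwoGroups.WreathTwo.of_isWreathed hS
  set n := m + 2
  obtain ⟨⟨A0, ⟨hA0c, hA0n⟩, -⟩, -⟩ := Cfsg.Agent.S1196.result hS n hm
  haveI := hA0c
  set A := A0.map (S : Subgroup G).subtype with hA
  have hAc : Nat.card A = 2 ^ (2 * n) := by rw [hA, card_map_of_injective (S : Subgroup G).subtype_injective, hA0n]
  obtain ⟨e8⟩ := CfsgLib.TwoGroups.WreathTwo.qsub_equiv (m := m) 0
  set Q0 := (CfsgLib.TwoGroups.WreathTwo.qsub (m := m) 0).map e.symm.toMonoidHom with hQ0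
  set Q := Q0.map (S : Subgroup G).subtype with hQ
  let eQ : Q ≃* QuaternionGroup 2 :=
    ((Q0.equivMapOfInjective _ (S : Subgroup G).subtype_injective).symm.trans
      ((CfsgLib.TwoGroups.WreathTwo.qsub (m := m) 0).equivMapOfInjective e.symm.toMonoidHom e.symm.injective).symm).trans e8
  have hQS : Q ≤ (S : Subgroup G) := map_subtype_le _
  set Z := (center (S : Subgroup G)).map (S : Subgroup G).subtype with hZ
  set X := Q ⊔ Z with hX
  -- the commutators of `X`
  have hi : ∃ i : G, i * i = 1 ∧ i ≠ 1 ∧ (∀ u ∈ Q, ∀ w ∈ Q, u * w * u⁻¹ * w⁻¹ = 1 ∨ u * w * u⁻¹ * w⁻¹ = i) ∧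
      ∃ u ∈ Q, ∃ w ∈ Q, u * w * u⁻¹ * w⁻¹ = i := by
    set z := eQ.symm (QuaternionGroup.a 2) with hz
    have hdec : ∀ u w : QuaternionGroup 2, u * w * u⁻¹ * w⁻¹ = 1 ∨ u * w * u⁻¹ * w⁻¹ = QuaternionGroup.a 2 := by decide
    have hex : ∃ u w : QuaternionGroup 2, u * w * u⁻¹ * w⁻¹ = QuaternionGroup.a 2 := by decide
    refine ⟨z, ?_, ?_, fun u hu w hw => ?_, ?_⟩
    · have : z * z = 1 := by
        rw [hz, ← map_mul, show (QuaternionGroup.a 2 : QuaternionGroup 2) * QuaternionGroup.a 2 = 1 by decide, map_one]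
      exact congrArg Subtype.val this
    · intro hz1
      have : z = 1 := Subtype.ext hz1
      rw [hz, MulEquiv.map_eq_one_iff] at this
      exact absurd this (by decide)
    · rcases hdec (eQ ⟨u, hu⟩) (eQ ⟨w, hw⟩) with e' | e' <;>
        rw [← map_inv, ← map_inv, ← map_mul, ← map_mul, ← map_mul] at e'
      · left; rw [MulEquiv.map_eq_one_iff] at e'; exact congrArg Subtype.val e'
      · right
        have := congrArg eQ.symm e'
        rw [MulEquiv.symm_apply_apply] at this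
        exact congrArg Subtype.val this
    · obtain ⟨u, w, e'⟩ := hex
      refine ⟨eQ.symm u, (eQ.symm u).2, eQ.symm w, (eQ.symm w).2, ?_⟩
      rw [hz, ← e', map_mul, map_mul, map_mul, map_inv, map_inv]
      rfl
  obtain ⟨i, hi2, hi1, hiall, u0, hu0, w0, hw0, hi0⟩ := hi
  have hZc : ∀ z ∈ Z, ∀ s ∈ (S : Subgroup G), Commute z s := by
    rintro _ ⟨z, hz, rfl⟩ s hs
    exact (congrArg Subtype.val (mem_center_iff.1 hz ⟨s, hs⟩)).symm
  have hZS : Z ≤ (S : Subgroup G) := map_subtype_le _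
  have hXform : ∀ x ∈ X, ∃ y ∈ Q, ∃ z ∈ Z, x = y * z := by
    intro x hx
    have hn : Q ≤ normalizer (Z : Set G) := fun y hy => centralizer_le_normalizer _
      (mem_centralizer_iff.2 fun z hz => (hZc z hz y (hQS hy)).eq)
    rw [hX, ← SetLike.mem_coe, Subgroup.coe_mul_of_left_le_normalizer_right _ _ hn] at hx
    obtain ⟨y, hy, z, hz, rfl⟩ := hx
    exact ⟨y, hy, z, hz, rfl⟩
  have h6 : ¬ (X ⊔ centralizer (X : Set G)).relIndex (normalizer (X : Set G)) = 6 := by
    intro h6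
    refine h.not_three_dvd_normalizer hi2 hi1 ⟨u0, mem_sup_left hu0, w0, mem_sup_left hw0, hi0⟩ ?_
      (dvd_trans (by norm_num) (h6 ▸ relIndex_dvd_card _ _))
    intro x hx x' hx'
    obtain ⟨y, hy, z, hz, rfl⟩ := hXform x hx
    obtain ⟨y', hy', z', hz', rfl⟩ := hXform x' hx'
    have c1 : Commute z (y' * z') := hZc z hz _ ((S : Subgroup G).mul_mem (hQS hy') (hZS hz'))
    have c2 : Commute z' y := hZc z' hz' _ (hQS hy)
    have e1 : y * z * (y' * z') * (y * z)⁻¹ * (y' * z')⁻¹ = y * y' * y⁻¹ * y'⁻¹ := by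
      calc y * z * (y' * z') * (y * z)⁻¹ * (y' * z')⁻¹ = y * (z * (y' * z')) * z⁻¹ * y⁻¹ * (y' * z')⁻¹ := by group
        _ = y * y' * (z' * y⁻¹) * z'⁻¹ * y'⁻¹ := by rw [c1.eq]; group
        _ = y * y' * y⁻¹ * y'⁻¹ := by rw [c2.inv_right.eq]; group
    rw [e1]
    exact hiall y hy y' hy'
  obtain ⟨h1, h2⟩ := Cfsg.Agent.S1208.result S hS n hm A (map_subtype_le _) inferInstance hAc Q hQS eQ
  have h2' := h2.resolve_right h6
  rcases h1 with h1 | h1
  · obtain ⟨⟨P', K, hK, hKc⟩, -⟩ := Cfsg.Agent.S1212.result S hS n hm A (map_subtype_le _) inferInstance hAc Q hQS eQ h1 h2'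
    haveI : Fact (Nat.Prime 2) := ⟨Nat.prime_two⟩
    rcases hK.eq_bot_or_eq_top with e' | e'
    · have hc := hKc
      rw [e', Subgroup.isComplement'_bot_left] at hc
      haveI hp : IsPGroup 2 G := fun x => by
        obtain ⟨j, hj⟩ := P'.isPGroup' ⟨x, hc.ge (mem_top x)⟩
        exact ⟨j, congrArg Subtype.val hj⟩
      obtain ⟨j, hj⟩ := hp.exists_card_eq
      have h9 : 3 ∣ Nat.card G := by rw [h.card]; exact ⟨3 * 2 ^ a * q ^ b, by ring⟩
      rw [hj] at h9
      exact absurd (Nat.prime_three.dvd_of_dvd_pow h9) (by norm_num)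
    · have hc := hKc
      rw [e', Subgroup.isComplement'_top_left] at hc
      have := hm
      rw [S.card_eq_multiplicity, ← P'.card_eq_multiplicity, hc, card_bot] at this
      exact absurd this (Nat.one_lt_two_pow (by omega)).ne
  · obtain ⟨⟨K, hK, hK2, -, -⟩, -⟩ := Cfsg.Agent.S1211.result S hS n hm A (map_subtype_le _) inferInstance hAc Q hQS eQ h1 h2'
    rcases hK.eq_bot_or_eq_top with e' | e'
    · subst e'
      rw [index_bot] at hK2
      haveI : Fact (Nat.Prime 2) := ⟨Nat.prime_two⟩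
      haveI : IsCyclic G := isCyclic_of_prime_card hK2
      exact h.nonab ⟨⟨fun x z => by letI := IsCyclic.commGroup (α := G); exact mul_comm x z⟩⟩
    · rw [e', index_top] at hK2; omega

namespace Big

variable {S : Sylow 2 G}

theorem rank_le_two (hB : Big k U S) (hV4 : Nat.card V = 4) (hCV : centralizer (V : Set G) = U)
    (hΩ : ∀ x ∈ U, x * x = 1 → x ∈ V) : Cfsg.PRankLE 2 2 G := by
  classical
  haveI : Fact (Nat.Prime 2) := ⟨Nat.prime_two⟩
  intro A0 hA0c hA0e
  haveI := hA0c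
  obtain ⟨P, hP⟩ := (show IsPGroup 2 A0 from fun x => ⟨1, Subtype.ext (by simpa using hA0e x x.2)⟩).exists_le_sylow
  obtain ⟨g, hg⟩ := MulAction.exists_smul_eq G P S
  set A := A0.map (MulAut.conj g).toMonoidHom with hA
  have hAS : A ≤ (S : Subgroup G) := by
    rintro _ ⟨x, hx, rfl⟩
    rw [← hg, Sylow.coe_subgroup_smul]; exact ⟨x, hP hx, rfl⟩
  have hAe : ∀ x ∈ A, x * x = 1 := by
    rintro _ ⟨x, hx, rfl⟩
    rw [← map_mul, ← pow_two, hA0e x hx, map_one]
  have hAc : ∀ x ∈ A, ∀ y ∈ A, x * y = y * x := fun x hx y hy =>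
    congrArg Subtype.val (IsMulCommutative.is_comm.comm (⟨x, hx⟩ : A) ⟨y, hy⟩)
  have hinf : A ⊓ U ≤ V := fun x hx => hΩ x hx.2 (hAe x hx.1)
  rw [← card_map_of_injective (K := A0) (f := (MulAut.conj g).toMonoidHom) (MulAut.conj g).injective]
  show Nat.card A ≤ 2 ^ 2
  by_cases hAU : A ≤ U
  · have h1 := card_le_of_le hinf
    rw [inf_eq_left.2 hAU, hV4] at h1
    exact h1.trans (by norm_num)
  obtain ⟨s, hs, hsU⟩ := SetLike.not_le_iff_exists.1 hAU
  have h2 : Nat.card (A ⊓ U : Subgroup G) ≤ 2 := by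
    have hlt : A ⊓ U < V := lt_of_le_of_ne hinf fun e => hsU (by
      rw [← hCV]
      refine mem_centralizer_iff.2 fun v hv => ?_
      exact (hAc s hs v (e.ge hv).1).symm)
    have hd := card_dvd_of_le hinf
    rw [hV4] at hd
    have hne : Nat.card (A ⊓ U : Subgroup G) ≠ 4 := fun e => hlt.ne (eq_of_le_of_card_ge hinf (by rw [hV4, e]))
    have := Nat.le_of_dvd (by norm_num) hd
    interval_cases hc : Nat.card (A ⊓ U : Subgroup G) <;> first | omega | norm_num at hd
  let f : A → (A ⊓ U : Subgroup G) × Bool := fun p =>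
    if hp : (p : G) ∈ U then (⟨p, p.2, hp⟩, true)
    else (⟨(p : G) * s, A.mul_mem p.2 hs, hB.mul_mem_of_notMem (hAS p.2) (hAS hs) hp hsU⟩, false)
  have hf : Function.Injective f := by
    intro u u' e
    simp only [f] at e
    split_ifs at e with hu hu' <;> simp only [Prod.mk.injEq, Subtype.mk.injEq, Bool.true_eq_false,
      Bool.false_eq_true, and_false, and_true] at e
    · have e' := congrArg Subtype.val e; exact Subtype.ext e'
    · have e' := congrArg Subtype.val e; exact Subtype.ext (mul_right_cancel e')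
  have := Nat.card_le_card_of_injective f hf
  rw [Nat.card_prod, Nat.card_eq_fintype_card (α := Bool), Fintype.card_bool] at this
  omega

theorem no_cyclic_index_two (hB : Big k U S) (h : Data R q a b) (hV4 : Nat.card V = 4)
    (hΩ : ∀ x ∈ U, x * x = 1 → x ∈ V) {X : Subgroup G} (hX : IsCyclic X) (hXS : X ≤ (S : Subgroup G))
    (hc : Nat.card (S : Subgroup G) ≤ 2 * Nat.card X) : False := by
  haveI := hX
  have hsq : ∀ u ∈ (S : Subgroup G), u * u ∈ X := by
    intro u hu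
    have h1 := (X.subgroupOf (S : Subgroup G)).card_mul_index
    rw [Nat.card_congr (subgroupOfEquivOfLe hXS).toEquiv] at h1
    have hi : (X.subgroupOf (S : Subgroup G)).index ≤ 2 :=
      Nat.le_of_mul_le_mul_left (by rw [h1, mul_comm]; exact hc) Nat.card_pos
    rcases Nat.lt_or_ge (X.subgroupOf (S : Subgroup G)).index 2 with hlt | hge
    · have h2 : (X.subgroupOf (S : Subgroup G)).index = 1 := by
        have : (X.subgroupOf (S : Subgroup G)).index ≠ 0 := index_ne_zero_of_finite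
        omega
      exact X.mul_mem (relIndex_eq_one.1 h2 hu) (relIndex_eq_one.1 h2 hu)
    · exact mem_subgroupOf.1 (mul_self_mem_of_index_two (le_antisymm hi hge) (⟨u, hu⟩ : (S : Subgroup G)))
  set K := Subgroup.closure {x : G | ∃ u ∈ U, x = u * u} with hK
  have hKX : K ≤ X ⊓ U := (Subgroup.closure_le _).2 (by
    rintro x ⟨u, hu, rfl⟩; exact ⟨hsq u (hB.le hu), U.mul_mem hu hu⟩)
  have hKn : k ∈ normalizer (K : Set G) := by
    refine mem_normalizer_iff_map_conj_eq.2 (eq_of_le_of_card_ge ?_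
      (card_map_of_injective (MulAut.conj k).injective).ge)
    rw [hK, MonoidHom.map_closure, Subgroup.closure_le]
    rintro _ ⟨_, ⟨u, hu, rfl⟩, rfl⟩
    exact subset_closure ⟨k * u * k⁻¹, hB.max.1.conj_mem hu, by show k * (u * u) * k⁻¹ = _; group⟩
  have hKi : Inv k K := hB.max.1.mono (hKX.trans inf_le_right) hKn
  haveI : IsCyclic K := isCyclic_of_injective (inclusion (hKX.trans inf_le_left))
    (inclusion_injective _)
  have hK1 := hKi.eq_bot_of_cyclic h hB.order (hB.two.to_le (hKX.trans inf_le_right))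
  have : Nat.card U ≤ Nat.card V := card_le_of_le fun u hu => hΩ u hu (mem_bot.1 (hK1 ▸ (subset_closure ⟨u, hu, rfl⟩ : u * u ∈ K)))
  rw [hV4] at this
  have := hB.size
  omega

/-- In 2-rank two the Sylow subgroup is of type `U₃(4)`. -/
theorem psu_type (hB : Big k U S) (h : One R q a b) [IsSimpleGroup G] (hV4 : Nat.card V = 4) (hVU : V ≤ U)
    (hVe : ∀ v ∈ V, v * v = 1) (hCV : centralizer (V : Set G) = U) (hΩ : ∀ x ∈ U, x * x = 1 → x ∈ V) :
    (S : Subgroup G) = U ∧ Nat.card U = 64 ∧ (∀ u ∈ U, u * u ∈ V) ∧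
      (∀ u ∈ U, (∀ w ∈ U, u * w = w * u) → u ∈ V) ∧
      (∀ u ∈ U, ∀ w ∈ U, u * w * u⁻¹ * w⁻¹ ∈ V) := by
  haveI : Fact (Nat.Prime 2) := ⟨Nat.prime_two⟩
  letI : Fintype (GaloisField 2 4) := Fintype.ofFinite _
  have hF : Fintype.card (GaloisField 2 4) = 16 := by
    rw [← Nat.card_eq_fintype_card, GaloisField.card 2 4 (by norm_num)]; norm_num
  obtain ⟨P⟩ := Sylow.nonempty (p := 2) (G := Cfsg.PSU 3 (GaloisField 2 4) 4)
  rcases Cfsg.Agent.S0516.result h.nonab (hB.rank_le_two hV4 hCV hΩ) S hF P with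
    ⟨n, hn, ⟨e⟩⟩ | ⟨n, hn, hcard, x, y, hx, hy, hrel⟩ | hw | ⟨⟨e⟩⟩
  · exfalso
    haveI : NeZero n := ⟨by omega⟩
    refine hB.no_cyclic_index_two h.toData hV4 hΩ (X := zpowers ((e.symm (DihedralGroup.r 1) : (S : Subgroup G)) : G))
      inferInstance (zpowers_le.2 (e.symm (DihedralGroup.r 1)).2) ?_
    rw [Nat.card_zpowers, Subgroup.orderOf_coe, MulEquiv.orderOf_eq, DihedralGroup.orderOf_r_one,
      Nat.card_congr e.toEquiv, DihedralGroup.nat_card]
  · exfalso
    refine hB.no_cyclic_index_two h.toData hV4 hΩ (X := zpowers ((x : (S : Subgroup G)) : G))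
      inferInstance (zpowers_le.2 x.2) ?_
    rw [Nat.card_zpowers, Subgroup.orderOf_coe, hx, hcard, pow_succ]
    exact (mul_comm _ _).le
  · exact absurd hw (h.toData.not_wreathed S)
  obtain ⟨h64, hkl, hcl, hcom, -, hexp⟩ := Cfsg.Agent.S1248.result hF P
  have hS64 : Nat.card (S : Subgroup G) = 64 := by rw [Nat.card_congr e.toEquiv]; exact h64
  have hUS : (S : Subgroup G) = U := by
    obtain ⟨i, hi⟩ := hB.max.1.exists_four_pow h.toData hB.order hB.two
    have h1 := card_le_of_le hB.le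
    have h2 := Nat.le_of_dvd (Nat.mul_pos two_pos Nat.card_pos) hB.card_le_two
    rw [hS64, hi] at h1 h2
    refine (eq_of_le_of_card_ge hB.le ?_).symm
    rw [hS64, hi]
    rcases Nat.lt_or_ge i 3 with hlt | hge
    · exfalso
      have := Nat.pow_le_pow_right (show 0 < 4 by norm_num) (show i ≤ 2 by omega)
      omega
    · exact le_trans (by norm_num) (Nat.pow_le_pow_right (show 0 < 4 by norm_num) hge)
  have hVS : V ≤ (S : Subgroup G) := hVU.trans hB.le
  have hZ : ∀ u : (S : Subgroup G), u ∈ center (S : Subgroup G) ↔ (u : G) ∈ V := by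
    have hle : V.subgroupOf (S : Subgroup G) ≤ center (S : Subgroup G) := fun v hv =>
      mem_center_iff.2 fun w => Subtype.ext (by
        have hwU : (w : G) ∈ centralizer (V : Set G) := hCV.symm ▸ hUS.le w.2
        exact (mem_centralizer_iff.1 hwU _ hv).symm)
    have hc : Nat.card (center (S : Subgroup G)) = 4 := by
      rw [Nat.card_congr (Subgroup.centerCongr e).toEquiv, hkl.card_four]
    have heq : V.subgroupOf (S : Subgroup G) = center (S : Subgroup G) := eq_of_le_of_card_ge hle (by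
      rw [hc, Nat.card_congr (subgroupOfEquivOfLe hVS).toEquiv, hV4])
    intro u
    rw [← heq, mem_subgroupOf]
  have hin : ∀ u : (S : Subgroup G), e u ∈ center (P : Subgroup (Cfsg.PSU 3 (GaloisField 2 4) 4)) → (u : G) ∈ V := by
    intro u hu
    refine (hZ u).1 (mem_center_iff.2 fun w => e.injective ?_)
    rw [map_mul, map_mul]; exact mem_center_iff.1 hu (e w)
  refine ⟨hUS, by rw [← hUS, hS64], fun u hu => ?_, fun u hu hc => ?_, fun u hu w hw => ?_⟩
  · refine hin (⟨u, hB.le hu⟩ * ⟨u, hB.le hu⟩) ?_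
    rw [map_mul, ← pow_two, ← QuotientGroup.eq_one_iff, QuotientGroup.mk_pow]
    exact hexp _
  · refine (hZ ⟨u, hB.le hu⟩).1 (mem_center_iff.2 fun w => Subtype.ext ?_)
    exact (hc w (hUS.le w.2)).symm
  · refine hin (⟨u, hB.le hu⟩ * ⟨w, hB.le hw⟩ * ⟨u, hB.le hu⟩⁻¹ * ⟨w, hB.le hw⟩⁻¹) ?_
    rw [hcom, map_mul, map_mul, map_mul, map_inv, map_inv]
    exact Subgroup.commutator_mem_commutator (mem_top _) (mem_top _)

end Big

end CfsgLib.Known.ThreeNine
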