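import Cfsg.Agent.Lib.Known.ThreeNine.Setup

/-!
# Counting conjugates normalised by an element of order three
-/

set_option autoImplicit false
set_option linter.all false

namespace CfsgLib.Known.ThreeNine

open Subgroup

universe u

variable {G : Type u} [Group G] [Finite G] {R : Sylow 3 G} {q a b : ℕ}

/-- The conjugates of `U` normalised by `k`. -/
def conjInv (k : G) (U : Subgroup G) : Set (Subgroup G) :=
  {V | (∃ g : G, U.map (MulAut.conj g).toMonoidHom = V) ∧ k ∈ normalizer (V : Set G)}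

theorem One.conjInv_bound (h : One R q a b) {k k0 : G} (hk : orderOf k = 3) (hk0 : orderOf k0 = 3)
    {U : Subgroup G} (hU : Inv k0 U) (hU1 : U ≠ ⊥)
    (hc : Nat.card (normalizer (U : Set G)) = 3 * Nat.card U ∨
      Nat.card (normalizer (U : Set G)) = 6 * Nat.card U) :
    (conjInv k U).ncard * Nat.card (normalizer (U : Set G)) ≤ 18 * Nat.card U := by
  classical
  set L := normalizer (U : Set G) with hL
  obtain ⟨h3, -⟩ := h.local_decomp hk0 hU hU1 hU.norm le_normalizer le_rfl hc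
  let Φ : Type u := {g : G // g⁻¹ * k * g ∈ L}
  haveI : Finite Φ := Subtype.finite
  have h1 : Nat.card (conjInv k U) * Nat.card L ≤ Nat.card Φ := by
    rw [← Nat.card_prod]
    refine Nat.card_le_card_of_injective
      (fun p => (⟨Classical.choose p.1.2.1 * p.2, ?_⟩ : Φ)) fun p p' e => ?_
    · set g := Classical.choose p.1.2.1 with hg
      have hgV := Classical.choose_spec p.1.2.1
      have : g⁻¹ * k * g ∈ L := by
        rw [hL, mem_normalizer_iff]
        intro x
        have hk' := mem_normalizer_iff.1 p.1.2.2 (g * x * g⁻¹)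
        have hmem : ∀ y, g * y * g⁻¹ ∈ (p.1 : Subgroup G) ↔ y ∈ U := by
          intro y
          rw [← hgV]
          exact Subgroup.mem_map_iff_mem (f := (MulAut.conj g).toMonoidHom) (MulAut.conj g).injective
        rw [hmem x, show k * (g * x * g⁻¹) * k⁻¹ = g * (g⁻¹ * k * g * x * (g⁻¹ * k * g)⁻¹) * g⁻¹ by group,
          hmem] at hk'
        exact hk'
      have := L.mul_mem (L.mul_mem (L.inv_mem p.2.2) this) p.2.2
      rwa [show ((p.2 : G))⁻¹ * (g⁻¹ * k * g) * p.2 = (g * p.2)⁻¹ * k * (g * p.2) by group] at this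
    · have e' : Classical.choose p.1.2.1 * (p.2 : G) = Classical.choose p'.1.2.1 * p'.2 := congrArg Subtype.val e
      have hV : ∀ (V : conjInv k U) (l : L),
          U.map (MulAut.conj (Classical.choose V.2.1 * l)).toMonoidHom = V.1 := by
        intro V l
        have hl : U.map (MulAut.conj (l : G)).toMonoidHom = U := mem_normalizer_iff_map_conj_eq.1 l.2
        calc U.map (MulAut.conj (Classical.choose V.2.1 * l)).toMonoidHom =
              (U.map (MulAut.conj (l : G)).toMonoidHom).map (MulAut.conj (Classical.choose V.2.1)).toMonoidHom := by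
              rw [Subgroup.map_map, map_mul]; rfl
          _ = U.map (MulAut.conj (Classical.choose V.2.1)).toMonoidHom := by rw [hl]
          _ = V.1 := Classical.choose_spec V.2.1
      have hpp : p.1 = p'.1 := Subtype.ext (by rw [← hV p.1 p.2, e', hV])
      rw [hpp] at e'
      exact Prod.ext hpp (Subtype.ext (mul_left_cancel e'))
  have h2 : Nat.card Φ ≤ 9 * (2 * Nat.card U) := by
    haveI := Fintype.ofFinite Φ
    haveI := Fintype.ofFinite {x : L // orderOf x = 3}
    refine le_trans ?_ (Nat.mul_le_mul_left 9 h3)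
    let f : Φ → {x : L // orderOf x = 3} := fun g => ⟨⟨g.1⁻¹ * k * g.1, g.2⟩, by
      rw [← Subgroup.orderOf_coe]
      show orderOf (g.1⁻¹ * k * g.1) = 3
      rw [← hk, show g.1⁻¹ * k * g.1 = (MulAut.conj g.1⁻¹).toMonoidHom k by simp,
        orderOf_injective _ (MulAut.conj g.1⁻¹).injective]⟩
    rw [Nat.card_eq_fintype_card, Nat.card_eq_fintype_card, ← Finset.card_univ, ← Finset.card_univ]
    refine Finset.card_le_mul_card_image_of_maps_to (f := f) (fun _ _ => Finset.mem_univ _) 9 fun x _ => ?_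
    rcases Finset.eq_empty_or_nonempty (Finset.univ.filter fun g => f g = x) with e | ⟨g0, hg0⟩
    · rw [e, Finset.card_empty]; exact Nat.zero_le _
    rw [← Fintype.card_subtype, ← Nat.card_eq_fintype_card, ← h.card_centralizer hk]
    refine Nat.card_le_card_of_injective (fun g => (⟨g.1.1 * g0.1⁻¹, ?_⟩ : centralizer ({k} : Set G)))
      fun g g' e => ?_
    · have e : g.1.1⁻¹ * k * g.1.1 = g0.1⁻¹ * k * g0.1 :=
        congrArg (fun z : {x : L // orderOf x = 3} => ((z.1 : L) : G)) (g.2.trans (Finset.mem_filter.1 hg0).2.symm)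
      refine mem_centralizer_singleton_iff.2 ?_
      calc g.1.1 * g0.1⁻¹ * k = g.1.1 * (g0.1⁻¹ * k * g0.1) * g0.1⁻¹ := by group
        _ = k * (g.1.1 * g0.1⁻¹) := by rw [← e]; group
    · exact Subtype.ext (Subtype.ext (mul_right_cancel (congrArg Subtype.val e)))
  rw [Nat.card_coe_set_eq] at h1
  omega

theorem One.conjInv_le_six (h : One R q a b) {k k0 : G} (hk : orderOf k = 3) (hk0 : orderOf k0 = 3)
    {U : Subgroup G} (hU : Inv k0 U) (hU1 : U ≠ ⊥)
    (hc : Nat.card (normalizer (U : Set G)) = 3 * Nat.card U ∨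
      Nat.card (normalizer (U : Set G)) = 6 * Nat.card U) : (conjInv k U).ncard ≤ 6 := by
  have h1 := h.conjInv_bound hk hk0 hU hU1 hc
  have hpos := Nat.card_pos (α := U)
  have h2 : (conjInv k U).ncard * (3 * Nat.card U) ≤ 6 * (3 * Nat.card U) := by
    refine le_trans (Nat.mul_le_mul_left _ ?_) (h1.trans (le_of_eq (by ring)))
    rcases hc with hc | hc <;> rw [hc]
    exact Nat.mul_le_mul_right _ (by norm_num)
  exact Nat.le_of_mul_le_mul_right h2 (by omega)

/-- Two elements with trivial orbit product generate an invariant abelian subgroup or lie in `R`. -/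
theorem One.exists_abelian_inv (h : One R q a b) {r c : G} (hr : r ∈ (R : Subgroup G)) (hr1 : r ≠ 1)
    (hcomm : c * (r * c * r⁻¹) = r * c * r⁻¹ * c)
    (hprod : c * (r * c * r⁻¹) * (r * (r * c * r⁻¹) * r⁻¹) = 1) :
    c ∈ (R : Subgroup G) ∨ ∃ A : Subgroup G, Inv r A ∧ c ∈ A ∧ r * c * r⁻¹ ∈ A ∧
      (∀ x ∈ A, ∀ y ∈ A, x * y = y * x) := by
  classical
  haveI : Fact (Nat.Prime 3) := ⟨Nat.prime_three⟩
  set c1 := r * c * r⁻¹ with hc1
  set A := Subgroup.closure ({c, c1} : Set G) with hA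
  have hcA : c ∈ A := subset_closure (by simp)
  have hc1A : c1 ∈ A := subset_closure (by simp)
  have hAc : ∀ x ∈ A, ∀ y ∈ A, x * y = y * x := by
    have : IsMulCommutative A := Subgroup.isMulCommutative_closure (by
      intro x hx y hy
      simp only [Set.mem_insert_iff, Set.mem_singleton_iff] at hx hy
      rcases hx with rfl | rfl <;> rcases hy with rfl | rfl
      exacts [rfl, hcomm, hcomm.symm, rfl])
    intro x hx y hy
    exact congrArg Subtype.val (this.is_comm.comm ⟨x, hx⟩ ⟨y, hy⟩)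
  have hn : r ∈ normalizer (A : Set G) := by
    refine mem_normalizer_iff_map_conj_eq.2 (eq_of_le_of_card_ge ?_
      (card_map_of_injective (MulAut.conj r).injective).ge)
    rw [hA, MonoidHom.map_closure, Subgroup.closure_le]
    rintro _ ⟨x, hx, rfl⟩
    simp only [Set.mem_insert_iff, Set.mem_singleton_iff] at hx
    rcases hx with rfl | rfl
    · exact hc1A
    · show r * c1 * r⁻¹ ∈ A
      rw [eq_inv_of_mul_eq_one_right hprod]
      exact A.inv_mem (A.mul_mem hcA hc1A)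
  by_cases h3 : 3 ∣ Nat.card A
  · left
    obtain ⟨d, hd⟩ := exists_prime_orderOf_dvd_card' 3 h3
    rw [← Subgroup.orderOf_coe] at hd
    have hle : A ≤ centralizer ({(d : G)} : Set G) := fun x hx =>
      mem_centralizer_singleton_iff.2 (hAc x hx d d.2)
    have hA3 : IsPGroup 3 A := (IsPGroup.of_card (n := 2) (by rw [h.card_centralizer hd]; norm_num) :
      IsPGroup 3 (centralizer ({(d : G)} : Set G))).to_le hle
    have hr3 : IsPGroup 3 (zpowers r) := IsPGroup.of_card (n := 1) (by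
      rw [Nat.card_zpowers, orderOf_eq_prime (h.cube r hr) hr1, pow_one])
    obtain ⟨P, hP⟩ := (hr3.to_sup_of_normal_right' hA3 (zpowers_le.2 hn)).exists_le_sylow
    obtain ⟨g, hg⟩ := MulAction.exists_smul_eq G P R
    have hR : ∀ x ∈ (P : Subgroup G), g * x * g⁻¹ ∈ (R : Subgroup G) := fun x hx => by
      rw [← hg, Sylow.coe_subgroup_smul]; exact ⟨x, hx, rfl⟩
    refine h.mem_of_commute hr hr1 (mul_left_cancel (a := g) (mul_right_cancel (b := g⁻¹) ?_))
    have := h.comm _ (hR c (hP (mem_sup_right hcA))) _ (hR r (hP (mem_sup_left (mem_zpowers r))))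
    calc g * (c * r) * g⁻¹ = g * c * g⁻¹ * (g * r * g⁻¹) := by group
      _ = g * r * g⁻¹ * (g * c * g⁻¹) := this
      _ = g * (r * c) * g⁻¹ := by group
  · exact Or.inr ⟨A, ⟨hn, h3⟩, hcA, hc1A, hAc⟩

theorem One.pow_three_of_conj (h : One R q a b) {r t : G} (hr : r ∈ (R : Subgroup G)) (hc : IsConj r t) :
    t * t * t = 1 := by
  obtain ⟨g, hg⟩ := isConj_iff.1 hc
  have h3 : r * r * r = 1 := by rw [← pow_three', h.cube r hr]
  rw [← hg]
  calc g * r * g⁻¹ * (g * r * g⁻¹) * (g * r * g⁻¹) = g * (r * r * r) * g⁻¹ := by group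
    _ = 1 := by rw [h3]; group

/-- The solutions of the triple of classes of order three. -/
theorem One.solSet_three (h : One R q a b) {r t : G} (hr : r ∈ (R : Subgroup G)) (hr1 : r ≠ 1)
    (ht : t ∈ solSet r r r) :
    (t ∈ (R : Subgroup G) ∧ t ≠ 1 ∧ t ≠ r) ∨
      ∃ A : Subgroup G, Inv r A ∧ ∃ c ∈ A, c ≠ 1 ∧ t = r * r * c := by
  obtain ⟨h1, h2⟩ := ht
  have t3 := h.pow_three_of_conj hr h1
  have u3 := h.pow_three_of_conj hr h2
  have r3 : r * r * r = 1 := by rw [← pow_three', h.cube r hr]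
  have ht1 : t ≠ 1 := fun e => by
    obtain ⟨g, hg⟩ := isConj_iff.1 h1
    rw [e, conj_eq_one_iff] at hg
    exact hr1 hg
  have htr : t ≠ r := fun e => by
    obtain ⟨g, hg⟩ := isConj_iff.1 h2
    rw [e, inv_mul_cancel, conj_eq_one_iff] at hg
    exact hr1 hg
  by_cases htR : t ∈ (R : Subgroup G)
  · exact Or.inl ⟨htR, ht1, htr⟩
  right
  have hri : r⁻¹ = r * r := inv_eq_of_mul_eq_one_left r3
  set c := r * t with hc
  have htc : t = r * r * c := by rw [hc, ← mul_assoc, r3, one_mul]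
  set c1 := r * c * r⁻¹ with hc1
  set c2 := r * c1 * r⁻¹ with hc2
  have e1 : c2 * c1 * c = 1 := by
    calc c2 * c1 * c = r * r * r * t * t * t := by rw [hc2, hc1, hc]; group
      _ = 1 := by rw [r3, one_mul, t3]
  have e2 : c * c1 * c2 = 1 := by
    have u3' : r⁻¹ * t * (r⁻¹ * t) * (r⁻¹ * t) = 1 := by
      calc r⁻¹ * t * (r⁻¹ * t) * (r⁻¹ * t) = (t⁻¹ * r * (t⁻¹ * r) * (t⁻¹ * r))⁻¹ := by group
        _ = 1 := by rw [u3, inv_one]
    calc c * c1 * c2 = r * t * (r * r) * t * (r * r) * t * (r * r)⁻¹ := by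
          rw [hc2, hc1, hc]; group
      _ = r * t * r⁻¹ * t * r⁻¹ * t * (r * r)⁻¹ := by rw [hri]
      _ = (r * r) * (r⁻¹ * t * (r⁻¹ * t) * (r⁻¹ * t)) * (r * r)⁻¹ := by group
      _ = 1 := by rw [u3']; group
  have hcomm : c * c1 = c1 * c := by
    have a1 : c * c1 = c2⁻¹ := eq_inv_of_mul_eq_one_left e2
    have a2 : c1 * c = c2⁻¹ := eq_inv_of_mul_eq_one_right (by rw [← mul_assoc]; exact e1)
    rw [a1, a2]
  have hc0 : c ≠ 1 := fun e => htR (by
    rw [htc, e, mul_one]; exact (R : Subgroup G).mul_mem hr hr)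
  rcases h.exists_abelian_inv hr hr1 hcomm e2 with hcR | ⟨A, hA, hcA, -, -⟩
  · exact absurd (htc ▸ (R : Subgroup G).mul_mem ((R : Subgroup G).mul_mem hr hr) hcR) htR
  · exact ⟨A, hA, c, hcA, hc0, htc⟩

/-- The solutions with an involution. -/
theorem One.solSet_invol (h : One R q a b) {r v t : G} (hr : r ∈ (R : Subgroup G)) (hr1 : r ≠ 1)
    (hv : v * v = 1) (hv1 : v ≠ 1) (ht : t ∈ solSet v r r) :
    ∃ V : Subgroup G, Inv r V ∧ Nat.card V = 4 ∧ t ∈ V ∧ t ≠ 1 ∧ ∀ x ∈ V, x * x = 1 := by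
  obtain ⟨h1, h2⟩ := ht
  obtain ⟨g, hg⟩ := isConj_iff.1 h1
  have t2 : t * t = 1 := by
    rw [← hg]
    calc g * v * g⁻¹ * (g * v * g⁻¹) = g * (v * v) * g⁻¹ := by group
      _ = 1 := by rw [hv]; group
  have ht1 : t ≠ 1 := fun e => by rw [e, conj_eq_one_iff] at hg; exact hv1 hg
  have ti : t⁻¹ = t := inv_eq_of_mul_eq_one_right t2
  have u3 := h.pow_three_of_conj hr h2
  rw [ti] at u3
  have r3 : r * r * r = 1 := by rw [← pow_three', h.cube r hr]
  have e2 : t * (r * t * r⁻¹) * (r * (r * t * r⁻¹) * r⁻¹) = 1 := by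
    calc t * (r * t * r⁻¹) * (r * (r * t * r⁻¹) * r⁻¹) = t * r * (t * r) * (t * r) * (r * r * r)⁻¹ := by group
      _ = 1 := by rw [u3, r3]; group
  set t1 := r * t * r⁻¹ with ht1'
  have t12 : t1 * t1 = 1 := by
    rw [ht1']
    calc r * t * r⁻¹ * (r * t * r⁻¹) = r * (t * t) * r⁻¹ := by group
      _ = 1 := by rw [t2]; group
  have t22 : r * t1 * r⁻¹ * (r * t1 * r⁻¹) = 1 := by
    calc r * t1 * r⁻¹ * (r * t1 * r⁻¹) = r * (t1 * t1) * r⁻¹ := by group
      _ = 1 := by rw [t12]; group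
  have hcomm : t * t1 = t1 * t := by
    have a1 : t * t1 = (r * t1 * r⁻¹)⁻¹ := eq_inv_of_mul_eq_one_left e2
    have a2 := congrArg (·⁻¹) a1
    simp only [mul_inv_rev, inv_inv, ti, inv_eq_of_mul_eq_one_right t12] at a2
    rw [a1, inv_eq_of_mul_eq_one_right t22, a2]
  rcases h.exists_abelian_inv hr hr1 hcomm e2 with htR | ⟨A, hA, htA, -, -⟩
  · exfalso
    have := h.cube t htR
    rw [pow_succ, pow_two, t2, one_mul] at this
    exact ht1 this
  obtain ⟨V, hV, hV4, -, htV, -, -, -, hVe⟩ :=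
    hA.orbit_four h.toData (orderOf_eq_prime (hp := ⟨Nat.prime_three⟩) (h.cube r hr) hr1) htA t2 ht1
  exact ⟨V, hV, hV4, htV, ht1, hVe⟩

theorem One.T_le (h : One R q a b) {r : G} (hr : r ∈ (R : Subgroup G)) (hr1 : r ≠ 1)
    (𝒰 : Set (Subgroup G)) (B : ℕ) (hcov : ∀ A, Inv r A → A ≠ ⊥ → ∃ U ∈ 𝒰, A ≤ U)
    (hB : (⋃ U ∈ 𝒰, (U : Set G)).ncard ≤ B) : (solSet r r r).ncard ≤ 7 + B := by
  classical
  haveI := Fintype.ofFinite G
  have hsub : solSet r r r ⊆ (((R : Subgroup G) : Set G) \ {1, r}) ∪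
      (fun c => r * r * c) '' (⋃ U ∈ 𝒰, (U : Set G)) := by
    intro t ht
    rcases h.solSet_three hr hr1 ht with ⟨htR, h1, h2⟩ | ⟨A, hA, c, hc, hc1, rfl⟩
    · exact Or.inl ⟨htR, by simp [h1, h2]⟩
    · obtain ⟨U, hU, hAU⟩ := hcov A hA fun e => hc1 (by rw [e, mem_bot] at hc; exact hc)
      exact Or.inr ⟨c, Set.mem_iUnion₂.2 ⟨U, hU, hAU hc⟩, rfl⟩
  refine (Set.ncard_le_ncard hsub (Set.toFinite _)).trans ((Set.ncard_union_le _ _).trans
    (Nat.add_le_add ?_ ((Set.ncard_image_le (Set.toFinite _)).trans hB)))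
  rw [Set.ncard_diff (by
    intro x hx
    simp only [Set.mem_insert_iff, Set.mem_singleton_iff] at hx
    rcases hx with rfl | rfl
    exacts [one_mem _, hr]), ← Nat.card_coe_set_eq]
  rw [Set.ncard_pair (Ne.symm hr1)]
  show Nat.card (R : Subgroup G) - 2 ≤ 7
  rw [h.card_R]

theorem One.N_le (h : One R q a b) {r v : G} (hr : r ∈ (R : Subgroup G)) (hr1 : r ≠ 1)
    (hv : v * v = 1) (hv1 : v ≠ 1) (𝒱 : Set (Subgroup G))
    (hcov : ∀ V : Subgroup G, Inv r V → Nat.card V = 4 → (∀ x ∈ V, x * x = 1) → V ∈ 𝒱) :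
    (solSet v r r).ncard ≤ 3 * 𝒱.ncard := by
  classical
  let T : Subgroup G → Set G := fun V => if Nat.card V = 4 then (V : Set G) \ {1} else ∅
  have hsub : solSet v r r ⊆ ⋃ V ∈ 𝒱, T V := by
    intro t ht
    obtain ⟨V, hV, hV4, htV, ht1, hVe⟩ := h.solSet_invol hr hr1 hv hv1 ht
    refine Set.mem_iUnion₂.2 ⟨V, hcov V hV hV4 hVe, ?_⟩
    simp [T, hV4, htV, ht1]
  refine (Set.ncard_le_ncard hsub (Set.toFinite _)).trans ?_
  have hfin : 𝒱.Finite := Set.toFinite _
  rw [Set.ncard_eq_toFinset_card _ hfin, mul_comm]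
  calc (⋃ V ∈ 𝒱, T V).ncard ≤ ∑ V ∈ hfin.toFinset, (T V).ncard := by
        refine le_trans (le_of_eq ?_) (Finset.set_ncard_biUnion_le _ _)
        simp
    _ ≤ hfin.toFinset.card * 3 := by
        refine (Finset.sum_le_card_nsmul _ _ 3 fun V _ => ?_).trans_eq (smul_eq_mul _ _)
        simp only [T]
        split
        · rename_i h4
          rw [Set.ncard_diff (by simp), Set.ncard_singleton, ← Nat.card_coe_set_eq]
          show Nat.card V - 1 ≤ 3
          omega
        · simp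

theorem ncard_biUnion_le_mul (𝒰 : Set (Subgroup G)) (m c : ℕ) (hm : 𝒰.ncard ≤ c)
    (hU : ∀ U ∈ 𝒰, Nat.card U ≤ m) : (⋃ U ∈ 𝒰, (U : Set G)).ncard ≤ c * m := by
  classical
  have hfin : 𝒰.Finite := Set.toFinite _
  calc (⋃ U ∈ 𝒰, (U : Set G)).ncard ≤ ∑ U ∈ hfin.toFinset, (U : Set G).ncard := by
        refine le_trans (le_of_eq ?_) (Finset.set_ncard_biUnion_le _ _)
        simp
    _ ≤ hfin.toFinset.card * m := by
        refine (Finset.sum_le_card_nsmul _ _ m fun U hU' => ?_).trans_eq (smul_eq_mul _ _)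
        rw [← Nat.card_coe_set_eq]
        exact hU U (hfin.mem_toFinset.1 hU')
    _ ≤ c * m := Nat.mul_le_mul_right _ (by rw [← Set.ncard_eq_toFinset_card _ hfin]; exact hm)

end CfsgLib.Known.ThreeNine
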