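import Mathlib

/-!
# The arithmetic of the cyclic case
-/

set_option autoImplicit false
set_option linter.all false

namespace CfsgLib.Known.ThreeNine

theorem not_sq_dvd_factorial {q : ℕ} (hq : q.Prime) : ∀ n : ℕ, n < 2 * q → ¬ q ^ 2 ∣ n.factorial := by
  intro n
  induction n with
  | zero =>
    intro _ h
    rw [Nat.factorial_zero, Nat.dvd_one, pow_eq_one_iff] at h
    exact hq.ne_one (h.resolve_right two_ne_zero)
  | succ n ih =>
    intro hn h
    rw [Nat.factorial_succ] at h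
    by_cases hd : q ∣ n + 1
    · obtain ⟨c, hc⟩ := hd
      obtain rfl : c = 1 := by
        rcases c with _ | _ | c
        · omega
        · rfl
        · nlinarith
      rw [hc, mul_one, pow_two] at h
      have := hq.dvd_factorial.1 (Nat.dvd_of_mul_dvd_mul_left hq.pos h)
      omega
    · exact ih (by omega) ((Nat.Coprime.pow_left 2 ((Nat.Prime.coprime_iff_not_dvd hq).2 hd)).dvd_of_dvd_mul_left h)

/-- The finite check for `q = 2 ^ i - 1`. -/
def chkMinus (i s l : ℕ) : Bool :=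
  !(decide (5 ≤ 2 ^ i - 1) && (decide ((2 ^ i - 1) % 9 = 1) || decide ((2 ^ i - 1) % 9 = 7)) &&
    decide (2 * (2 ^ i - 1) < 3 ^ s * 2 ^ l) && decide ((3 ^ s * 2 ^ l) % (2 ^ i - 1) = 1)) ||
  (decide (i = 3) && decide (3 ^ s * 2 ^ l = 36))

/-- The finite check for `q = 2 ^ i + 1`. -/
def chkPlus (i s l : ℕ) : Bool :=
  !(decide (5 ≤ 2 ^ i + 1) && (decide ((2 ^ i + 1) % 9 = 8) || decide ((2 ^ i + 1) % 9 = 2)) &&
    decide (2 * (2 ^ i + 1) < 3 ^ s * 2 ^ l) && decide ((3 ^ s * 2 ^ l) % (2 ^ i + 1) = 1))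

theorem small_minus_all : ((List.range 6).all fun i => (List.range 3).all fun s =>
    (List.range (i + 1)).all fun l => chkMinus i s l) = true := by decide +kernel

theorem small_plus_all : ((List.range 6).all fun i => (List.range 3).all fun s =>
    (List.range (i + 3)).all fun l => chkPlus i s l) = true := by decide +kernel

theorem small_minus {i s l : ℕ} (hi : i < 6) (hs : s < 3) (hl : l < i + 1) (h5 : 5 ≤ 2 ^ i - 1)
    (h9 : (2 ^ i - 1) % 9 = 1 ∨ (2 ^ i - 1) % 9 = 7) (hb : 2 * (2 ^ i - 1) < 3 ^ s * 2 ^ l)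
    (hm : (3 ^ s * 2 ^ l) % (2 ^ i - 1) = 1) : i = 3 ∧ 3 ^ s * 2 ^ l = 36 := by
  have h := small_minus_all
  simp only [List.all_eq_true, List.mem_range] at h
  have := h i hi s hs l hl
  simp only [chkMinus, Bool.or_eq_true, Bool.not_eq_true', Bool.and_eq_false_iff, Bool.and_eq_true,
    Bool.or_eq_false_iff, decide_eq_true_eq, decide_eq_false_iff_not] at this
  tauto

theorem small_plus {i s l : ℕ} (hi : i < 6) (hs : s < 3) (hl : l < i + 3) (h5 : 5 ≤ 2 ^ i + 1)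
    (h9 : (2 ^ i + 1) % 9 = 8 ∨ (2 ^ i + 1) % 9 = 2) (hb : 2 * (2 ^ i + 1) < 3 ^ s * 2 ^ l) :
    (3 ^ s * 2 ^ l) % (2 ^ i + 1) ≠ 1 := by
  intro hm
  have h := small_plus_all
  simp only [List.all_eq_true, List.mem_range] at h
  have := h i hi s hs l hl
  simp only [chkPlus, Bool.not_eq_true', Bool.and_eq_false_iff, Bool.or_eq_false_iff,
    decide_eq_false_iff_not] at this
  tauto

theorem three_pow_le_nine {s : ℕ} (hs : s < 3) : 3 ^ s ≤ 9 ∧ 3 ^ s % 2 = 1 := by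
  interval_cases s <;> norm_num

/-- Small multiples of `2 ^ i ± 1` are not of the form `3 ^ s * 2 ^ l - 1` with `l < i`. -/
theorem low_case {i l q T n : ℕ} (hi : 6 ≤ i) (hq : q = 2 ^ i - 1 ∨ q = 2 ^ i + 1) (hl : l < i)
    (hT : T ≤ 9) (hn : n = T * 2 ^ l) (hT1 : T % 2 = 1) (hbig : 2 * q < n) (hmod : n % q = 1) : False := by
  obtain ⟨u, rfl⟩ : ∃ u, i = u + 6 := ⟨i - 6, by omega⟩
  have hP : 2 ^ (u + 6) = 64 * 2 ^ u := by ring
  have h2u := Nat.one_le_two_pow (n := u)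
  rw [hP] at hq
  have hub : n ≤ 9 * (32 * 2 ^ u) := by
    subst hn
    exact Nat.mul_le_mul hT ((Nat.pow_le_pow_right two_pos (Nat.le_of_lt_succ hl)).trans (le_of_eq (by ring)))
  obtain ⟨M, hM⟩ : ∃ M, n = q * M + 1 := ⟨n / q, by have := Nat.div_add_mod n q; omega⟩
  have hM5 : M < 5 := by
    by_contra h
    have := Nat.mul_le_mul_left q (Nat.not_lt.1 h)
    omega
  have hl0 : l ≠ 0 := by rintro rfl; simp at hn; omega
  obtain ⟨l', rfl⟩ := Nat.exists_eq_succ_of_ne_zero hl0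
  have hne : n % 2 = 0 := by rw [hn, pow_succ]; simp [Nat.mul_mod]
  interval_cases M
  · omega
  · omega
  · omega
  · rcases hq with hq | hq
    · rcases l' with _ | l''
      · simp at hn; omega
      · have : n % 4 = 0 := by rw [hn, pow_succ, pow_succ]; simp [Nat.mul_mod, Nat.mul_assoc]
        omega
    · rcases l' with _ | _ | l''
      · simp at hn; omega
      · simp at hn; omega
      · have : n % 8 = 0 := by rw [hn, pow_succ, pow_succ, pow_succ]; simp [Nat.mul_mod, Nat.mul_assoc]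
        omega
  · omega

theorem minus_case {i s l q : ℕ} (hs : s < 3) (hl : l ≤ i) (hq : q = 2 ^ i - 1) (hq5 : 5 ≤ q)
    (h9 : q % 9 = 1 ∨ q % 9 = 7) (hbig : 2 * q < 3 ^ s * 2 ^ l) (hmod : (3 ^ s * 2 ^ l) % q = 1) :
    i = 3 ∧ 3 ^ s * 2 ^ l = 36 := by
  rcases Nat.lt_or_ge i 6 with hi | hi
  · subst hq
    exact small_minus hi hs (by omega) hq5 h9 hbig hmod
  exfalso
  obtain ⟨hT, hT1⟩ := three_pow_le_nine hs
  rcases Nat.lt_or_ge l i with hli | hli
  · exact low_case hi (Or.inl hq) hli hT rfl hT1 hbig hmod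
  · obtain rfl : l = i := le_antisymm hl hli
    have h64 : 64 ≤ 2 ^ l := (Nat.pow_le_pow_right two_pos hi : 2 ^ 6 ≤ 2 ^ l)
    have e : 3 ^ s * 2 ^ l = 3 ^ s + 3 ^ s * q := by rw [hq, Nat.mul_sub, mul_one]; have := Nat.le_mul_of_pos_right (3 ^ s) (show 0 < 2 ^ l by omega); omega
    rw [e, Nat.add_mul_mod_self_right, Nat.mod_eq_of_lt (by omega)] at hmod
    rw [hmod] at hbig
    omega

theorem plus_case {i s l q : ℕ} (hs : s < 3) (hl : l ≤ i + 2) (hq : q = 2 ^ i + 1) (hq5 : 5 ≤ q)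
    (h9 : q % 9 = 8 ∨ q % 9 = 2) (hbig : 2 * q < 3 ^ s * 2 ^ l) (hmod : (3 ^ s * 2 ^ l) % q = 1) : False := by
  rcases Nat.lt_or_ge i 6 with hi | hi
  · subst hq
    exact small_plus hi hs (by omega) hq5 h9 hbig hmod
  obtain ⟨hT, hT1⟩ := three_pow_le_nine hs
  rcases Nat.lt_or_ge l i with hli | hli
  · exact low_case hi (Or.inr hq) hli hT rfl hT1 hbig hmod
  · obtain ⟨t, rfl⟩ : ∃ t, l = i + t := ⟨l - i, by omega⟩
    have h64 : 64 ≤ 2 ^ i := (Nat.pow_le_pow_right two_pos hi : 2 ^ 6 ≤ 2 ^ i)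
    set K := 3 ^ s * 2 ^ t with hK
    have hKle : K ≤ 36 := Nat.mul_le_mul hT (show 2 ^ t ≤ 4 from (Nat.pow_le_pow_right two_pos (by omega : t ≤ 2)))
    have e : 3 ^ s * 2 ^ (i + t) + K = K * q := by rw [hq, hK, pow_add]; ring
    have h2 : (3 ^ s * 2 ^ (i + t) + K) % q = 0 := by rw [e]; simp
    rw [Nat.add_mod, hmod, Nat.mod_eq_of_lt (show K < q by omega), Nat.mod_eq_of_lt (by omega)] at h2
    omega

end CfsgLib.Known.ThreeNine
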