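import Cfsg.Agent.Lib.Known.ThreeNine.Basic
import Cfsg.Agent.Lib.Known.ThreeNine.CyclicArith
import Cfsg.Agent.Lib.Perm.SelfCentDegree
import Cfsg.Agent.Lib.Core.HHCritical.TwoTops.Displacement
import Cfsg.Agent.Lib.HallGen.SimpleFifteen

/-!
# The case of a cyclic Sylow 3-subgroup
-/

set_option autoImplicit false
set_option linter.all false

namespace CfsgLib.Known.ThreeNine

open Subgroup Cfsg CfsgLib.Char CfsgLib.CharDegree

universe u

variable {G : Type u} [Group G] [Finite G] {R : Sylow 3 G} {q a b : ℕ}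

theorem Data.perfect (h : Data R q a b) [IsSimpleGroup G] : commutator G = ⊤ := by
  rcases (inferInstance : (commutator G).Normal).eq_bot_or_eq_top with hc | hc
  · exact absurd ⟨⟨fun x y => mem_center_iff.1 (((commutator_eq_bot_iff_center_eq_top G).1 hc) ▸
      mem_top y) x⟩⟩ h.nonab
  · exact hc

theorem Data.center_eq_bot (h : Data R q a b) [IsSimpleGroup G] : center G = ⊥ := by
  rcases (inferInstance : (center G).Normal).eq_bot_or_eq_top with hc | hc
  · exact hc
  · exact absurd ⟨⟨fun x y => mem_center_iff.1 (hc ▸ mem_top y) x⟩⟩ h.nonab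

theorem Data.index_normalizer_ne_top (h : Data R q a b) [IsSimpleGroup G] {p : ℕ} [Fact p.Prime]
    (P : Sylow p G) (hP : (P : Subgroup G) ≠ ⊥) (hlt : (P : Subgroup G) ≠ ⊤) :
    normalizer ((P : Subgroup G) : Set G) ≠ ⊤ := by
  intro e
  haveI : (P : Subgroup G).Normal := normalizer_eq_top_iff.1 e
  rcases (inferInstance : (P : Subgroup G).Normal).eq_bot_or_eq_top with e' | e'
  exacts [hP e', hlt e']

theorem Data.card_sylow_q (h : Data R q a b) [Fact q.Prime] (P : Sylow q G) :
    Nat.card (P : Subgroup G) = q ^ b := by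
  have hnd : ¬ q ∣ 9 * 2 ^ a := by
    intro hd
    rcases h.prime.dvd_mul.1 hd with hd | hd
    · exact h.ne_three ((Nat.prime_dvd_prime_iff_eq h.prime Nat.prime_three).1
        (h.prime.dvd_of_dvd_pow (show q ∣ 3 ^ 2 by simpa using hd)))
    · exact h.ne_two ((Nat.prime_dvd_prime_iff_eq h.prime Nat.prime_two).1 (h.prime.dvd_of_dvd_pow hd))
  rw [P.card_eq_multiplicity, h.card, Nat.factorization_mul (by positivity) (pow_ne_zero _ h.prime.ne_zero),
    Finsupp.add_apply, Nat.factorization_eq_zero_of_not_dvd hnd, h.prime.factorization_pow,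
    Finsupp.single_eq_same, zero_add]

/-- The number of Sylow `q`-subgroups is at least `2 q + 1` when `q ^ 2` divides the order. -/
theorem Data.two_mul_lt_card_sylow (h : Data R q a b) [IsSimpleGroup G] [Fact q.Prime] (hb : 2 ≤ b) :
    2 * q < Nat.card (Sylow q G) := by
  by_contra hle
  push_neg at hle
  have P : Sylow q G := default
  have hPc := h.card_sylow_q P
  have h2 := h.two_dvd
  have hne : normalizer ((P : Subgroup G) : Set G) ≠ ⊤ := by
    refine h.index_normalizer_ne_top P ?_ ?_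
    · intro e
      rw [e, card_bot] at hPc
      have := Nat.one_lt_pow (show b ≠ 0 by omega) h.prime.one_lt
      omega
    · intro e
      rw [e, card_top] at hPc
      rw [hPc] at h2
      exact h.ne_two ((Nat.prime_dvd_prime_iff_eq Nat.prime_two h.prime).1
        (Nat.prime_two.dvd_of_dvd_pow h2)).symm
  have hd := CfsgLib.Perm.two_mul_card_dvd_factorial_index h.nonab _ hne
  replace hd : 2 * Nat.card G ∣ (Nat.card (Sylow q G)).factorial := by
    rw [P.card_eq_index_normalizer]; exact hd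
  have hn : Nat.card (Sylow q G) < 2 * q := by
    refine lt_of_le_of_ne hle fun e => ?_
    have hm := card_sylow_modEq_one q G
    rw [e, Nat.ModEq] at hm
    simp [Nat.mod_eq_of_lt h.prime.one_lt] at hm
  refine not_sq_dvd_factorial h.prime _ hn (dvd_trans ?_ hd)
  rw [h.card]
  exact (dvd_mul_of_dvd_right (pow_dvd_pow q hb) _).mul_left 2

theorem Data.card_sylow_form (h : Data R q a b) [Fact q.Prime] :
    ∃ s l : ℕ, s < 3 ∧ l ≤ a ∧ Nat.card (Sylow q G) = 3 ^ s * 2 ^ l := by
  have P : Sylow q G := default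
  have hd : Nat.card (Sylow q G) ∣ 3 ^ 2 * 2 ^ a := by
    have h1 := P.card_dvd_index
    have h2 := (P : Subgroup G).card_mul_index
    rw [h.card_sylow_q P, h.card, mul_comm] at h2
    have h3 : (P : Subgroup G).index = 9 * 2 ^ a :=
      Nat.eq_of_mul_eq_mul_right (pow_pos h.prime.pos b) h2
    rw [h3] at h1
    exact h1
  obtain ⟨d1, d2, h1, h2, e⟩ := exists_dvd_and_dvd_of_dvd_mul hd
  obtain ⟨s, hs, rfl⟩ := (Nat.dvd_prime_pow Nat.prime_three).1 h1
  obtain ⟨l, hl, rfl⟩ := (Nat.dvd_prime_pow Nat.prime_two).1 h2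
  exact ⟨s, l, by omega, hl, e⟩

/-- Thirty-six Sylow 7-subgroups are impossible. -/
theorem Data.not_thirty_six (h : Data R q a b) [IsSimpleGroup G] [Fact q.Prime] (hq : q = 7) (hb : 2 ≤ b)
    (ha : a ≤ 3) (hn : Nat.card (Sylow q G) = 36) : False := by
  subst hq
  have P : Sylow 7 G := default
  obtain ⟨P', hne⟩ : ∃ P' : Sylow 7 G, P ≠ P' := by
    by_contra hcon
    push_neg at hcon
    haveI : Subsingleton (Sylow 7 G) := ⟨fun x y => (hcon x).symm.trans (hcon y)⟩
    have := Nat.card_of_subsingleton P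
    omega
  have hrel : ∀ X Y : Sylow 7 G, X ≠ Y → (Y : Subgroup G).relIndex (X : Subgroup G) = 7 := fun X Y e =>
    CfsgLib.HallGen.relIndex_eq_prime X Y e (by rw [hn]; norm_num)
  set D := (P : Subgroup G) ⊓ (P' : Subgroup G) with hDdef
  have hnorm : ∀ X Y : Sylow 7 G, X ≠ Y →
      (X : Subgroup G) ≤ normalizer (((X : Subgroup G) ⊓ (Y : Subgroup G) : Subgroup G) : Set G) := by
    intro X Y e
    have hi : ((Y : Subgroup G).subgroupOf (X : Subgroup G)).index = 7 := hrel X Y e
    haveI : ((Y : Subgroup G).subgroupOf (X : Subgroup G)).Normal := by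
      refine normal_of_index_eq_minFac_card ?_
      rw [hi, h.card_sylow_q X, Nat.pow_minFac (by omega), (show Nat.Prime 7 by norm_num).minFac_eq]
    rw [← inf_subgroupOf_left] at *
    exact (normal_subgroupOf_iff_le_normalizer inf_le_left).1 inferInstance
  have hPN : (P : Subgroup G) ≤ normalizer (D : Set G) := hnorm P P' hne
  have hP'N : (P' : Subgroup G) ≤ normalizer (D : Set G) := by
    rw [hDdef, inf_comm]
    exact hnorm P' P (Ne.symm hne)
  have hD : D ≠ ⊥ := by
    intro e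
    have h1 : (P' : Subgroup G).relIndex (P : Subgroup G) = Nat.card (P : Subgroup G) := by
      rw [← inf_relIndex_right, inf_comm, ← hDdef, e, relIndex_bot_left]
    rw [hrel P P' hne, h.card_sylow_q] at h1
    have h2 : 7 ^ 1 < 7 ^ b := Nat.pow_lt_pow_right h.prime.one_lt (by omega)
    rw [pow_one] at h2
    omega
  set L := normalizer (D : Set G) with hL
  have hLt : L ≠ ⊤ := by
    intro e
    haveI : D.Normal := normalizer_eq_top_iff.1 e
    rcases (inferInstance : D.Normal).eq_bot_or_eq_top with e' | e'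
    · exact hD e'
    · have h1 : (⊤ : Subgroup G) ≤ (P : Subgroup G) := e' ▸ inf_le_left
      have h2 := h.two_dvd
      rw [← card_top (G := G), show (⊤ : Subgroup G) = P from le_antisymm h1 le_top, h.card_sylow_q] at h2
      exact h.ne_two ((Nat.prime_dvd_prime_iff_eq Nat.prime_two h.prime).1
        (Nat.prime_two.dvd_of_dvd_pow h2)).symm
  have hn2 : 1 < Nat.card (Sylow 7 L) := by
    refine Finite.one_lt_card_iff_nontrivial.2 ⟨P.subtype hPN, P'.subtype hP'N, fun e => ?_⟩
    exact hne (Sylow.subtype_injective e)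
  have hn8 : 8 ≤ Nat.card (Sylow 7 L) := by
    have hm := card_sylow_modEq_one 7 L
    rw [Nat.ModEq] at hm
    omega
  have h1 := (P.subtype hPN).card_dvd_index
  have h2 := ((P.subtype hPN : Sylow 7 L) : Subgroup L).card_mul_index
  have hPc : Nat.card ((P.subtype hPN : Sylow 7 L) : Subgroup L) = 7 ^ b := by
    rw [Sylow.coe_subtype, Nat.card_congr (subgroupOfEquivOfLe hPN).toEquiv, h.card_sylow_q]
  rw [hPc] at h2
  have h3 := L.card_mul_index
  rw [← h2, h.card] at h3
  have h4 : ((P.subtype hPN : Sylow 7 L) : Subgroup L).index * L.index = 9 * 2 ^ a :=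
    Nat.eq_of_mul_eq_mul_left (pow_pos h.prime.pos b) (by rw [← mul_assoc, h3]; ring)
  have h5 : 8 ≤ ((P.subtype hPN : Sylow 7 L) : Subgroup L).index :=
    hn8.trans (Nat.le_of_dvd (Nat.pos_of_ne_zero index_ne_zero_of_finite) h1)
  have h6 : L.index ≤ 9 := by
    have := Nat.mul_le_mul_right L.index h5
    have : 2 ^ a ≤ 2 ^ 3 := Nat.pow_le_pow_right two_pos ha
    omega
  have hd := CfsgLib.Perm.two_mul_card_dvd_factorial_index h.nonab _ hLt
  refine not_sq_dvd_factorial h.prime L.index (by omega) (dvd_trans ?_ hd)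
  rw [h.card]
  exact (dvd_mul_of_dvd_right (pow_dvd_pow 7 hb) _).mul_left 2

theorem Data.exists_involution_normalizer (h : Data R q a b) [IsSimpleGroup G]
    (hcyc : IsCyclic (R : Subgroup G)) :
    (R : Subgroup G).relIndex (normalizer ((R : Subgroup G) : Set G)) = 2 ∧
      ∃ u ∈ normalizer ((R : Subgroup G) : Set G), u ∉ (R : Subgroup G) := by
  haveI : Fact (Nat.Prime 3) := ⟨Nat.prime_three⟩
  set N := normalizer ((R : Subgroup G) : Set G) with hN
  have hker : (normalizerMonoidHom (R : Subgroup G)).ker = (R : Subgroup G).subgroupOf N := by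
    rw [normalizerMonoidHom_ker]
    congr 1
    refine le_antisymm ?_ fun x hx => mem_centralizer_iff.2 fun y hy => h.comm y hy x hx
    intro x hx
    obtain ⟨k, hk, hk1⟩ := (R : Subgroup G).bot_or_exists_ne_one.resolve_left (fun e => by
      have := h.card_R; rw [e, card_bot] at this; omega)
    exact h.mem_of_commute hk hk1 (mem_centralizer_iff.1 hx k hk).symm
  have he6 : (R : Subgroup G).relIndex N ∣ 6 := by
    rw [relIndex, ← hker, index_ker]
    refine (card_subgroup_dvd_card _).trans (dvd_of_eq ?_)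
    rw [IsCyclic.card_mulAut, h.card_R]
    decide
  have he3 : ¬ 3 ∣ (R : Subgroup G).relIndex N := fun hd => R.not_dvd_index
    (hd.trans (relIndex_dvd_index_of_le le_normalizer))
  have he1 : (R : Subgroup G).relIndex N ≠ 1 := by
    intro e
    refine CfsgLib.Perm.not_normalizer_le_centralizer R ?_ ?_ ?_
    · rw [h.card]; exact ((show 3 ∣ 9 by norm_num).mul_right _).mul_right _
    · intro hp
      obtain ⟨n, hn⟩ := hp.exists_card_eq
      have := h.two_dvd
      rw [hn] at this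
      exact absurd ((Nat.prime_dvd_prime_iff_eq Nat.prime_two Nat.prime_three).1
        (Nat.prime_two.dvd_of_dvd_pow this)) (by norm_num)
    · refine (relIndex_eq_one.1 e).trans fun x hx => mem_centralizer_iff.2 fun y hy => h.comm y hy x hx
  have he : (R : Subgroup G).relIndex N = 2 := by
    have := Nat.le_of_dvd (by norm_num) he6
    interval_cases hh : (R : Subgroup G).relIndex N <;> omega
  refine ⟨he, ?_⟩
  by_contra hcon
  push_neg at hcon
  exact he1 (relIndex_eq_one.2 hcon)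

theorem natAbs_succ_cases (x : ℤ) :
    (0 ≤ x ∧ (x + 1).natAbs = x.natAbs + 1) ∨ (x < 0 ∧ (x + 1).natAbs + 1 = x.natAbs) := by
  rcases le_or_gt 0 x with h | h
  · exact Or.inl ⟨h, by omega⟩
  · exact Or.inr ⟨h, by omega⟩

/-- The degree data in the cyclic case: `a`, `i` and `q` satisfy a strong restriction. -/
theorem Data.cyclic_restriction (h : Data R q a b) [IsSimpleGroup G] (hcyc : IsCyclic (R : Subgroup G))
    (hnot : ¬ CIT.CIT G) :
    ∃ i : ℕ, 2 ≤ b ∧ ((q = 2 ^ i - 1 ∧ (q % 9 = 1 ∨ q % 9 = 7) ∧ a ≤ i) ∨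
      (q = 2 ^ i + 1 ∧ (q % 9 = 8 ∨ q % 9 = 2) ∧ a ≤ i + 2)) := by
  classical
  haveI := Fintype.ofFinite G
  haveI := Fact.mk h.prime
  haveI : Fact (Nat.Prime 2) := ⟨Nat.prime_two⟩
  obtain ⟨hind, u, hu, hu'⟩ := h.exists_involution_normalizer hcyc
  obtain ⟨hu2, huinv⟩ := Perm.SelfCentDegree.sq_eq_one_and_inverts (A := (R : Subgroup G)) h.cen hind hu hu'
  obtain ⟨x, v, hx1, hx1', hdx, hdx1, h9, heq, hvx, ⟨χ, hχ, hχd, hχu⟩, hall⟩ :=
    Perm.SelfCentDegree.exists_degree_of_index_two'' (A := (R : Subgroup G)) h.cen h.perfect hind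
      (by rw [h.card_R]; norm_num) hu hu'
  rw [h.card_R] at h9 heq
  have hu1 : u ≠ 1 := fun e => hu' (e ▸ one_mem _)
  have huo : orderOf u = 2 := orderOf_eq_prime (by rw [pow_two, hu2]) hu1
  have hconj : ∀ y : G, orderOf y = 2 → IsConj u y := by
    intro y hy
    rcases hall y (by rw [← pow_two, ← hy]; exact pow_orderOf_eq_one y) with hc | ⟨K, hK, hyK, hKt⟩
    · exact hc
    · exfalso
      rcases hK.eq_bot_or_eq_top with e | e
      · rw [e, mem_bot] at hyK
        rw [hyK, orderOf_one] at hy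
        omega
      · exact hKt e
  have hvlt : v.natAbs < x.natAbs := by
    refine lt_of_le_of_ne hvx fun e => ?_
    obtain ⟨n, ρ, hρ, hρc⟩ := χ.2
    have hn : (n : ℂ) = x.natAbs := by
      rw [← hχd, ← hρc, Representation.char_one, Module.finrank_fin_fun]
    obtain ⟨ω, hω⟩ := CharIntegral.exists_scalar_of_norm_character_eq ρ u (by
      rw [hρc, hχu, Module.finrank_fin_fun, e]
      exact_mod_cast (Nat.cast_inj.1 hn).symm)
    let K : Subgroup G := MonoidHom.ker ρ
    have huK : ∀ g : G, g * u * g⁻¹ * u⁻¹ ∈ K := by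
      intro g
      rw [MonoidHom.mem_ker, map_mul, map_mul, map_mul, hω]
      rw [mul_smul_comm, smul_mul_assoc, smul_mul_assoc]
      have h1 : ρ g * LinearMap.id * ρ g⁻¹ = (1 : Module.End ℂ (Fin n → ℂ)) := by
        rw [show (LinearMap.id : (Fin n → ℂ) →ₗ[ℂ] (Fin n → ℂ)) = (1 : Module.End ℂ (Fin n → ℂ)) from rfl,
          mul_one, ← map_mul, mul_inv_cancel, map_one]
      rw [h1, one_mul]
      have h2 : ρ u * ρ u⁻¹ = 1 := by rw [← map_mul, mul_inv_cancel, map_one]
      rw [hω] at h2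
      rw [← h2, smul_mul_assoc]
      rfl
    rcases (inferInstance : K.Normal).eq_bot_or_eq_top with eK | eK
    · have : u ∈ center G := mem_center_iff.2 fun g => by
        have := huK g
        rw [eK, mem_bot, mul_inv_eq_one, mul_inv_eq_iff_eq_mul] at this
        exact this
      rw [h.center_eq_bot, mem_bot] at this
      exact hu1 this
    · have hall1 : ∀ g : G, (χ : G → ℂ) g = (χ : G → ℂ) 1 := fun g => by
        rw [← hρc]
        simp only [Representation.character, MonoidHom.mem_ker.1 (eK ▸ mem_top g : g ∈ K), map_one]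
      have hsum := classInner_irr_of_ne (χ := χ) (ψ := trivChar G) hχ
      simp only [Cfsg.classInner, trivChar_apply, map_one, mul_one, hall1, Finset.sum_const,
        Finset.card_univ, nsmul_eq_mul] at hsum
      rw [hχd, mul_eq_zero, mul_eq_zero, inv_eq_zero] at hsum
      rcases hsum with e' | e' | e'
      · exact absurd e' (Nat.cast_ne_zero.2 Nat.card_pos.ne')
      · exact absurd e' (Nat.cast_ne_zero.2 Fintype.card_pos.ne')
      · rw [Nat.cast_eq_zero] at e'; omega
  set C := centralizer ({u} : Set G) with hC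
  have hC3 : ¬ 3 ∣ Nat.card C := h.not_three_dvd_centralizer hu1 (by rw [huo]; norm_num)
  have hC2 : 2 ^ a ∣ Nat.card C := by
    obtain ⟨P⟩ : Nonempty (Sylow 2 G) := inferInstance
    have hPc : Nat.card (P : Subgroup G) = 2 ^ a := by
      have hnd : ¬ 2 ∣ 9 * q ^ b := Nat.two_dvd_ne_zero.2 (Nat.odd_iff.1
        ((show Odd 9 by decide).mul (h.prime.odd_of_ne_two h.ne_two).pow))
      rw [P.card_eq_multiplicity, h.card, show 9 * 2 ^ a * q ^ b = 2 ^ a * (9 * q ^ b) by ring,
        Nat.factorization_mul (by positivity) (Nat.mul_ne_zero (by norm_num) (pow_ne_zero _ h.prime.ne_zero)),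
        Finsupp.add_apply, Nat.factorization_eq_zero_of_not_dvd hnd, Nat.prime_two.factorization_pow,
        Finsupp.single_eq_same, add_zero]
    have hPne : (P : Subgroup G) ≠ ⊥ := P.ne_bot_of_dvd_card h.two_dvd
    haveI : Nontrivial (P : Subgroup G) := (nontrivial_iff_ne_bot _).2 hPne
    haveI := P.isPGroup'.center_nontrivial
    obtain ⟨z, hz⟩ := exists_prime_orderOf_dvd_card' (G := center (P : Subgroup G)) 2 (by
      obtain ⟨k, hk, hk'⟩ := (P.isPGroup'.to_subgroup (center (P : Subgroup G))).nontrivial_iff_card.1 inferInstance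
      rw [hk']; exact dvd_pow_self 2 (by omega))
    rw [← Subgroup.orderOf_coe, ← Subgroup.orderOf_coe] at hz
    obtain ⟨g, hg⟩ := isConj_iff.1 (hconj _ hz)
    have hle : (P : Subgroup G).map (MulAut.conj g⁻¹).toMonoidHom ≤ C := by
      rintro _ ⟨p, hp, rfl⟩
      rw [hC, mem_centralizer_singleton_iff]
      have e := congrArg Subtype.val (mem_center_iff.1 z.2 ⟨p, hp⟩)
      simp only [Subgroup.coe_mul] at e
      rw [← hg] at e
      show g⁻¹ * p * g⁻¹⁻¹ * u = u * (g⁻¹ * p * g⁻¹⁻¹)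
      calc g⁻¹ * p * g⁻¹⁻¹ * u = g⁻¹ * (p * (g * u * g⁻¹)) * g := by group
        _ = g⁻¹ * (g * u * g⁻¹ * p) * g := by rw [e]
        _ = _ := by group
    have := card_dvd_of_le hle
    rwa [card_map_of_injective (MulAut.conj g⁻¹).injective, hPc] at this
  obtain ⟨c, hcC⟩ := hC2
  have hcdvd : c ∣ q ^ b := by
    have h1 : 2 ^ a * c ∣ 2 ^ a * (9 * q ^ b) := by
      rw [← hcC, show 2 ^ a * (9 * q ^ b) = Nat.card G by rw [h.card]; ring]
      exact card_subgroup_dvd_card _
    refine Nat.Coprime.dvd_of_dvd_mul_left ?_ (Nat.dvd_of_mul_dvd_mul_left (by positivity) h1)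
    have h3c : ¬ 3 ∣ c := fun hd => hC3 (hcC ▸ hd.mul_left _)
    rw [show (9 : ℕ) = 3 ^ 2 by norm_num]
    exact Nat.Coprime.pow_right _ ((Nat.prime_three.coprime_iff_not_dvd.2 h3c).symm)
  obtain ⟨δ, -, hδ⟩ := (Nat.dvd_prime_pow h.prime).1 hcdvd
  subst hδ
  rcases Nat.eq_zero_or_pos δ with rfl | hδ0
  · exfalso
    refine hnot fun t ht => ?_
    obtain ⟨g, rfl⟩ := isConj_iff.1 (hconj t ht)
    have hp : IsPGroup 2 C := IsPGroup.of_card (by rw [hcC, pow_zero, mul_one])
    refine (hp.map (MulAut.conj g).toMonoidHom).to_le fun y hy => ⟨g⁻¹ * y * g, ?_, ?_⟩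
    · refine mem_centralizer_singleton_iff.2 ?_
      have e := mem_centralizer_singleton_iff.1 hy
      calc g⁻¹ * y * g * u = g⁻¹ * (y * (g * u * g⁻¹)) * g := by group
        _ = g⁻¹ * (g * u * g⁻¹ * y) * g := by rw [e]
        _ = _ := by group
    · show g * (g⁻¹ * y * g) * g⁻¹ = y
      group
  have hinj : Nat.card C * Nat.card C ≤ Nat.card G := by
    obtain ⟨s, hs, hs1⟩ := (R : Subgroup G).bot_or_exists_ne_one.resolve_left (fun e => by
      have := h.card_R; rw [e, card_bot] at this; omega)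
    set C' := centralizer ({s * u * s⁻¹} : Set G) with hC'
    have hcard' : Nat.card C' = Nat.card C := by
      have : C' = C.map (MulAut.conj s).toMonoidHom := by
        ext y
        rw [hC', mem_centralizer_singleton_iff, Subgroup.mem_map]
        constructor
        · intro e
          refine ⟨s⁻¹ * y * s, mem_centralizer_singleton_iff.2 ?_, by show s * (s⁻¹ * y * s) * s⁻¹ = y; group⟩
          calc s⁻¹ * y * s * u = s⁻¹ * (y * (s * u * s⁻¹)) * s := by group
            _ = s⁻¹ * (s * u * s⁻¹ * y) * s := by rw [e]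
            _ = _ := by group
        · rintro ⟨w, hw, rfl⟩
          have e := mem_centralizer_singleton_iff.1 hw
          show s * w * s⁻¹ * (s * u * s⁻¹) = s * u * s⁻¹ * (s * w * s⁻¹)
          calc s * w * s⁻¹ * (s * u * s⁻¹) = s * (w * u) * s⁻¹ := by group
            _ = s * (u * w) * s⁻¹ := by rw [e]
            _ = _ := by group
      rw [this, card_map_of_injective (MulAut.conj s).injective]
    have hdisj : Disjoint C C' := by
      rw [disjoint_iff_inf_le]
      rintro y ⟨hy, hy'⟩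
      replace hy : y * u = u * y := mem_centralizer_singleton_iff.1 hy
      replace hy' : y * (s * u * s⁻¹) = s * u * s⁻¹ * y := mem_centralizer_singleton_iff.1 hy'
      have hss : (s * u * s⁻¹) * u = s * s := by
        calc (s * u * s⁻¹) * u = s * (u * s⁻¹ * u⁻¹) * (u * u) := by group
          _ = s * s := by rw [huinv _ (inv_mem hs), hu2, inv_inv, mul_one]
      have hyss : y * (s * s) = (s * s) * y := by
        rw [← hss]
        calc y * (s * u * s⁻¹ * u) = (y * (s * u * s⁻¹)) * u := by group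
          _ = (s * u * s⁻¹) * (y * u) := by rw [hy', mul_assoc]
          _ = _ := by rw [hy]; group
      have hss1 : s * s ≠ 1 := fun e => hs1 (by
        have h2 : orderOf s ∣ 2 := orderOf_dvd_of_pow_eq_one (by rw [pow_two, e])
        have h3 : orderOf s ∣ 9 := h.card_R ▸ Subgroup.orderOf_dvd_natCard _ hs
        exact orderOf_eq_one_iff.1 (Nat.eq_one_of_dvd_coprimes (by norm_num) h2 h3))
      have hyR := h.mem_of_commute (mul_mem hs hs) hss1 hyss
      rw [mem_bot]
      by_contra hy1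
      have := huinv y hyR
      rw [← hy, mul_inv_cancel_right] at this
      have h2 : orderOf y ∣ 2 := orderOf_dvd_of_pow_eq_one (by rw [pow_two]; nth_rw 2 [this]; exact mul_inv_cancel y)
      have h3 : orderOf y ∣ 9 := h.card_R ▸ Subgroup.orderOf_dvd_natCard _ hyR
      exact hy1 (orderOf_eq_one_iff.1 (Nat.eq_one_of_dvd_coprimes (by norm_num) h2 h3))
    have := Nat.card_le_card_of_injective _ (Subgroup.mul_injective_of_disjoint hdisj)
    rwa [Nat.card_prod, hcard'] at this
  rw [hcC, h.card] at hinj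
  -- the two degrees
  set X := x.natAbs with hX
  set Y := (x + 1).natAbs with hY
  have hx9 : x % 9 = 1 := by obtain ⟨w, hw⟩ := h9; omega
  have hX1 : 2 ≤ X := by omega
  have hY1 : 2 ≤ Y := by omega
  have hdiv : ∀ Z : ℕ, ¬ 3 ∣ Z → Z ∣ Nat.card G → Z ∣ 2 ^ a * q ^ b := by
    intro Z h3 hd
    rw [h.card, mul_assoc, show (9 : ℕ) = 3 ^ 2 by norm_num] at hd
    exact (Nat.Coprime.pow_right _ ((Nat.prime_three.coprime_iff_not_dvd.2 h3).symm)).dvd_of_dvd_mul_left hd
  have hXd : X ∣ 2 ^ a * q ^ b := hdiv X (by omega) hdx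
  have hYd : Y ∣ 2 ^ a * q ^ b := hdiv Y (by omega) hdx1
  have hqodd := Nat.odd_iff.1 (h.prime.odd_of_ne_two h.ne_two)
  -- split `{X, Y}` into the even part `2 ^ i` and the odd part `q`
  have hsplit : ∀ E O : ℕ, 2 ≤ O → O % 2 = 1 → E % 2 = 0 → 2 ≤ E → (E = O + 1 ∨ O = E + 1) →
      E ∣ 2 ^ a * q ^ b → O ∣ 2 ^ a * q ^ b → O = q ∧ ∃ i, i ≤ a ∧ E = 2 ^ i := by
    intro E O hO2 hO hE hE2 hadj hEd hOd
    have hOq : O ∣ q ^ b := (Nat.Coprime.pow_right a (Nat.coprime_two_right.2 (Nat.odd_iff.2 hO))).dvd_of_dvd_mul_left hOd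
    obtain ⟨j, -, rfl⟩ := (Nat.dvd_prime_pow h.prime).1 hOq
    have hj : j ≠ 0 := by rintro rfl; simp at hO2
    have hcop : Nat.Coprime E q := by
      refine ((Nat.Prime.coprime_iff_not_dvd h.prime).2 fun hd => ?_).symm
      have h1 : q ∣ q ^ j := dvd_pow_self q hj
      rcases hadj with e | e
      · exact h.prime.not_dvd_one ((Nat.dvd_add_right h1).1 (e ▸ hd))
      · exact h.prime.not_dvd_one ((Nat.dvd_add_right hd).1 (e ▸ h1))
    obtain ⟨i, hi, rfl⟩ := (Nat.dvd_prime_pow Nat.prime_two).1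
      ((Nat.Coprime.pow_right b hcop).dvd_of_dvd_mul_right hEd)
    have hj1 : j = 1 := by
      rcases hadj with e | e
      · exact CfsgLib.Core.HHTwo.eq_one_of_pow_eq_two_pow_sub_one (Nat.odd_iff.2 hqodd) h.prime.one_lt hj e.symm
      · rcases CfsgLib.Core.HHTwo.of_pow_eq_two_pow_add_one (Nat.odd_iff.2 hqodd) h.prime.one_lt hj e with r | ⟨r, -, -⟩
        · exact r
        · exact absurd r h.ne_three
    subst hj1
    exact ⟨pow_one q, i, hi, rfl⟩
  have hXY : ∃ i, i ≤ a ∧ ((X = 2 ^ i ∧ Y = q) ∨ (X = q ∧ Y = 2 ^ i)) := by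
    rcases natAbs_succ_cases x with ⟨_, e⟩ | ⟨_, e⟩ <;> rcases Nat.mod_two_eq_zero_or_one X with hp | hp
    · obtain ⟨rO, i, hi, rE⟩ := hsplit X Y hY1 (by omega) hp hX1 (by omega) hXd hYd
      exact ⟨i, hi, Or.inl ⟨rE, rO⟩⟩
    · obtain ⟨rO, i, hi, rE⟩ := hsplit Y X hX1 hp (by omega) hY1 (by omega) hYd hXd
      exact ⟨i, hi, Or.inr ⟨rO, rE⟩⟩
    · obtain ⟨rO, i, hi, rE⟩ := hsplit X Y hY1 (by omega) hp hX1 (by omega) hXd hYd
      exact ⟨i, hi, Or.inl ⟨rE, rO⟩⟩
    · obtain ⟨rO, i, hi, rE⟩ := hsplit Y X hX1 hp (by omega) hY1 (by omega) hYd hXd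
      exact ⟨i, hi, Or.inr ⟨rO, rE⟩⟩
  obtain ⟨i, hia, hXY⟩ := hXY
  -- the equation
  obtain ⟨D, hD⟩ : ∃ D, D = (x - v).natAbs := ⟨_, rfl⟩
  have heqn : 9 * (2 ^ a * q ^ δ) ^ 2 * (X * Y) = 9 * 2 ^ a * q ^ b * D ^ 2 := by
    have := congrArg Int.natAbs heq
    rw [h.card, hcC] at this
    simpa [Int.natAbs_mul, Int.natAbs_pow, hD] using this
  have hXYv : X * Y = 2 ^ i * q := by
    rcases hXY with ⟨e1, e2⟩ | ⟨e1, e2⟩
    · rw [e1, e2]
    · rw [e1, e2, mul_comm]
  rw [hXYv] at heqn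
  have heqn' : 2 ^ (a + i) * q ^ (2 * δ + 1) = q ^ b * D ^ 2 := by
    apply Nat.eq_of_mul_eq_mul_left (show 0 < 9 * 2 ^ a by positivity)
    calc 9 * 2 ^ a * (2 ^ (a + i) * q ^ (2 * δ + 1)) = 9 * (2 ^ a * q ^ δ) ^ 2 * (2 ^ i * q) := by ring
      _ = 9 * 2 ^ a * q ^ b * D ^ 2 := heqn
      _ = _ := by ring
  have hq0 := h.prime.pos
  have hq2 : ∀ k, ¬ q ∣ 2 ^ k := fun k hd => h.ne_two
    ((Nat.prime_dvd_prime_iff_eq h.prime Nat.prime_two).1 (h.prime.dvd_of_dvd_pow hd))
  have hineq : 2 ^ a * q ^ (2 * δ) ≤ 9 * q ^ b := by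
    refine Nat.le_of_mul_le_mul_left ?_ (pow_pos (show 0 < 2 by norm_num) a)
    calc 2 ^ a * (2 ^ a * q ^ (2 * δ)) = 2 ^ a * q ^ δ * (2 ^ a * q ^ δ) := by ring
      _ ≤ 9 * 2 ^ a * q ^ b := hinj
      _ = _ := by ring
  have hb2δ : b = 2 * δ + 1 := by
    rcases lt_trichotomy b (2 * δ + 1) with hlt | he | hgt
    · exfalso
      rcases Nat.lt_or_ge b (2 * δ) with hlt' | hge
      · obtain ⟨k, hk⟩ : ∃ k, 2 * δ = b + 1 + k := ⟨2 * δ - b - 1, by omega⟩
        have hapos : 1 ≤ a := by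
          by_contra h0
          obtain rfl : a = 0 := by omega
          have hodd : Odd (Nat.card G) := by
            rw [h.card, pow_zero, mul_one]
            exact (show Odd 9 by decide).mul (h.prime.odd_of_ne_two h.ne_two).pow
          exact Nat.not_even_iff_odd.2 hodd (even_iff_two_dvd.2 h.two_dvd)
        rw [hk, pow_add, pow_add, pow_one] at hineq
        have h1 : 2 * (q * q ^ k) ≤ 9 := by
          refine Nat.le_of_mul_le_mul_left ?_ (pow_pos hq0 b)
          calc q ^ b * (2 * (q * q ^ k)) ≤ q ^ b * (2 ^ a * (q * q ^ k)) := by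
                gcongr; exact Nat.le_self_pow (by omega) 2
            _ = 2 ^ a * (q ^ b * q * q ^ k) := by ring
            _ ≤ _ := by rw [mul_comm (q ^ b) 9]; exact hineq
        have := Nat.le_mul_of_pos_right q (pow_pos hq0 k)
        have := h.five_le
        omega
      · have e : b = 2 * δ := by omega
        rw [e, pow_succ, ← mul_assoc, mul_comm _ (D ^ 2), mul_comm (2 ^ (a + i)), mul_assoc, mul_comm (D ^ 2)] at heqn'
        have e2 := Nat.eq_of_mul_eq_mul_left (pow_pos hq0 _) heqn'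
        have hqD : q ∣ D := h.prime.dvd_of_dvd_pow (e2 ▸ dvd_mul_left q _)
        obtain ⟨w, rfl⟩ := hqD
        refine hq2 (a + i) ⟨w ^ 2, Nat.eq_of_mul_eq_mul_right hq0 ?_⟩
        rw [e2]; ring
    · exact he
    · exfalso
      obtain ⟨k, hk⟩ : ∃ k, b = 2 * δ + 1 + (k + 1) := ⟨b - (2 * δ + 1) - 1, by omega⟩
      have e2 : 2 ^ (a + i) = q ^ (k + 1) * D ^ 2 := by
        apply Nat.eq_of_mul_eq_mul_left (pow_pos hq0 (2 * δ + 1))
        calc q ^ (2 * δ + 1) * 2 ^ (a + i) = 2 ^ (a + i) * q ^ (2 * δ + 1) := mul_comm _ _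
          _ = q ^ b * D ^ 2 := heqn'
          _ = _ := by rw [hk]; ring
      exact hq2 (a + i) (e2 ▸ dvd_mul_of_dvd_left (dvd_pow_self q (by omega)) _)
  subst hb2δ
  have hD2 : D ^ 2 = 2 ^ (a + i) := by
    apply Nat.eq_of_mul_eq_mul_left (pow_pos hq0 (2 * δ + 1))
    rw [← heqn', mul_comm]
  obtain ⟨m, -, hm⟩ := (Nat.dvd_prime_pow Nat.prime_two).1 (Dvd.intro D (by rw [← pow_two, hD2]) : D ∣ 2 ^ (a + i))
  have hai : a + i = 2 * m := by
    rw [hm, ← pow_mul, mul_comm m 2] at hD2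
    exact (Nat.pow_right_injective le_rfl hD2).symm
  have hDlt : D < 2 * X := by omega
  refine ⟨i, by omega, ?_⟩
  have hmi : ∀ k, 2 ^ m < 2 ^ k → m < k := fun k hk => (Nat.pow_lt_pow_iff_right (by norm_num : 1 < 2)).1 hk
  rw [hm] at hDlt
  rcases hXY with ⟨e1, e2⟩ | ⟨e1, e2⟩ <;> rcases natAbs_succ_cases x with ⟨h0, e⟩ | ⟨h0, e⟩
  · have := hmi (i + 1) (by rw [pow_succ, mul_comm]; omega)
    exact Or.inr ⟨by omega, Or.inr (by omega), by omega⟩
  · have := hmi (i + 1) (by rw [pow_succ, mul_comm]; omega)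
    exact Or.inl ⟨by omega, Or.inr (by omega), by omega⟩
  · have := hmi (i + 1) (by rw [pow_succ, mul_comm]; omega)
    exact Or.inl ⟨by omega, Or.inl (by omega), by omega⟩
  · have := hmi (i + 2) (by
      have := Nat.one_le_two_pow (n := i)
      have : 2 ≤ 2 ^ i := by omega
      rw [show i + 2 = i + 1 + 1 from rfl, pow_succ, pow_succ]; omega)
    exact Or.inr ⟨by omega, Or.inl (by omega), by omega⟩

/-- In the cyclic case the group is a CIT-group. -/
theorem Data.cit_of_cyclic (h : Data R q a b) [IsSimpleGroup G] (hcyc : IsCyclic (R : Subgroup G)) :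
    CIT.CIT G := by
  by_contra hnot
  haveI := Fact.mk h.prime
  obtain ⟨i, hb, hcase⟩ := h.cyclic_restriction hcyc hnot
  obtain ⟨s, l, hs, hl, hn⟩ := h.card_sylow_form
  have hbig := h.two_mul_lt_card_sylow hb
  have hmod : (3 ^ s * 2 ^ l) % q = 1 := by
    have := card_sylow_modEq_one q G
    rw [Nat.ModEq, Nat.one_mod_eq_one.2 h.prime.ne_one, hn] at this
    exact this
  rw [hn] at hbig
  rcases hcase with ⟨hq, h9, hai⟩ | ⟨hq, h9, hai⟩
  · obtain ⟨rfl, e36⟩ := minus_case hs (hl.trans hai) hq h.five_le h9 hbig hmod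
    exact h.not_thirty_six (by omega) hb hai (hn.trans e36)
  · exact plus_case hs (hl.trans hai) hq h.five_le h9 hbig hmod

end CfsgLib.Known.ThreeNine
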