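import Cfsg.Agent.Lib.Known.ThreeNine.BigPSU
import Cfsg.Agent.Lib.TwoGroups.SemiDihedralShapes
import Cfsg.Agent.S1203
import Cfsg.Agent.S1206
import Cfsg.Agent.S3224

/-!
# Only four groups: the Sylow 2-subgroup is dihedral
-/

set_option autoImplicit false
set_option linter.all false

namespace CfsgLib.Known.ThreeNine

open Subgroup

universe u

variable {G : Type u} [Group G] [Finite G] {R : Sylow 3 G} {q a b : ℕ} {k : G} {V : Subgroup G}

/-- A Sylow 2-subgroup of `G` is not quasidihedral if a four group in it has an automiser of order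
divisible by three. -/
theorem Data.not_quasiDihedral (h : Data R q a b) [IsSimpleGroup G] (S : Sylow 2 G) (hVS : V ≤ (S : Subgroup G))
    (hV4 : Nat.card V = 4) (hVe : ∀ v ∈ V, v * v = 1) (hk : orderOf k = 3) (hkV : k ∈ normalizer (V : Set G))
    (hC : ¬ 3 ∣ Nat.card (centralizer (V : Set G))) : ¬ Cfsg.IsQuasiDihedral (S : Subgroup G) := by
  classical
  intro hS
  obtain ⟨m, -, ⟨e⟩⟩ := CfsgLib.TwoGroups.SemiDihedral.of_isQuasiDihedral hS
  obtain ⟨e8⟩ := CfsgLib.TwoGroups.SemiDihedral.eight_equiv (m := m) 0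
  set Q0 := (CfsgLib.TwoGroups.SemiDihedral.eight (m := m) (2 * 0 + 1)).map e.symm.toMonoidHom with hQ0
  set Q := Q0.map (S : Subgroup G).subtype with hQ
  let eQ : Q ≃* QuaternionGroup 2 :=
    ((Q0.equivMapOfInjective _ (S : Subgroup G).subtype_injective).symm.trans
      ((CfsgLib.TwoGroups.SemiDihedral.eight (m := m) (2 * 0 + 1)).equivMapOfInjective e.symm.toMonoidHom
        e.symm.injective).symm).trans e8
  have hQS : Q ≤ (S : Subgroup G) := map_subtype_le _
  haveI hVk : IsKleinFour V := by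
    refine ⟨hV4, ?_⟩
    haveI : Nontrivial V := (nontrivial_iff_ne_bot _).2 fun e' => by rw [e', card_bot] at hV4; omega
    refine (Nat.dvd_prime Nat.prime_two).1 (Monoid.exponent_dvd_of_forall_pow_eq_one fun x => ?_) |>.resolve_left ?_
    · exact Subtype.ext (by rw [SubmonoidClass.coe_pow, pow_two]; exact hVe x x.2)
    · rw [Monoid.exp_eq_one_iff]; exact not_subsingleton V
  obtain ⟨h1, h2⟩ := Cfsg.Agent.S1203.result S hS V hVk hVS Q hQS eQ
  have h1' : (centralizer (V : Set G)).relIndex (normalizer (V : Set G)) = 6 := by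
    refine h1.resolve_left fun e' => ?_
    have h3 : 3 ∣ Nat.card (normalizer (V : Set G)) := hk ▸ Subgroup.orderOf_dvd_natCard _ hkV
    have hc := ((centralizer (V : Set G)).subgroupOf (normalizer (V : Set G))).card_mul_index
    rw [show ((centralizer (V : Set G)).subgroupOf (normalizer (V : Set G))).index = 2 from e',
      Nat.card_congr (subgroupOfEquivOfLe (centralizer_le_normalizer _)).toEquiv] at hc
    rw [← hc] at h3
    rcases Nat.prime_three.dvd_mul.1 h3 with h' | h'
    · exact hC h'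
    · norm_num at h'
  have h2' : (Q ⊔ centralizer (Q : Set G)).relIndex (normalizer (Q : Set G)) = 2 := by
    refine h2.resolve_right fun e' => ?_
    have hdec : ∀ u w : QuaternionGroup 2, u * w * u⁻¹ * w⁻¹ = 1 ∨ u * w * u⁻¹ * w⁻¹ = QuaternionGroup.a 2 := by decide
    have hex : ∃ u w : QuaternionGroup 2, u * w * u⁻¹ * w⁻¹ = QuaternionGroup.a 2 := by decide
    set z := eQ.symm (QuaternionGroup.a 2) with hz
    have hz2 : (z : G) * z = 1 := by
      have : z * z = 1 := by
        rw [hz, ← map_mul, show (QuaternionGroup.a 2 : QuaternionGroup 2) * QuaternionGroup.a 2 = 1 by decide, map_one]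
      exact congrArg Subtype.val this
    have hz1 : (z : G) ≠ 1 := fun hz1 => by
      have : z = 1 := Subtype.ext hz1
      rw [hz, MulEquiv.map_eq_one_iff] at this
      exact absurd this (by decide)
    refine h.not_three_dvd_normalizer hz2 hz1 ?_ (fun u hu w hw => ?_)
      (dvd_trans (by norm_num) (e' ▸ relIndex_dvd_card _ _))
    · obtain ⟨u, w, e''⟩ := hex
      refine ⟨eQ.symm u, (eQ.symm u).2, eQ.symm w, (eQ.symm w).2, ?_⟩
      rw [hz, ← e'', map_mul, map_mul, map_mul, map_inv, map_inv]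
      rfl
    · rcases hdec (eQ ⟨u, hu⟩) (eQ ⟨w, hw⟩) with e'' | e'' <;>
        rw [← map_inv, ← map_inv, ← map_mul, ← map_mul, ← map_mul] at e''
      · left; rw [MulEquiv.map_eq_one_iff] at e''; exact congrArg Subtype.val e''
      · right
        have := congrArg eQ.symm e''
        rw [MulEquiv.symm_apply_apply] at this
        exact congrArg Subtype.val this
  obtain ⟨⟨K, hK, hK2, -, -⟩, -⟩ := Cfsg.Agent.S1206.result S hS V hVk hVS Q hQS eQ h1' h2'
  rcases hK.eq_bot_or_eq_top with e' | e'
  · subst e'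
    rw [index_bot] at hK2
    haveI : Fact (Nat.Prime 2) := ⟨Nat.prime_two⟩
    haveI : IsCyclic G := isCyclic_of_prime_card hK2
    exact h.nonab ⟨⟨fun x z => by letI := IsCyclic.commGroup (α := G); exact mul_comm x z⟩⟩
  · rw [e', index_top] at hK2; omega

/-- A self-centralising four group gives a dihedral Sylow 2-subgroup. -/
theorem One.exists_dihedral (h : One R q a b) [IsSimpleGroup G] (hk : orderOf k = 3) (hV : Inv k V)
    (hV4 : Nat.card V = 4) (hVe : ∀ v ∈ V, v * v = 1) (hCV : centralizer (V : Set G) = V) :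
    ∃ S : Sylow 2 G, V ≤ (S : Subgroup G) ∧ Nonempty ((S : Subgroup G) ≃* DihedralGroup (2 ^ (a - 1))) := by
  classical
  haveI : Fact (Nat.Prime 2) := ⟨Nat.prime_two⟩
  obtain ⟨S, hVS⟩ := (IsPGroup.of_card (n := 2) (by rw [hV4]; norm_num) : IsPGroup 2 V).exists_le_sylow
  refine ⟨S, hVS, ?_⟩
  have ha := h.four_le_a
  have hSc := h.card_sylow_two S
  haveI : Nontrivial (S : Subgroup G) := (nontrivial_iff_ne_bot _).2 fun e => by
    rw [e, card_bot] at hSc
    exact (Nat.one_lt_two_pow (by omega : a ≠ 0)).ne hSc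
  haveI := S.isPGroup'.center_nontrivial
  obtain ⟨z, hz⟩ := exists_prime_orderOf_dvd_card' (G := center (S : Subgroup G)) 2 (by
    obtain ⟨i, hi, hi'⟩ := (S.isPGroup'.to_subgroup (center (S : Subgroup G))).nontrivial_iff_card.1 inferInstance
    rw [hi']; exact dvd_pow_self 2 (by omega))
  rw [← Subgroup.orderOf_coe, ← Subgroup.orderOf_coe] at hz
  set zG : G := ((z : (S : Subgroup G)) : G) with hzG
  have hz1 : zG ≠ 1 := fun e => by rw [e, orderOf_one] at hz; norm_num at hz
  have hzc : ∀ s ∈ (S : Subgroup G), s * zG = zG * s := fun s hs =>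
    congrArg Subtype.val (mem_center_iff.1 z.2 ⟨s, hs⟩)
  have hzV : zG ∈ V := by
    rw [← hCV]; exact mem_centralizer_iff.2 fun v hv => hzc v (hVS hv)
  obtain ⟨x, hxV, hx⟩ : ∃ x ∈ V, x ∉ ({1, zG} : Set G) := by
    by_contra hcon
    push Not at hcon
    have h1 : Nat.card V ≤ ({1, zG} : Set G).ncard := by
      rw [← SetLike.coe_sort_coe, Nat.card_coe_set_eq]
      exact Set.ncard_le_ncard hcon (Set.toFinite _)
    rw [hV4, Set.ncard_pair (Ne.symm hz1)] at h1
    omega
  simp only [Set.mem_insert_iff, Set.mem_singleton_iff, not_or] at hx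
  have hV' : ({1, zG, x, zG * x} : Set G) = V := by
    refine Set.eq_of_subset_of_ncard_le ?_ ?_ (Set.toFinite _)
    · intro t ht
      simp only [Set.mem_insert_iff, Set.mem_singleton_iff] at ht
      rcases ht with rfl | rfl | rfl | rfl
      exacts [V.one_mem, hzV, hxV, V.mul_mem hzV hxV]
    · have hzx1 : zG * x ≠ 1 := fun e => hx.2 (by
        rw [← inv_eq_of_mul_eq_one_right e, inv_eq_of_mul_eq_one_right (hVe zG hzV)])
      rw [Set.ncard_insert_of_notMem (by simp [Ne.symm hz1, Ne.symm hx.1, Ne.symm hzx1]),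
        Set.ncard_insert_of_notMem (by simp [Ne.symm hx.2, hx.1]),
        Set.ncard_pair (by simp [hz1]), ← Nat.card_coe_set_eq]
      exact hV4.le
  have hxS : x ∈ (S : Subgroup G) := hVS hxV
  have hC4 : Nat.card (centralizer ({(⟨x, hxS⟩ : (S : Subgroup G))} : Set (S : Subgroup G))) = 4 := by
    rw [show centralizer ({(⟨x, hxS⟩ : (S : Subgroup G))} : Set (S : Subgroup G)) = V.subgroupOf (S : Subgroup G) from ?_,
      Nat.card_congr (subgroupOfEquivOfLe hVS).toEquiv, hV4]
    ext s
    rw [mem_centralizer_singleton_iff, mem_subgroupOf]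
    constructor
    · intro hs
      have e1 : (s : G) * x = x * s := congrArg Subtype.val hs
      rw [← hCV]
      refine mem_centralizer_iff.2 fun v hv => ?_
      rw [← hV'] at hv
      simp only [Set.mem_insert_iff, Set.mem_singleton_iff] at hv
      rcases hv with rfl | rfl | rfl | rfl
      · simp
      · exact (hzc s s.2).symm
      · exact e1.symm
      · rw [mul_assoc, ← e1, ← mul_assoc, ← hzc s s.2, mul_assoc]
    · intro hs
      refine Subtype.ext ?_
      have : (s : G) ∈ centralizer (V : Set G) := hCV.symm ▸ hs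
      exact (mem_centralizer_iff.1 this x hxV).symm
  rcases Cfsg.Agent.S3224.result S.isPGroup' (⟨x, hxS⟩ : (S : Subgroup G))
    (by rw [← Subgroup.orderOf_coe]; exact orderOf_eq_prime (by rw [pow_two]; exact hVe x hxV) hx.1) hC4 with
    ⟨n, ⟨e⟩⟩ | hqd | h4
  · have hn : 2 * n = 2 ^ a := by rw [← hSc, Nat.card_congr e.toEquiv, DihedralGroup.nat_card]
    obtain rfl : n = 2 ^ (a - 1) := by
      have h2 : 2 * 2 ^ (a - 1) = 2 ^ a := by rw [← pow_succ', Nat.sub_add_cancel (by omega)]
      omega
    exact ⟨e⟩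
  · exact absurd hqd (h.toData.not_quasiDihedral S hVS hV4 hVe hk hV.norm (by rw [hCV, hV4]; norm_num))
  · exfalso
    rw [hSc] at h4
    have := Nat.pow_le_pow_right (show 0 < 2 by norm_num) ha
    omega

end CfsgLib.Known.ThreeNine
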