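import Cfsg.Agent.Lib.Known.ThreeNine.Cover

/-!
# Arithmetic for the dihedral case
-/

set_option autoImplicit false
set_option linter.all false

namespace CfsgLib.Known.ThreeNine

open Subgroup

universe u

variable {G : Type u} [Group G] [Finite G] {R : Sylow 3 G} {q a b : ℕ}

/-- A group `PSL₂(F)`, `F` odd, with the order of `G` and `b ≥ 2` is `A₆`. -/
theorem Data.conclusion_of_psl (h : Data R q a b) [IsSimpleGroup G] (hb : 2 ≤ b) (ha : 4 ≤ a) {F : Type}
    [Field F] [Fintype F] (hodd : Odd (Fintype.card F))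
    (e : G ≃* Matrix.ProjectiveSpecialLinearGroup (Fin 2) F) : Conclusion G := by
  have hq5 := h.five_le
  have hcard := CfsgLib.Classical.Two.card_PSL_two (F := F)
  rw [← Nat.card_congr e.toEquiv, h.card] at hcard
  obtain ⟨p, hchar⟩ := CharP.exists F
  obtain ⟨⟨l, hl⟩, hp, hQ⟩ := FiniteField.card F p
  change Fintype.card F = p ^ l at hQ
  set Q := Fintype.card F with hQdef
  obtain ⟨M, hM⟩ := hodd
  have hgcd : Nat.gcd 2 (Q - 1) = 2 := by
    rw [hM, show 2 * M + 1 - 1 = 2 * M by omega]; exact Nat.gcd_mul_right_right M 2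
  rw [hgcd] at hcard
  have hp2 : p ≠ 2 := by
    rintro rfl
    have : 2 ∣ Q := hQ ▸ dvd_pow_self 2 (by omega)
    omega
  have hpd : p = 3 ∨ p = q := by
    have hd : p ∣ 2 * (9 * 2 ^ a * q ^ b) := by
      rw [hcard]; exact Dvd.dvd.mul_right (hQ ▸ dvd_pow_self p (by omega)) _
    rcases hp.dvd_mul.1 hd with hd | hd
    · exact absurd ((Nat.prime_dvd_prime_iff_eq hp Nat.prime_two).1 hd) hp2
    rcases hp.dvd_mul.1 hd with hd | hd
    · rcases hp.dvd_mul.1 hd with hd | hd
      · exact Or.inl ((Nat.prime_dvd_prime_iff_eq hp Nat.prime_three).1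
          (hp.dvd_of_dvd_pow (show p ∣ 3 ^ 2 by simpa using hd)))
      · exact absurd ((Nat.prime_dvd_prime_iff_eq hp Nat.prime_two).1 (hp.dvd_of_dvd_pow hd)) hp2
    · exact Or.inr ((Nat.prime_dvd_prime_iff_eq hp h.prime).1 (hp.dvd_of_dvd_pow hd))
  have hQ1 : 1 ≤ Q ^ 2 := Nat.one_le_pow _ _ (by omega)
  have hcop : Nat.Coprime Q (Q ^ 2 - 1) := by
    refine Nat.Coprime.coprime_dvd_left (dvd_pow_self Q two_ne_zero) ?_
    exact (Nat.coprime_self_sub_right hQ1).2 (Nat.coprime_one_right _)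
  rcases hpd with rfl | rfl
  · refine Or.inl ⟨e.trans (CfsgLib.Classical.nonempty_psl_nine_equiv_alt ?_).some⟩
    have hc3 : Nat.Coprime (3 ^ l) (2 * 2 ^ a * q ^ b) := by
      refine Nat.Coprime.pow_left _ ?_
      rw [← pow_succ', mul_comm]
      refine Nat.Coprime.mul_right (Nat.Coprime.pow_right _ ?_) (Nat.Coprime.pow_right _ (by norm_num))
      exact (Nat.coprime_primes Nat.prime_three h.prime).2 (Ne.symm h.ne_three)
    have h1 : 3 ^ l ∣ 3 ^ 2 := by
      refine hc3.dvd_of_dvd_mul_right ?_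
      rw [show 3 ^ 2 * (2 * 2 ^ a * q ^ b) = 2 * (9 * 2 ^ a * q ^ b) by ring, hcard, ← hQ]
      exact dvd_mul_right _ _
    have h2 : 3 ^ 2 ∣ Q := by
      refine Nat.Coprime.dvd_of_dvd_mul_right (Nat.Coprime.pow_left 2 ?_) (by rw [← hcard]; exact ⟨2 * 2 ^ a * q ^ b, by ring⟩)
      exact Nat.Coprime.coprime_dvd_left (hQ ▸ dvd_pow_self 3 (by omega)) hcop
    show Fintype.card F = 9
    rw [← hQdef] at *
    rw [hQ] at h2 ⊢
    exact (Nat.dvd_antisymm h1 h2).trans (by norm_num)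
  · exfalso
    have hlb : l = b := by
      refine Nat.pow_right_injective hp.two_le ?_
      have hcq : Nat.Coprime p (2 * 2 ^ a * 9) := by
        refine Nat.Coprime.mul_right (Nat.Coprime.mul_right ?_ (Nat.Coprime.pow_right _ ?_)) ?_
        · exact (Nat.coprime_primes hp Nat.prime_two).2 hp2
        · exact (Nat.coprime_primes hp Nat.prime_two).2 hp2
        · rw [show (9 : ℕ) = 3 ^ 2 by norm_num]
          exact Nat.Coprime.pow_right _ ((Nat.coprime_primes hp Nat.prime_three).2 h.ne_three)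
      refine Nat.dvd_antisymm ?_ ?_
      · refine (hcq.pow_left l).dvd_of_dvd_mul_left ?_
        rw [show 2 * 2 ^ a * 9 * p ^ b = 2 * (9 * 2 ^ a * p ^ b) by ring, hcard, ← hQ]
        exact dvd_mul_right _ _
      · show p ^ b ∣ p ^ l
        rw [← hQ]
        refine Nat.Coprime.dvd_of_dvd_mul_right (Nat.Coprime.pow_left b ?_) (by rw [← hcard]; exact ⟨2 * 2 ^ a * 9, by ring⟩)
        exact Nat.Coprime.coprime_dvd_left (hQ ▸ dvd_pow_self p (by omega)) hcop
    subst hlb
    have hQ25 : 25 ≤ Q := by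
      rw [hQ]; exact le_trans (by norm_num) ((Nat.pow_le_pow_left hq5 2).trans (Nat.pow_le_pow_right hp.pos hb))
    have e1 : 2 * (9 * 2 ^ a) = Q ^ 2 - 1 :=
      Nat.eq_of_mul_eq_mul_left (by omega : 0 < Q) (by rw [← hcard, hQ]; ring)
    obtain ⟨c, hc⟩ : ∃ c, a = c + 1 := ⟨a - 1, by omega⟩
    subst hc
    have e2 : 9 * 2 ^ c = M * (M + 1) := by
      have h3 : Q ^ 2 - 1 = 4 * (M * (M + 1)) := by
        rw [hM, Nat.sub_eq_iff_eq_add (Nat.one_le_pow _ _ (by omega))]
        ring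
      rw [h3, pow_succ] at e1
      omega
    have hM12 : 12 ≤ M := by omega
    have hcopM : Nat.Coprime M (M + 1) := Nat.coprime_self_add_right.2 (Nat.coprime_one_right _)
    have hpow : ∀ x y, x * y = 2 ^ c → ∃ i j, x = 2 ^ i ∧ y = 2 ^ j := fun x y hxy => by
      obtain ⟨i, -, hi⟩ := (Nat.dvd_prime_pow Nat.prime_two).1 (Dvd.intro _ hxy)
      obtain ⟨j, -, hj⟩ := (Nat.dvd_prime_pow Nat.prime_two).1 (Dvd.intro_left _ hxy)
      exact ⟨i, j, hi, hj⟩
    have hpar : ∀ i, 1 ≤ i → 2 ^ i % 2 = 0 := fun i hi => by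
      obtain ⟨w, rfl⟩ : ∃ w, i = w + 1 := ⟨i - 1, by omega⟩
      simp [pow_succ]
    rcases (hcopM.isPrimePow_dvd_mul ⟨3, 2, Nat.prime_three.prime, two_pos, by norm_num⟩).1
      (Dvd.intro _ e2 : 9 ∣ M * (M + 1)) with ⟨w, hw⟩ | ⟨w, hw⟩
    · obtain ⟨i, j, hi, hj⟩ := hpow w (M + 1) (Nat.eq_of_mul_eq_mul_left (by norm_num : 0 < 9)
        (by rw [← mul_assoc, ← hw, e2]))
      rcases Nat.eq_zero_or_pos i with rfl | hi0
      · rw [pow_zero] at hi; omega
      · have := hpar i hi0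
        rcases Nat.eq_zero_or_pos j with rfl | hj0
        · rw [pow_zero] at hj; omega
        · have := hpar j hj0
          omega
    · obtain ⟨i, j, hi, hj⟩ := hpow M w (Nat.eq_of_mul_eq_mul_left (by norm_num : 0 < 9)
        (by rw [e2, hw]; ring))
      rcases Nat.eq_zero_or_pos j with rfl | hj0
      · rw [pow_zero] at hj; omega
      · have := hpar j hj0
        rcases Nat.eq_zero_or_pos i with rfl | hi0
        · rw [pow_zero] at hi; omega
        · have := hpar i hi0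
          omega

/-- The counting contradiction in the dihedral case. -/
theorem One.four_arith (h : One R q a b) [IsSimpleGroup G] (hb : 2 ≤ b) {δ f T : ℕ} (hδ : 1 ≤ δ) (hf : 1 ≤ f)
    (hfb : δ + f ≤ b) (hsemi : 2 ^ (a - 1) ∣ q ^ f - 1)
    (hprod : 2 ^ a * q ^ δ * (2 ^ a * q ^ δ) ≤ 9 * 2 ^ a * q ^ b * 4)
    (hcount : 9 * 2 ^ a * q ^ b ≤ 9 * (2 ^ a * q ^ δ) * 18 + 72 * T)
    (hT : (T ≤ 31 + 6 * q ^ b ∧ 6 ≤ a) ∨
      (T ≤ 31 ∧ ∀ P : Sylow q G, ¬ 3 ∣ Nat.card (normalizer ((P : Subgroup G) : Set G)))) : False := by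
  haveI := Fact.mk h.prime
  have hq5 := h.toData.five_le
  have ha := h.four_le_a
  have hxy : q ^ f * q ^ δ ≤ q ^ b := by
    rw [← pow_add]; exact Nat.pow_le_pow_right h.prime.pos (by omega)
  have hx5 : 5 ≤ q ^ δ := hq5.trans (Nat.le_self_pow (by omega) q)
  have hf1 : 1 ≤ q ^ f := Nat.one_le_pow _ _ h.prime.pos
  have hf5 : 5 ≤ q ^ f := hq5.trans (Nat.le_self_pow (by omega) q)
  have hle := Nat.le_of_dvd (show 0 < q ^ f - 1 by omega) hsemi
  rcases hT with ⟨hT, ha6⟩ | ⟨hT, hno⟩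
  · have h64 : 64 ≤ 2 ^ a := le_trans (by norm_num) (Nat.pow_le_pow_right (show 0 < 2 by norm_num) ha6)
    have h1 : 2 ^ a * q ^ b ≤ 2 ^ a * (18 * q ^ δ) + 248 + 48 * q ^ b := by
      refine Nat.le_of_mul_le_mul_left ?_ (show 0 < 9 by norm_num)
      nlinarith
    have h2 : q ^ b ≤ 72 * q ^ δ + 15 := by
      by_contra hlt
      have := Nat.mul_le_mul_left (2 ^ a) (show 72 * q ^ δ + 16 ≤ q ^ b by omega)
      have := Nat.mul_le_mul_right (q ^ b) h64
      nlinarith
    have h3 : q ^ f ≤ 75 := by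
      by_contra hlt
      have := Nat.mul_le_mul_right (q ^ δ) (show 76 ≤ q ^ f by omega)
      omega
    have h32 : 2 ^ 5 ∣ q ^ f - 1 := (pow_dvd_pow 2 (by omega)).trans hsemi
    norm_num at h32
    obtain ⟨w, hw⟩ := h32
    have hne : ∀ (n p r : ℕ), p.Prime → r.Prime → q ^ f = n → n = p * r → p ≠ r → False := by
      intro n p r hp hr e en hne
      have e1 : p = q := (Nat.prime_dvd_prime_iff_eq hp h.prime).1
        (hp.dvd_of_dvd_pow (e ▸ en ▸ dvd_mul_right p r : p ∣ q ^ f))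
      have e2 : r = q := (Nat.prime_dvd_prime_iff_eq hr h.prime).1
        (hr.dvd_of_dvd_pow (e ▸ en ▸ dvd_mul_left r p : r ∣ q ^ f))
      exact hne (e1.trans e2.symm)
    rcases (show w = 1 ∨ w = 2 by omega) with rfl | rfl
    · exact hne 33 3 11 Nat.prime_three (by norm_num) (by omega) (by norm_num) (by norm_num)
    · exact hne 65 5 13 Nat.prime_five (by norm_num) (by omega) (by norm_num) (by norm_num)
  · have h16 : 16 ≤ 2 ^ a := le_trans (by norm_num) (Nat.pow_le_pow_right (show 0 < 2 by norm_num) ha)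
    have h2 : q ^ b ≤ 18 * q ^ δ + 15 := by
      by_contra hlt
      have := Nat.mul_le_mul_left (2 ^ a) (show 18 * q ^ δ + 16 ≤ q ^ b by omega)
      nlinarith
    have hbd : b = δ + 1 := by
      by_contra hne
      have h1 : q ^ 2 * q ^ δ ≤ q ^ b := by
        rw [← pow_add]; exact Nat.pow_le_pow_right h.prime.pos (by omega)
      have := Nat.mul_le_mul_right (q ^ δ) (Nat.pow_le_pow_left hq5 2)
      omega
    obtain rfl : f = 1 := by omega
    rw [pow_one] at hsemi hle
    have h8 : 2 ^ 3 ∣ q - 1 := (pow_dvd_pow 2 (by omega)).trans hsemi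
    norm_num at h8
    have hq23 : q ≤ 21 := by
      by_contra hlt
      rw [hbd, pow_succ'] at h2
      have := Nat.mul_le_mul_right (q ^ δ) (show 22 ≤ q by omega)
      omega
    obtain rfl : q = 17 := by
      have := h.prime
      interval_cases q <;> first | rfl | (norm_num at this; done) | (norm_num at h8)
    have ha5 : a ≤ 5 := by
      by_contra hlt
      have := Nat.pow_le_pow_right (show 0 < 2 by norm_num) (show 5 ≤ a - 1 by omega)
      omega
    have hδ1 : δ = 1 := by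
      by_contra hne
      obtain ⟨d, rfl⟩ : ∃ d, δ = d + 2 := ⟨δ - 2, by omega⟩
      subst hbd
      have hpos : 0 < 17 ^ d := by positivity
      rw [pow_succ 17 (d + 2), pow_add] at hprod
      interval_cases a <;> nlinarith
    subst hδ1
    subst hbd
    obtain ⟨P⟩ := Sylow.nonempty (p := 17) (G := G)
    have hN := hno P
    have hbig := h.toData.two_mul_lt_card_sylow hb
    have hm := card_sylow_modEq_one 17 G
    have hidx : Nat.card (Sylow 17 G) ∣ 9 * 2 ^ a := by
      have h1 := P.card_dvd_index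
      have h2 := (P : Subgroup G).card_mul_index
      rw [h.toData.card_sylow_q, h.card] at h2
      have h3 : (P : Subgroup G).index = 9 * 2 ^ a := Nat.eq_of_mul_eq_mul_left (by positivity : 0 < 17 ^ (1 + 1)) (by rw [h2]; ring)
      exact h3 ▸ h1
    have h9 : 9 ∣ Nat.card (Sylow 17 G) := by
      have h1 := (normalizer ((P : Subgroup G) : Set G)).card_mul_index
      rw [show (normalizer ((P : Subgroup G) : Set G)).index = Nat.card (Sylow 17 G) by
        rw [P.card_eq_index_normalizer]; rfl, h.card] at h1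
      refine Nat.Coprime.dvd_of_dvd_mul_left ?_ (by rw [h1]; exact ⟨2 ^ a * 17 ^ (1 + 1), by ring⟩)
      exact Nat.Coprime.pow_left 2 ((Nat.prime_three.coprime_iff_not_dvd).2 hN)
    obtain ⟨w, hw⟩ := h9
    rw [hw] at hidx hm hbig
    obtain ⟨i, hi, rfl⟩ := (Nat.dvd_prime_pow Nat.prime_two).1 (Nat.dvd_of_mul_dvd_mul_left (by norm_num) hidx)
    rw [Nat.ModEq] at hm
    interval_cases a <;> interval_cases i <;> norm_num at hm <;> omega

end CfsgLib.Known.ThreeNine
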