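import Cfsg.Agent.Lib.Known.ThreeNine.Dihedral
import Cfsg.Agent.Lib.TwoGroups.DihedralFusion

/-!
# Semiregularity and the odd part of a centraliser of a subgroup of the core
-/

set_option autoImplicit false
set_option linter.all false

namespace CfsgLib.Known.ThreeNine

open Subgroup

universe u

theorem card_dvd_of_free {Γ : Type u} [Group Γ] [Finite Γ] {X : Type u} [Finite X] [MulAction Γ X]
    (hfree : ∀ (g : Γ) (x : X), g • x = x → g = 1) : Nat.card Γ ∣ Nat.card X := by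
  classical
  haveI := Fintype.ofFinite (MulAction.orbitRel.Quotient Γ X)
  rw [Nat.card_congr (MulAction.selfEquivSigmaOrbitsQuotientStabilizer Γ X), Nat.card_sigma]
  refine Finset.dvd_sum fun ω _ => ?_
  have h1 : MulAction.stabilizer Γ ω.out = ⊥ := (eq_bot_iff_forall _).2 fun g hg => hfree g _ hg
  rw [← Subgroup.index, h1, index_bot]

variable {G : Type u} [Group G] [Finite G]

theorem mem_of_odd_order {H : Type u} [Group H] [Finite H] {N : Subgroup H} [N.Normal] {i : ℕ}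
    (hi : N.index = 2 ^ i) {x : H} (hx : Odd (orderOf x)) : x ∈ N := by
  rw [← QuotientGroup.eq_one_iff]
  refine orderOf_eq_one_iff.1 (Nat.eq_one_of_dvd_coprimes (Nat.Coprime.pow_left i (Nat.coprime_two_left.2 hx))
    (hi ▸ orderOf_dvd_natCard (x : H ⧸ N)) (orderOf_map_dvd (QuotientGroup.mk' N) x))

/-- A cyclic 2-group centralising `O` and semiregular on the cosets of `O` in `K`. -/
theorem card_dvd_sub_one {T K O : Subgroup G} {t : G} (hTn : ∀ τ ∈ T, ∀ x ∈ K, τ * x * τ⁻¹ ∈ K)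
    (hOK : O ≤ K) (hTO : ∀ τ ∈ T, ∀ o ∈ O, τ * o = o * τ) (hodd : Odd (Nat.card O))
    (ht2 : t * t = 1) (hun : ∀ τ ∈ T, τ ≠ 1 → ∃ j : ℕ, τ ^ j = t)
    (hfix : ∀ x ∈ K, t * x = x * t → x ∈ O) {m : ℕ} (hm : Nat.card K = Nat.card O * m) :
    Nat.card T ∣ m - 1 := by
  classical
  let X : Type u := {x : G // x ∈ K ∧ x ∉ O}
  haveI : Finite X := Subtype.finite
  let _ : MulAction (T × O) X :=
    { smul := fun p x => ⟨(p.1 : G) * x.1 * (p.1 : G)⁻¹ * (p.2 : G)⁻¹,
        K.mul_mem (hTn _ p.1.2 _ x.2.1) (K.inv_mem (hOK p.2.2)), fun h => x.2.2 (by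
          have h1 := O.mul_mem h p.2.2
          rw [inv_mul_cancel_right] at h1
          have h2 := hTO _ p.1.2 _ h1
          have h3 := mul_left_cancel (a := (p.1 : G)) (h2.trans (inv_mul_cancel_right _ _))
          rwa [h3] at h1)⟩
      one_smul := fun x => Subtype.ext (by
        show (1 : G) * x.1 * 1⁻¹ * 1⁻¹ = x.1
        group)
      mul_smul := fun p p' x => Subtype.ext (by
        show ((p.1 : G) * p'.1) * x.1 * ((p.1 : G) * p'.1)⁻¹ * ((p.2 : G) * p'.2)⁻¹ =
          (p.1 : G) * ((p'.1 : G) * x.1 * (p'.1 : G)⁻¹ * (p'.2 : G)⁻¹) * (p.1 : G)⁻¹ * (p.2 : G)⁻¹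
        have e := hTO _ (T.inv_mem p.1.2) _ (O.inv_mem p'.2.2)
        calc (p.1 : G) * p'.1 * x.1 * ((p.1 : G) * p'.1)⁻¹ * ((p.2 : G) * p'.2)⁻¹
            = (p.1 : G) * ((p'.1 : G) * x.1 * (p'.1 : G)⁻¹) * ((p.1 : G)⁻¹ * (p'.2 : G)⁻¹) * (p.2 : G)⁻¹ := by group
          _ = _ := by rw [e]; group) }
  have hfree : ∀ (g : T × O) (x : X), g • x = x → g = 1 := by
    rintro ⟨τ, o⟩ x hx
    have e : (τ : G) * x.1 * (τ : G)⁻¹ * (o : G)⁻¹ = x.1 := congrArg Subtype.val hx
    rw [mul_inv_eq_iff_eq_mul] at e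
    have hτ : τ = 1 := by
      by_contra hne
      obtain ⟨j, hj⟩ := hun τ τ.2 fun h => hne (Subtype.ext h)
      have hit : ∀ i : ℕ, (τ : G) ^ i * x.1 * ((τ : G) ^ i)⁻¹ = x.1 * (o : G) ^ i := by
        intro i
        induction i with
        | zero => simp
        | succ i ih =>
          rw [pow_succ', pow_succ']
          calc (τ : G) * (τ : G) ^ i * x.1 * ((τ : G) * (τ : G) ^ i)⁻¹
              = (τ : G) * ((τ : G) ^ i * x.1 * ((τ : G) ^ i)⁻¹) * (τ : G)⁻¹ := by group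
            _ = ((τ : G) * x.1 * (τ : G)⁻¹) * ((τ : G) * (o : G) ^ i * (τ : G)⁻¹) := by rw [ih]; group
            _ = x.1 * ((o : G) * (o : G) ^ i) := by
                rw [e, hTO _ τ.2 _ (O.pow_mem o.2 i), mul_inv_cancel_right, mul_assoc]
      have h1 := hit j
      have h2 := hit (j + j)
      rw [pow_add, hj, ht2] at h2
      simp only [one_mul, inv_one, mul_one] at h2
      have h3 : (o : G) ^ j * (o : G) ^ j = 1 := by rw [← pow_add]; exact mul_eq_left.1 h2.symm
      have h4 : (o : G) ^ j = 1 := eq_one_of_sq hodd (O.pow_mem o.2 j) h3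
      rw [hj, h4, mul_one, mul_inv_eq_iff_eq_mul] at h1
      exact x.2.2 (hfix _ x.2.1 h1)
    subst hτ
    simp only [OneMemClass.coe_one, one_mul, inv_one, mul_one] at e
    exact Prod.ext rfl (Subtype.ext (mul_eq_left.1 e.symm))
  have hd := card_dvd_of_free hfree
  have hX : Nat.card X = Nat.card O * (m - 1) := by
    rw [Nat.mul_sub_one, ← hm]
    show Nat.card ((K : Set G) \ (O : Set G) : Set G) = _
    rw [Nat.card_coe_set_eq, Set.ncard_diff hOK (Set.toFinite _), ← Nat.card_coe_set_eq, ← Nat.card_coe_set_eq]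
    rfl
  rw [hX, Nat.card_prod, mul_comm (Nat.card T)] at hd
  exact Nat.dvd_of_mul_dvd_mul_left Nat.card_pos hd

/-- The odd part of a subgroup with a cyclic Sylow 2-subgroup. -/
theorem exists_odd_part {C : Subgroup G} {T : Subgroup G} (hTC : T ≤ C) [IsCyclic T] (hT2 : IsPGroup 2 T)
    (hTne : T ≠ ⊥) (hTmax : ∀ P : Subgroup G, IsPGroup 2 P → P ≤ C → Nat.card P ≤ Nat.card T) :
    ∃ K : Subgroup G, K ≤ C ∧ Odd (Nat.card K) ∧ Nat.card C = Nat.card K * Nat.card T ∧
      ∀ x, x ∈ K ↔ x ∈ C ∧ Odd (orderOf x) := by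
  haveI : Fact (Nat.Prime 2) := ⟨Nat.prime_two⟩
  have hTc : Nat.card (T.subgroupOf C) = Nat.card T := Nat.card_congr (subgroupOfEquivOfLe hTC).toEquiv
  obtain ⟨P, hP⟩ := (hT2.of_equiv (subgroupOfEquivOfLe hTC).symm).exists_le_sylow
  have hPT : (P : Subgroup C) = T.subgroupOf C := (eq_of_le_of_card_ge hP (by
    have := hTmax _ (P.isPGroup'.map C.subtype) (map_subtype_le _)
    rwa [card_map_of_injective C.subtype_injective, ← hTc] at this)).symm
  haveI : IsCyclic (P : Subgroup C) :=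
    isCyclic_of_surjective ((subgroupOfEquivOfLe hTC).symm.trans (MulEquiv.subgroupCongr hPT.symm))
      (MulEquiv.surjective _)
  obtain ⟨i, hi⟩ := hT2.exists_card_eq
  have hi0 : i ≠ 0 := fun e => hTne (eq_bot_of_card_eq T (by rw [hi, e, pow_zero]))
  have hmin : (Nat.card C).minFac = 2 :=
    (Nat.minFac_eq_two_iff _).2 (((hi ▸ dvd_pow_self 2 hi0 : 2 ∣ Nat.card T)).trans (card_dvd_of_le hTC))
  have hc := IsCyclic.isComplement' hmin (P := P) inferInstance
  set N := (MonoidHom.transferSylow P (IsCyclic.normalizer_le_centralizer hmin inferInstance)).ker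
  have hidx : N.index = 2 ^ i := by
    rw [hc.symm.index_eq_card, hPT, hTc, hi]
  have hNodd : Odd (Nat.card N) := by
    rw [← Nat.not_even_iff_odd, even_iff_two_dvd]
    intro h2
    refine absurd ?_ P.not_dvd_index
    rw [hc.index_eq_card]
    exact h2
  refine ⟨N.map C.subtype, map_subtype_le _, by rwa [card_map_of_injective C.subtype_injective], ?_, fun x => ⟨?_, ?_⟩⟩
  · rw [card_map_of_injective C.subtype_injective, ← N.card_mul_index, hidx, hi]
  · rintro ⟨y, hy, rfl⟩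
    refine ⟨y.2, ?_⟩
    show Odd (orderOf (y : G))
    rw [Subgroup.orderOf_coe]
    exact Odd.of_dvd_nat hNodd (Subgroup.orderOf_dvd_natCard N hy)
  · rintro ⟨hx, hodd⟩
    exact ⟨⟨x, hx⟩, mem_of_odd_order hidx (by rw [← Subgroup.orderOf_coe]; exact hodd), rfl⟩

end CfsgLib.Known.ThreeNine
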