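import Cfsg.Agent.Lib.Known.ThreeNine.FourArith
import Cfsg.Agent.Lib.Known.ThreeNine.FourCore
import Cfsg.Agent.S0508
import Cfsg.Agent.S0514

/-!
# Only four groups are normalised by elements of order three: the dihedral case
-/

set_option autoImplicit false
set_option linter.all false

namespace CfsgLib.Known.ThreeNine

open Subgroup DihedralGroup
open CfsgLib.TwoGroups CfsgLib.TwoGroups.Dihedral

universe u

variable {G : Type u} [Group G] [Finite G] {R : Sylow 3 G} {q a b : ℕ}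

theorem isKleinFour_of_card {V : Subgroup G} (hV4 : Nat.card V = 4) (hVe : ∀ v ∈ V, v * v = 1) :
    IsKleinFour V := by
  refine ⟨hV4, Nat.dvd_antisymm (Monoid.exponent_dvd_of_forall_pow_eq_one ?_) ?_⟩
  · exact fun x => Subtype.ext (by rw [SubmonoidClass.coe_pow, pow_two, hVe x x.2]; rfl)
  · haveI : Fact (Nat.Prime 2) := ⟨Nat.prime_two⟩
    obtain ⟨x, hx⟩ := exists_prime_orderOf_dvd_card' (G := V) 2 (by rw [hV4]; norm_num)
    exact hx.symm.dvd.trans (Monoid.order_dvd_exponent x)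

theorem exists_three_mem {L : Subgroup G} (h3 : 3 ∣ Nat.card L) : ∃ k ∈ L, orderOf k = 3 := by
  haveI : Fact (Nat.Prime 3) := ⟨Nat.prime_three⟩
  obtain ⟨x, hx⟩ := exists_prime_orderOf_dvd_card' (G := L) 3 h3
  exact ⟨x, x.2, by rwa [Subgroup.orderOf_coe]⟩

theorem One.centralizer_four (h : One R q a b) [IsSimpleGroup G]
    (hsmall : ∀ k : G, orderOf k = 3 → ∀ U : Subgroup G, Inv k U → IsPGroup 2 U → Nat.card U ≤ 4)
    {k : G} (hk : orderOf k = 3) {V : Subgroup G} (hn : k ∈ normalizer (V : Set G)) (hV4 : Nat.card V = 4)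
    (hVe : ∀ v ∈ V, v * v = 1) : centralizer (V : Set G) = V := by
  have hV : Inv k V := ⟨hn, by rw [hV4]; norm_num⟩
  have hV1 : V ≠ ⊥ := fun e => by rw [e, card_bot] at hV4; norm_num at hV4
  obtain ⟨hC, hC2⟩ := h.centralizer_inv hk hV (IsPGroup.of_card (n := 2) (by rw [hV4]; norm_num)) hV1
  refine (eq_of_le_of_card_ge (fun x hx => mem_centralizer_iff.2 fun y hy => ?_) ?_).symm
  · have h1 := hVe _ (V.mul_mem hy hx)
    calc y * x = (y * x)⁻¹ := (inv_eq_of_mul_eq_one_right h1).symm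
      _ = x * y := by rw [mul_inv_rev, inv_eq_of_mul_eq_one_right (hVe x hx), inv_eq_of_mul_eq_one_right (hVe y hy)]
  · rw [hV4]; exact hsmall k hk _ hC hC2

theorem Data.card_eq_pow_q (h : Data R q a b) {K : Subgroup G} (hodd : Odd (Nat.card K))
    (h3 : ¬ 3 ∣ Nat.card K) : ∃ e ≤ b, Nat.card K = q ^ e := by
  have h1 := card_subgroup_dvd_card K
  rw [h.card, show (9 : ℕ) = 3 ^ 2 by norm_num] at h1
  have hc : Nat.Coprime (Nat.card K) (3 ^ 2 * 2 ^ a) :=
    Nat.Coprime.mul_right (((Nat.prime_three.coprime_iff_not_dvd).2 h3).symm.pow_right 2)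
      ((Nat.coprime_two_right.2 hodd).pow_right a)
  exact (Nat.dvd_prime_pow h.prime).1 (hc.dvd_of_dvd_mul_left h1)

/-- A local subgroup of a `q`-subgroup containing a cyclic group of order `≥ 4` has order prime to three. -/
theorem One.not_three_dvd_local (h : One R q a b) [IsSimpleGroup G] {Y T : Subgroup G} (hY1 : Y ≠ ⊥)
    (hYodd : Odd (Nat.card Y)) (hY3 : ¬ 3 ∣ Nat.card Y) (hT : T ≤ normalizer (Y : Set G))
    (h4 : 4 ∣ Nat.card T) : ¬ 3 ∣ Nat.card (normalizer (Y : Set G)) := by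
  intro h3
  obtain ⟨k, hkL, hk⟩ := exists_three_mem h3
  obtain ⟨N, hN, hYN, -, -, hcase⟩ := h.structure_three hk hkL hY1 ⟨hkL, hY3⟩ le_normalizer le_rfl
  have hN2 : ¬ IsPGroup 2 N := fun h2 => by
    haveI : Fact (Nat.Prime 2) := ⟨Nat.prime_two⟩
    obtain ⟨i, hi⟩ := (h2.to_le hYN).exists_card_eq
    rcases Nat.eq_zero_or_pos i with rfl | hi0
    · exact hY1 (eq_bot_of_card_eq Y (by rw [hi, pow_zero]))
    · rw [hi] at hYodd
      exact (Nat.not_even_iff_odd.2 hYodd) (Nat.even_pow.2 ⟨even_two, by omega⟩)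
  haveI := Fact.mk h.prime
  obtain ⟨i, hi⟩ := ((h.isPGroup_inv hk hN).resolve_left hN2).exists_card_eq
  have hodd : Odd (Nat.card N) := by rw [hi]; exact (h.prime.odd_of_ne_two h.ne_two).pow
  have hd := h4.trans (card_dvd_of_le hT)
  obtain ⟨M, hM⟩ := hodd
  rcases hcase with e | e | ⟨hel, -, -⟩
  · rw [e] at hd; omega
  · rw [e] at hd; omega
  · exact hN2 fun x => ⟨1, Subtype.ext (by simpa using hel.2 x x.2)⟩

/-- The centraliser of the central involution of a dihedral Sylow 2-subgroup. -/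
theorem One.dihedral_core (h : One R q a b) [IsSimpleGroup G] {S : Sylow 2 G} {n : ℕ}
    {f : DihedralGroup (2 ^ n) →* G} (hn : 2 ≤ n) (hna : n + 1 = a) (hf : Function.Injective f)
    (hS : f.range = (S : Subgroup G))
    (hY : ∀ i, centralizer (((lev 1 i).map f : Subgroup G) : Set G) = (lev 1 i).map f) :
    ∃ (O : Subgroup G) (δ : ℕ), δ ≤ b ∧ Nat.card O = q ^ δ ∧
      Nat.card (centralizer ({f (r (half n))} : Set G)) = 2 ^ a * q ^ δ ∧
      O = (Cfsg.oddCore (centralizer ({f (r (half n))} : Set G))).map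
        (centralizer ({f (r (half n))} : Set G)).subtype ∧
      (∀ x, x ∈ O ↔ x ∈ centralizer ({f (r (half n))} : Set G) ∧ Odd (orderOf x)) ∧
      (∀ i, ∀ y ∈ O, f (sr i) * y = y * f (sr i) → y = 1) ∧
      (∀ i, ∀ y ∈ O, f (sr i) * y * (f (sr i))⁻¹ = y⁻¹) ∧
      (∀ j, ∀ y ∈ O, f (r j) * y = y * f (r j)) ∧ ∀ x ∈ O, ∀ y ∈ O, x * y = y * x := by
  haveI : Fact (Nat.Prime 2) := ⟨Nat.prime_two⟩
  set t := f (r (half n)) with ht
  set C := centralizer ({t} : Set G) with hC
  have hto : orderOf t = 2 := orderOf_half hf (by omega)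
  have ht1 : t ≠ 1 := fun e => by rw [e, orderOf_one] at hto; norm_num at hto
  have ht2 : t * t = 1 := by rw [← pow_two, ← hto]; exact pow_orderOf_eq_one t
  have hSC : (S : Subgroup G) ≤ C := sylow_le_centralizer_half hS (by omega)
  obtain ⟨i, δ, hia, hδb, hCc⟩ := h.card_centralizer_two ht2 ht1
  have hqodd : Odd (q ^ δ) := (h.prime.odd_of_ne_two h.ne_two).pow
  obtain rfl : i = a := by
    refine le_antisymm hia ?_
    have h1 := card_dvd_of_le hSC
    rw [h.card_sylow_two S, hCc] at h1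
    exact (Nat.pow_dvd_pow_iff_le_right one_lt_two).1
      (((Nat.coprime_two_left.2 hqodd).pow_left a).dvd_of_dvd_mul_right h1)
  have hSd : Nonempty ((S : Subgroup G) ≃* DihedralGroup (2 ^ n)) := ⟨sylowEquiv hf hS⟩
  obtain ⟨N, hNn, hNodd, l, hl⟩ := Cfsg.Agent.S0514.result S (2 ^ n)
    (le_trans (by norm_num) (Nat.pow_le_pow_right (show 0 < 2 by norm_num) hn)) hSd t hto
  have hNc : Nat.card N = q ^ δ := by
    have h1 := N.card_mul_index
    rw [hCc, hl] at h1
    refine Nat.dvd_antisymm ?_ ?_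
    · exact ((Nat.coprime_two_right.2 hNodd).pow_right i).dvd_of_dvd_mul_left ⟨2 ^ l, h1.symm⟩
    · exact ((Nat.coprime_two_right.2 hqodd).pow_right l).dvd_of_dvd_mul_right ⟨2 ^ i, by rw [h1]; ring⟩
  set O := N.map C.subtype with hO
  have hmem : ∀ x, x ∈ O ↔ x ∈ C ∧ Odd (orderOf x) := by
    refine fun x => ⟨?_, fun ⟨hx, hodd⟩ => ⟨⟨x, hx⟩, mem_of_odd_order hl (by rw [← Subgroup.orderOf_coe]; exact hodd), rfl⟩⟩
    rintro ⟨y, hy, rfl⟩
    refine ⟨y.2, ?_⟩
    show Odd (orderOf (y : G))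
    rw [Subgroup.orderOf_coe]
    exact Odd.of_dvd_nat hNodd (Subgroup.orderOf_dvd_natCard N hy)
  have hOc : Nat.card O = q ^ δ := by rw [hO, card_map_of_injective C.subtype_injective, hNc]
  have hOodd : Odd (Nat.card O) := by rw [hOc]; exact hqodd
  have hnorm : ∀ c ∈ C, ∀ y ∈ O, c * y * c⁻¹ ∈ O := by
    intro c hc y hy
    obtain ⟨hyC, hyo⟩ := (hmem y).1 hy
    refine (hmem _).2 ⟨C.mul_mem (C.mul_mem hc hyC) (C.inv_mem hc), ?_⟩
    rw [show c * y * c⁻¹ = MulAut.conj c y from rfl, MulEquiv.orderOf_eq]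
    exact hyo
  have hfC : ∀ x, f x ∈ C := fun x => hSC (hS ▸ ⟨x, rfl⟩)
  have hfix : ∀ i, ∀ y ∈ O, f (sr i) * y = y * f (sr i) → y = 1 := by
    intro i y hy e
    have hyt := mem_centralizer_singleton_iff.1 ((hmem y).1 hy).1
    have hyY : y ∈ centralizer (((lev 1 i).map f : Subgroup G) : Set G) := by
      refine mem_centralizer_iff.2 ?_
      rintro _ ⟨g, hg, rfl⟩
      rcases (mem_lev_one (by omega : 1 ≤ n)).1 hg with rfl | rfl | rfl | rfl
      · simp
      · exact hyt.symm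
      · exact e
      · rw [← sr_mul_r, map_mul, mul_assoc, ← hyt, ← mul_assoc, e, mul_assoc]
    rw [hY i] at hyY
    obtain ⟨g, hg, rfl⟩ := hyY
    exact eq_one_of_sq hOodd hy (by rw [← map_mul, mul_self_of_mem_lev_one hg, map_one])
  have hinv : ∀ i, ∀ y ∈ O, f (sr i) * y * (f (sr i))⁻¹ = y⁻¹ := fun i =>
    inverts_of_fpf hOodd (by rw [← map_mul, sr_mul_self, map_one]) (fun y hy => hnorm _ (hfC _) y hy)
      fun y hy e => hfix i y hy (mul_inv_eq_iff_eq_mul.1 e)
  refine ⟨O, δ, hδb, hOc, hCc, ?_, hmem, hfix, hinv, ?_, ?_⟩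
  · suffices hNO : N = Cfsg.oddCore C by rw [hO, hNO]
    show N = sSup {M : Subgroup C | M.Normal ∧ (Nat.card M).Coprime 2}
    refine le_antisymm (le_sSup ⟨hNn, Nat.coprime_two_right.2 hNodd⟩) (sSup_le fun M hM x hx => ?_)
    refine mem_of_odd_order hl (Odd.of_dvd_nat (Nat.coprime_two_right.1 hM.2) ?_)
    exact Subgroup.orderOf_dvd_natCard M hx
  · intro j y hy
    have e : f (r j) = f (sr 0) * f (sr j) := by rw [← map_mul, sr_mul_sr, sub_zero]
    refine mul_inv_eq_iff_eq_mul.1 ?_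
    calc f (r j) * y * (f (r j))⁻¹ = f (sr 0) * (f (sr j) * y * (f (sr j))⁻¹) * (f (sr 0))⁻¹ := by rw [e]; group
      _ = y := by rw [hinv j y hy, hinv 0 _ (O.inv_mem hy), inv_inv]
  · intro x hx y hy
    have h1 := hinv 0 _ (O.mul_mem hx hy)
    rw [show f (sr 0) * (x * y) * (f (sr 0))⁻¹ = f (sr 0) * x * (f (sr 0))⁻¹ * (f (sr 0) * y * (f (sr 0))⁻¹) by group,
      hinv 0 x hx, hinv 0 y hy, ← mul_inv_rev, inv_inj] at h1
    exact h1.symm

/-- The case of four groups only. -/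
theorem One.four_case (h : One R q a b) [IsSimpleGroup G] (hb : 2 ≤ b)
    (hsmall : ∀ k : G, orderOf k = 3 → ∀ U : Subgroup G, Inv k U → IsPGroup 2 U → Nat.card U ≤ 4)
    {k : G} (hk : orderOf k = 3) {V : Subgroup G} (hV : Inv k V) (hV4 : Nat.card V = 4)
    (hVe : ∀ v ∈ V, v * v = 1) : CIT.CIT G ∨ Conclusion G := by
  classical
  haveI : Fact (Nat.Prime 2) := ⟨Nat.prime_two⟩
  haveI := Fact.mk h.prime
  have ha := h.four_le_a
  have hCV := h.centralizer_four hsmall hk hV.norm hV4 hVe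
  obtain ⟨S, -, ⟨eS⟩⟩ := h.exists_dihedral hk hV hV4 hVe hCV
  obtain ⟨n, f, hn1, hSn, hf, hS⟩ := exists_model (S := S)
    (le_trans (by norm_num) (Nat.pow_le_pow_right (show 0 < 2 by norm_num) (show 1 ≤ a - 1 by omega))) eS
  have hna : n + 1 = a := Nat.pow_right_injective le_rfl (hSn.symm.trans (h.card_sylow_two S))
  have hn : 2 ≤ n := by omega
  have hidx : ∀ H : Subgroup G, H.index ≠ 2 := by
    intro H hH
    haveI := normal_of_index_eq_two hH
    rcases IsSimpleGroup.eq_bot_or_eq_top_of_normal H inferInstance with e | e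
    · rw [e, index_bot, h.card] at hH
      have h1 : 0 < 2 ^ a * q ^ b := Nat.mul_pos (by positivity) (pow_pos h.prime.pos b)
      rw [mul_assoc] at hH
      omega
    · rw [e, index_top] at hH; omega
  have hconj := all_conj_of_no_index_two hf hS (by omega) hidx
  have hconjh := (all_conj_iff hf hS (by omega)).1 hconj
  set Y : ZMod (2 ^ n) → Subgroup G := fun i => (lev 1 i).map f with hYdef
  have hY4 : ∀ i, Nat.card (Y i) = 4 := fun i => (isKleinFour_map_lev hf (by omega) i).card_four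
  have hYe : ∀ i, ∀ v ∈ Y i, v * v = 1 := by
    rintro i _ ⟨g, hg, rfl⟩
    rw [← map_mul, mul_self_of_mem_lev_one hg, map_one]
  have hYN : ∀ i, ∃ k', orderOf k' = 3 ∧ Inv k' (Y i) ∧ centralizer (Y i : Set G) = Y i ∧
      Nat.card (normalizer (Y i : Set G)) = 6 * Nat.card (Y i) := by
    intro i
    have h6 : (centralizer (Y i : Set G)).relIndex (normalizer (Y i : Set G)) = 6 :=
      index_six_of_isConj hf hS hn (hconjh i)
    have hle : centralizer (Y i : Set G) ≤ normalizer (Y i : Set G) := centralizer_le_normalizer _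
    have hmul := (centralizer (Y i : Set G)).subgroupOf (normalizer (Y i : Set G)) |>.card_mul_index
    rw [Nat.card_congr (subgroupOfEquivOfLe hle).toEquiv, ← relIndex, h6] at hmul
    obtain ⟨k', hk'N, hk'⟩ := exists_three_mem (L := normalizer (Y i : Set G))
      ⟨2 * Nat.card (centralizer (Y i : Set G)), by rw [← hmul]; ring⟩
    have hC := h.centralizer_four hsmall hk' hk'N (hY4 i) (hYe i)
    rw [hC] at hmul
    exact ⟨k', hk', ⟨hk'N, by rw [hY4]; norm_num⟩, hC, by rw [← hmul, mul_comm]⟩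
  have hYC : ∀ i, centralizer (Y i : Set G) = Y i := fun i => (hYN i).choose_spec.2.2.1
  obtain ⟨O, δ, hδb, hOc, hCc, hOcore, hOmem, hfix, hinv, hrot, habel⟩ := h.dihedral_core hn hna hf hS hYC
  set t := f (r (half n)) with ht
  set C := centralizer ({t} : Set G) with hCdef
  have hto : orderOf t = 2 := orderOf_half hf (by omega)
  have ht1 : t ≠ 1 := fun e => by rw [e, orderOf_one] at hto; norm_num at hto
  have ht2 : t * t = 1 := by rw [← pow_two, ← hto]; exact pow_orderOf_eq_one t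
  have hqodd : Odd (Nat.card O) := by rw [hOc]; exact (h.prime.odd_of_ne_two h.ne_two).pow
  have hcardC : ∀ x : G, orderOf x = 2 → Nat.card (centralizer ({x} : Set G)) = 2 ^ a * q ^ δ := by
    intro x hx
    obtain ⟨g, hg⟩ := isConj_iff.1 (hconj t x hto hx)
    rw [← hCc, ← hg]
    refine Nat.card_congr
      { toFun := fun c => ⟨g⁻¹ * c * g, mem_centralizer_singleton_iff.2 ?_⟩
        invFun := fun c => ⟨g * c * g⁻¹, mem_centralizer_singleton_iff.2 ?_⟩
        left_inv := fun c => Subtype.ext (by show g * (g⁻¹ * c * g) * g⁻¹ = c; group)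
        right_inv := fun c => Subtype.ext (by show g⁻¹ * (g * c * g⁻¹) * g = c; group) }
    · calc g⁻¹ * c * g * t = g⁻¹ * ((c : G) * (g * t * g⁻¹)) * g := by group
        _ = g⁻¹ * (g * t * g⁻¹ * c) * g := by rw [mem_centralizer_singleton_iff.1 c.2]
        _ = _ := by group
    · calc g * c * g⁻¹ * (g * t * g⁻¹) = g * ((c : G) * t) * g⁻¹ := by group
        _ = g * (t * c) * g⁻¹ := by rw [mem_centralizer_singleton_iff.1 c.2]
        _ = _ := by group
  by_cases hδ : δ = 0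
  · refine Or.inl fun x hx => IsPGroup.of_card (n := a) ?_
    rw [hcardC x hx, hδ, pow_zero, mul_one]
  have hO1 : O ≠ ⊥ := fun e => by
    rw [e, card_bot] at hOc
    exact (Nat.one_lt_pow hδ h.prime.one_lt).ne hOc
  -- the cyclic group
  set T := zpowers (f (r 1)) with hTdef
  have hTmem : ∀ x, x ∈ T ↔ ∃ j, x = f (r j) := by
    intro x
    constructor
    · rintro ⟨l, rfl⟩
      exact ⟨(l : ZMod (2 ^ n)), by show f (r 1) ^ l = _; rw [← map_zpow, r_one_zpow]⟩
    · rintro ⟨j, rfl⟩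
      haveI : NeZero (2 ^ n) := ⟨pow_ne_zero _ two_ne_zero⟩
      exact ⟨(j.val : ℤ), by show f (r 1) ^ (j.val : ℤ) = _; rw [← map_zpow, r_one_zpow, Int.cast_natCast, ZMod.natCast_zmod_val]⟩
  have hTc : Nat.card T = 2 ^ n := by rw [hTdef, Nat.card_zpowers, orderOf_injective f hf, orderOf_r_one]
  have hfS : ∀ x, f x ∈ (S : Subgroup G) := fun x => hS ▸ ⟨x, rfl⟩
  have hTO : ∀ τ ∈ T, ∀ o ∈ O, τ * o = o * τ := by
    intro τ hτ o ho
    obtain ⟨j, rfl⟩ := (hTmem τ).1 hτ
    exact hrot j o ho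
  have hSO : (S : Subgroup G) ⊓ centralizer (O : Set G) = T := by
    refine le_antisymm ?_ ?_
    · rintro x ⟨hxS, hxC⟩
      rw [SetLike.mem_coe, ← hS] at hxS
      obtain ⟨g, rfl⟩ := hxS
      rcases g with j | j
      · exact (hTmem _).2 ⟨j, rfl⟩
      · exact absurd (O.eq_bot_iff_forall.2 fun y hy =>
          hfix j y hy (mem_centralizer_iff.1 hxC y hy).symm) hO1
    · intro x hx
      refine ⟨?_, mem_centralizer_iff.2 fun o ho => (hTO x hx o ho).symm⟩
      obtain ⟨j, rfl⟩ := (hTmem x).1 hx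
      exact hfS _
  have hun : ∀ τ ∈ T, τ ≠ 1 → ∃ j : ℕ, τ ^ j = t := by
    intro τ hτ hτ1
    have hT2 : IsPGroup 2 T := IsPGroup.of_card (n := n) hTc
    obtain ⟨l, hl⟩ := (hT2.to_le (zpowers_le.2 hτ)).exists_card_eq
    rw [Nat.card_zpowers] at hl
    have hl0 : l ≠ 0 := fun e => hτ1 (orderOf_eq_one_iff.1 (by rw [hl, e, pow_zero]))
    obtain ⟨d, rfl⟩ : ∃ d, l = d + 1 := ⟨l - 1, by omega⟩
    refine ⟨2 ^ d, ?_⟩
    obtain ⟨j, hj⟩ := (hTmem _).1 (T.pow_mem hτ (2 ^ d))
    have h2 : f (r j) * f (r j) = 1 := by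
      rw [← hj, ← pow_add, ← two_mul, ← pow_succ', ← hl, pow_orderOf_eq_one]
    rw [← map_mul, ← map_one f] at h2
    rcases sq_eq_one_r (by omega) (hf h2) with e | e
    · exfalso
      rw [e, map_one] at hj
      have := orderOf_dvd_of_pow_eq_one hj
      rw [hl, Nat.pow_dvd_pow_iff_le_right one_lt_two] at this
      omega
    · rw [hj, e]
  by_cases hall : ∀ Y' : Subgroup G, Y' ≤ O → Y' ≠ ⊥ → normalizer (Y' : Set G) ≤ C
  · right
    haveI : IsCyclic T := isCyclic_zpowers _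
    have hrel : T.relIndex (S : Subgroup G) = 2 := by
      have hle : T ≤ (S : Subgroup G) := hSO ▸ inf_le_left
      have h1 := (T.subgroupOf (S : Subgroup G)).card_mul_index
      rw [Nat.card_congr (subgroupOfEquivOfLe hle).toEquiv, hTc, hSn, pow_succ] at h1
      exact Nat.eq_of_mul_eq_mul_left (by positivity) h1
    obtain ⟨F, iF, iF', hFodd, ⟨e⟩⟩ := Cfsg.Agent.S0508.result S (2 ^ n)
      (le_trans (by norm_num) (Nat.pow_le_pow_right (show 0 < 2 by norm_num) hn)) ⟨sylowEquiv hf hS⟩ t hto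
      (hfS _) (fun s hs => mem_centralizer_singleton_iff.1 (sylow_le_centralizer_half hS (by omega) hs))
      O hOcore (fun _ => ⟨by rw [hSO]; infer_instance, by rw [hSO]; exact hrel⟩)
      (fun s hs hsC y hy => by
        rw [← hS] at hs
        obtain ⟨g, rfl⟩ := hs
        rcases g with j | j
        · exact absurd (mem_centralizer_iff.2 fun o ho => (hrot j o ho).symm) hsC
        · exact hinv j y hy) hall
    exact h.toData.conclusion_of_psl hb ha hFodd e
  exfalso
  push Not at hall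
  obtain ⟨W, hWO, hW1, hWn⟩ := hall
  set L := normalizer (W : Set G) with hLdef
  have hWodd : Odd (Nat.card W) := hqodd.of_dvd_nat (card_dvd_of_le hWO)
  have hW3 : ¬ 3 ∣ Nat.card W := fun hd => h.ne_three
    ((Nat.prime_dvd_prime_iff_eq Nat.prime_three h.prime).1
      (Nat.prime_three.dvd_of_dvd_pow (hOc ▸ hd.trans (card_dvd_of_le hWO)))).symm
  set D := centralizer (W : Set G) with hDdef
  have hTD : T ≤ D := fun τ hτ => mem_centralizer_iff.2 fun w hw => (hTO τ hτ w (hWO hw)).symm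
  have hDL : D ≤ L := centralizer_le_normalizer _
  have hOD : O ≤ D := fun o ho => mem_centralizer_iff.2 fun w hw => habel w (hWO hw) o ho
  have hL3 : ¬ 3 ∣ Nat.card L := h.not_three_dvd_local hW1 hWodd hW3 (hTD.trans hDL)
    (by rw [hTc]; exact (pow_dvd_pow 2 hn : 2 ^ 2 ∣ 2 ^ n))
  have hT2 : IsPGroup 2 T := IsPGroup.of_card (n := n) hTc
  have hTmax : ∀ P : Subgroup G, IsPGroup 2 P → P ≤ D → Nat.card P ≤ Nat.card T := by
    intro P hP hPD
    obtain ⟨l, hl⟩ := hP.exists_card_eq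
    rw [hl, hTc]
    refine Nat.pow_le_pow_right (by norm_num) ?_
    by_contra hlt
    obtain ⟨P', hP'⟩ := hP.exists_le_sylow
    have hcP : Nat.card (P' : Subgroup G) ≤ Nat.card P := by
      rw [h.card_sylow_two P', hl]; exact Nat.pow_le_pow_right (by norm_num) (by omega)
    have hPP : P = (P' : Subgroup G) := eq_of_le_of_card_ge hP' hcP
    obtain ⟨g, hg⟩ := MulAction.exists_smul_eq G S P'
    have key : ∀ w ∈ W, w = 1 := by
      intro w hw
      have hgw : g⁻¹ * w * g ∈ centralizer (Y 0 : Set G) := by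
        refine mem_centralizer_iff.2 ?_
        rintro _ ⟨x, -, rfl⟩
        have hmem : g * f x * g⁻¹ ∈ P := by
          rw [hPP, ← hg, Sylow.coe_subgroup_smul]
          exact ⟨f x, hfS x, rfl⟩
        have := mem_centralizer_iff.1 (hPD hmem) w hw
        calc f x * (g⁻¹ * w * g) = g⁻¹ * (g * f x * g⁻¹ * w) * g := by group
          _ = g⁻¹ * (w * (g * f x * g⁻¹)) * g := by rw [← this]
          _ = _ := by group
      rw [hYC] at hgw
      refine eq_one_of_sq hWodd hw ?_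
      calc w * w = g * (g⁻¹ * w * g * (g⁻¹ * w * g)) * g⁻¹ := by group
        _ = 1 := by rw [hYe 0 _ hgw]; group
    exact hW1 (W.eq_bot_iff_forall.2 key)
  haveI : IsCyclic T := isCyclic_zpowers _
  have hT1 : T ≠ ⊥ := fun e => by
    rw [e, card_bot] at hTc
    exact (Nat.one_lt_two_pow (by omega : n ≠ 0)).ne hTc
  obtain ⟨K, hKD, hKodd, hDc, hKmem⟩ := exists_odd_part hTD hT2 hT1 hTmax
  have hOK : O ≤ K := fun o ho => (hKmem o).2 ⟨hOD ho, ((hOmem o).1 ho).2⟩
  have hKC : ∀ x ∈ K, t * x = x * t → x ∈ O := fun x hx e =>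
    (hOmem x).2 ⟨mem_centralizer_singleton_iff.2 e.symm, ((hKmem x).1 hx).2⟩
  obtain ⟨e, heb, hKe⟩ := h.toData.card_eq_pow_q hKodd
    (fun hd => hL3 (hd.trans ((card_dvd_of_le hKD).trans (card_dvd_of_le hDL))))
  have hδe : δ ≤ e := by
    have h1 := card_dvd_of_le hOK
    rw [hOc, hKe] at h1
    exact (Nat.pow_dvd_pow_iff_le_right h.prime.one_lt).1 h1
  rcases eq_or_lt_of_le hδe with heq | hlt
  · -- the normaliser would lie in the centraliser of `t`
    refine hWn fun g hg => ?_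
    have hKO : K = O := (eq_of_le_of_card_ge hOK (by rw [hKe, hOc, heq])).symm
    have hTC : T ≤ C := fun τ hτ => by
      obtain ⟨j, rfl⟩ := (hTmem τ).1 hτ
      exact sylow_le_centralizer_half hS (by omega) (hfS _)
    have hDC : D ≤ C := by
      have hcop : Nat.Coprime (Nat.card K) (Nat.card T) := by
        rw [hTc]; exact (Nat.coprime_two_right.2 hKodd).pow_right n
      have h1 : Nat.card K * Nat.card T ∣ Nat.card (D ⊓ C : Subgroup G) := hcop.mul_dvd_of_dvd_of_dvd
        (card_dvd_of_le (le_inf hKD (hKO ▸ fun o ho => ((hOmem o).1 ho).1)))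
        (card_dvd_of_le (le_inf hTD hTC))
      rw [← hDc] at h1
      have := eq_of_le_of_card_ge (inf_le_left : D ⊓ C ≤ D) (Nat.le_of_dvd Nat.card_pos h1)
      exact this ▸ inf_le_right
    set u := g * t * g⁻¹ with hu
    have hu2 : u * u = 1 := by
      calc u * u = g * (t * t) * g⁻¹ := by rw [hu]; group
        _ = 1 := by rw [ht2]; group
    have hu1 : u ≠ 1 := fun e => ht1 (conj_eq_one_iff.1 e)
    have huD : u ∈ D := by
      refine mem_centralizer_iff.2 fun w hw => ?_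
      have hw' : g⁻¹ * w * g ∈ W := by
        have := (mem_normalizer_iff.1 hg (g⁻¹ * w * g)).2 (by
          rw [show g * (g⁻¹ * w * g) * g⁻¹ = w by group]; exact hw)
        exact this
      have htw := hTO t ((hTmem t).2 ⟨_, rfl⟩) _ (hWO hw')
      calc w * u = g * ((g⁻¹ * w * g) * t) * g⁻¹ := by rw [hu]; group
        _ = g * (t * (g⁻¹ * w * g)) * g⁻¹ := by rw [htw]
        _ = u * w := by rw [hu]; group
    have huC : u ∈ C := hDC huD
    have hSC : (S : Subgroup G) ≤ C := sylow_le_centralizer_half hS (by omega)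
    obtain ⟨P, hP⟩ := (IsPGroup.of_card (n := 1) (by
      rw [Nat.card_zpowers, ← Subgroup.orderOf_coe, pow_one]
      exact orderOf_eq_prime (by rw [pow_two]; exact hu2) hu1) :
        IsPGroup 2 (zpowers (⟨u, huC⟩ : C))).exists_le_sylow
    obtain ⟨c, hc⟩ := MulAction.exists_smul_eq C P (S.subtype hSC)
    have hcu : (c : G) * u * (c : G)⁻¹ ∈ (S : Subgroup G) := by
      have h1 : c * ⟨u, huC⟩ * c⁻¹ ∈ ((S.subtype hSC : Sylow 2 C) : Subgroup C) := by
        rw [← hc, Sylow.coe_subgroup_smul]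
        exact ⟨_, hP (mem_zpowers _), rfl⟩
      exact h1
    rw [← hS] at hcu
    obtain ⟨x, hx⟩ := hcu
    rcases x with j | j
    · have h2 : f (r j) * f (r j) = 1 := by
        rw [hx]
        calc (c : G) * u * (c : G)⁻¹ * ((c : G) * u * (c : G)⁻¹) = (c : G) * (u * u) * (c : G)⁻¹ := by group
          _ = 1 := by rw [hu2]; group
      rw [← map_mul, ← map_one f] at h2
      rcases sq_eq_one_r (by omega) (hf h2) with e' | e'
      · rw [e', map_one, eq_comm, conj_eq_one_iff] at hx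
        exact absurd hx hu1
      · rw [e', ← ht] at hx
        refine mem_centralizer_singleton_iff.2 ?_
        have hct : (c : G) * t = t * c := mem_centralizer_singleton_iff.1 c.2
        calc g * t = (c : G)⁻¹ * ((c : G) * u * (c : G)⁻¹) * c * g := by rw [hu]; group
          _ = (c : G)⁻¹ * (t * c) * g := by rw [← hx]; group
          _ = t * g := by rw [← hct]; group
    · exfalso
      refine hW1 (W.eq_bot_iff_forall.2 fun w hw => ?_)
      obtain ⟨hwC, hwo⟩ := (hOmem w).1 (hWO hw)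
      have hy : (c : G) * w * (c : G)⁻¹ ∈ O := (hOmem _).2 ⟨C.mul_mem (C.mul_mem c.2 hwC) (C.inv_mem c.2), by
        rw [show (c : G) * w * (c : G)⁻¹ = MulAut.conj (c : G) w from rfl, MulEquiv.orderOf_eq]; exact hwo⟩
      refine conj_eq_one_iff.1 (hfix j _ hy ?_)
      have huw := mem_centralizer_iff.1 huD w hw
      rw [hx]
      calc (c : G) * u * (c : G)⁻¹ * ((c : G) * w * (c : G)⁻¹) = (c : G) * (u * w) * (c : G)⁻¹ := by group
        _ = (c : G) * (w * u) * (c : G)⁻¹ := by rw [huw]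
        _ = _ := by group
  -- counting
  have hsemi : 2 ^ (a - 1) ∣ q ^ (e - δ) - 1 := by
    rw [show a - 1 = n by omega, ← hTc]
    refine card_dvd_sub_one (fun τ hτ x hx => ?_) hOK hTO hqodd ht2 hun hKC ?_
    · obtain ⟨hxD, hxo⟩ := (hKmem x).1 hx
      refine (hKmem _).2 ⟨D.mul_mem (D.mul_mem (hTD hτ) hxD) (D.inv_mem (hTD hτ)), ?_⟩
      rw [show τ * x * τ⁻¹ = MulAut.conj τ x from rfl, MulEquiv.orderOf_eq]; exact hxo
    · rw [hKe, hOc, ← pow_add, Nat.add_sub_cancel' hδe]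
  have hord : orderOf (f (sr 0)) = 2 := by rw [orderOf_injective f hf, orderOf_sr]
  have hprod : 2 ^ a * q ^ δ * (2 ^ a * q ^ δ) ≤ 9 * 2 ^ a * q ^ b * 4 := by
    have h1 := card_mul_le C (centralizer ({f (sr 0)} : Set G))
    rw [hCdef, hCc, hcardC _ hord, h.card] at h1
    refine h1.trans (Nat.mul_le_mul_left _ ?_)
    refine (card_le_of_le (K := Y 0) ?_).trans (hY4 0).le
    rintro x ⟨hx1, hx2⟩
    rw [← hYC 0]
    refine mem_centralizer_iff.2 ?_
    rintro _ ⟨z, hz, rfl⟩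
    have e1 := mem_centralizer_singleton_iff.1 hx1
    have e2 := mem_centralizer_singleton_iff.1 hx2
    rcases (mem_lev_one (by omega : 1 ≤ n)).1 hz with rfl | rfl | rfl | rfl
    · simp
    · exact e1.symm
    · exact e2.symm
    · rw [← sr_mul_r, map_mul, mul_assoc, ← e1, ← mul_assoc, ← e2, mul_assoc]
  obtain ⟨r0, hr0, hr01, hro⟩ := h.exists_orderOf_three
  obtain ⟨z, E, -, -, -, hz2, hz1, hzinv, -⟩ := h.exists_inverter
  have hcount := h.count_bound hr0 hr01 hzinv hz2 (v := t)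
    (hconj z t (orderOf_eq_prime (by rw [pow_two]; exact hz2) hz1) hto)
  rw [h.card, hCc] at hcount
  set 𝒱 := conjInv r0 (Y 0) ∪ conjInv r0 (Y 1) with h𝒱
  have h3 : ∀ i, (conjInv r0 (Y i)).ncard ≤ 3 := by
    intro i
    obtain ⟨k', hk', hi', -, hc'⟩ := hYN i
    have hi1 : Y i ≠ ⊥ := fun e => by
      have := hY4 i; rw [e, card_bot] at this; norm_num at this
    have := h.conjInv_bound hro hk' hi' hi1 (Or.inr hc')
    rw [hc', hY4] at this
    omega
  have h6 : 𝒱.ncard ≤ 6 := (Set.ncard_union_le _ _).trans (Nat.add_le_add (h3 0) (h3 1))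
  have hcov : ∀ A : Subgroup G, Inv r0 A → Nat.card A = 4 → (∀ x ∈ A, x * x = 1) → A ∈ 𝒱 := by
    intro A hA hA4 hAe
    obtain ⟨x, hx⟩ := exists_conj_four_group hf hS (by omega) (isKleinFour_of_card hA4 hAe)
    have key : ∀ i, A.map (MulAut.conj x).toMonoidHom = Y i → A ∈ conjInv r0 (Y i) := fun i e =>
      ⟨⟨x⁻¹, by
        ext y
        constructor
        · rintro ⟨w, hw, rfl⟩
          rw [SetLike.mem_coe, ← e] at hw
          obtain ⟨v, hv, rfl⟩ := hw
          show x⁻¹ * (x * v * x⁻¹) * x⁻¹⁻¹ ∈ A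
          rw [show x⁻¹ * (x * v * x⁻¹) * x⁻¹⁻¹ = v by group]; exact hv
        · intro hy
          refine ⟨x * y * x⁻¹, e ▸ ⟨y, hy, rfl⟩, ?_⟩
          show x⁻¹ * (x * y * x⁻¹) * x⁻¹⁻¹ = y
          group⟩, hA.norm⟩
    rcases hx with hx | hx
    exacts [Or.inl (key 0 hx), Or.inr (key 1 hx)]
  have hN18 : (solSet t r0 r0).ncard ≤ 18 := (h.N_le hr0 hr01 ht2 ht1 𝒱 hcov).trans (by omega)
  have h4 : ∀ U ∈ 𝒱, Nat.card U ≤ 4 := by
    rintro U (⟨⟨g, rfl⟩, -⟩ | ⟨⟨g, rfl⟩, -⟩) <;>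
      rw [card_map_of_injective (MulAut.conj g).injective, hY4]
  obtain ⟨hT1', hT2'⟩ := h.T_bound hr0 hr01 𝒱 (B := 6 * 4) (ncard_biUnion_le_mul 𝒱 4 6 h6 h4) (by
    intro A hA hA2 hA1
    obtain ⟨l, hl⟩ := hA2.exists_card_eq
    have hl0 : l ≠ 0 := fun e => hA1 (eq_bot_of_card_eq A (by rw [hl, e, pow_zero]))
    obtain ⟨x, hx⟩ := exists_prime_orderOf_dvd_card' (G := A) 2 (hl ▸ dvd_pow_self 2 hl0)
    rw [← Subgroup.orderOf_coe] at hx
    obtain ⟨V', hV', hV'4, hV'A, -, -, -, -, hV'e⟩ := hA.orbit_four h.toData hro x.2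
      (by rw [← pow_two, ← hx]; exact pow_orderOf_eq_one _)
      (fun e => by rw [e, orderOf_one] at hx; norm_num at hx)
    exact ⟨V', hcov V' hV' hV'4 hV'e, (eq_of_le_of_card_ge hV'A (hV'4 ▸ hsmall _ hro A hA hA2)).ge⟩)
  have hTT : ((solSet r0 r0 r0).ncard ≤ 31 + 6 * q ^ b ∧ 6 ≤ a) ∨ ((solSet r0 r0 r0).ncard ≤ 31 ∧
      ∀ P : Sylow q G, ¬ 3 ∣ Nat.card (normalizer ((P : Subgroup G) : Set G))) := by
    by_cases hQ : ∀ A, Inv r0 A → IsPGroup q A → A = ⊥
    · refine Or.inr ⟨(hT2' hQ).trans (by norm_num), fun P h3P => ?_⟩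
      obtain ⟨k', hk'N, hk'⟩ := exists_three_mem h3P
      obtain ⟨x, hxR, hx1⟩ := h.toData.exists_conj_mem hk'
      obtain ⟨g, -, hg⟩ := h.one_class _ hxR hx1 r0 hr0 hr01
      set Q := (P : Subgroup G).map (MulAut.conj (g * x)).toMonoidHom with hQdef
      have hQc : Nat.card Q = q ^ b := by
        rw [hQdef, card_map_of_injective (MulAut.conj (g * x)).injective, h.toData.card_sylow_q]
      have hr0N : r0 ∈ normalizer (Q : Set G) := by
        have hr0e : r0 = MulAut.conj (g * x) k' := by rw [← hg, MulAut.conj_apply]; group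
        rw [mem_normalizer_iff_map_conj_eq, hQdef, Subgroup.map_map]
        conv_rhs => rw [← mem_normalizer_iff_map_conj_eq.1 hk'N, Subgroup.map_map]
        congr 1
        ext y
        simp only [MonoidHom.comp_apply, MulEquiv.coe_toMonoidHom, MonoidHom.coe_coe, MulEquiv.toMonoidHom_eq_coe, MulAut.conj_apply, hr0e]
        group
      have hq3 : ¬ 3 ∣ Nat.card Q := fun hd => h.ne_three
        ((Nat.prime_dvd_prime_iff_eq Nat.prime_three h.prime).1
          (Nat.prime_three.dvd_of_dvd_pow (hQc ▸ hd))).symm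
      have := hQ Q ⟨hr0N, hq3⟩ (IsPGroup.of_card hQc)
      rw [this, card_bot] at hQc
      exact (Nat.one_lt_pow (by omega : b ≠ 0) h.prime.one_lt).ne hQc
    · push Not at hQ
      obtain ⟨A, hA, hAq, hA1⟩ := hQ
      exact Or.inl ⟨hT1'.trans (by omega), h.inv_q_six_le hb hro hA hAq hA1⟩
  exact h.four_arith hb (δ := δ) (f := e - δ) (by omega) (by omega) (by omega) hsemi hprod
    (hcount.trans (Nat.add_le_add_right (Nat.mul_le_mul_left _ hN18) _)) hTT

end CfsgLib.Known.ThreeNine
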