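import Cfsg.Agent.Lib.Known.ThreeNine.Local
import Cfsg.Agent.Lib.Core.FPFSymThreeBasic
import Cfsg.Agent.Lib.Core.FPF

/-!
# Invariant subgroups as groups with a fixed point free automorphism of order three

In an invariant subgroup every element commutes with its conjugates, the centralisers of its
elements are invariant, and an involution inverting `k` fixes a subgroup of square root order.
-/

set_option autoImplicit false
set_option linter.all false

namespace CfsgLib.Known.ThreeNine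

open Subgroup

universe u

variable {G : Type u} [Group G] [Finite G] {R : Sylow 3 G} {q a b : ℕ} {k : G} {U : Subgroup G}

/-- Conjugation by `k` on an invariant subgroup. -/
noncomputable def Inv.aut (hU : Inv k U) : MulAut U := U.normalizerMonoidHom ⟨k, hU.norm⟩

theorem Inv.aut_apply (hU : Inv k U) (x : U) : (hU.aut x : G) = k * x * k⁻¹ := rfl

theorem cube_eq_one (hk : orderOf k = 3) : k * k * k = 1 := by
  rw [← pow_three', ← hk]; exact pow_orderOf_eq_one k

theorem conj_cube (hk : orderOf k = 3) (x : G) : k * (k * (k * x * k⁻¹) * k⁻¹) * k⁻¹ = x := by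
  calc k * (k * (k * x * k⁻¹) * k⁻¹) * k⁻¹ = (k * k * k) * x * (k * k * k)⁻¹ := by group
    _ = x := by rw [cube_eq_one hk, one_mul, inv_one, mul_one]

theorem inv_eq_sq (hk : orderOf k = 3) : k⁻¹ = k * k :=
  inv_eq_of_mul_eq_one_left (cube_eq_one hk)

theorem conj_inv_eq (hk : orderOf k = 3) (x : G) : k⁻¹ * x * k = k * (k * x * k⁻¹) * k⁻¹ := by
  rw [show k * (k * x * k⁻¹) * k⁻¹ = (k * k) * x * (k * k)⁻¹ by group, ← inv_eq_sq hk, inv_inv]

theorem Inv.conj_mem (hU : Inv k U) {x : G} (hx : x ∈ U) : k * x * k⁻¹ ∈ U :=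
  (mem_normalizer_iff.1 hU.norm x).1 hx

theorem Inv.conj_mem' (hk : orderOf k = 3) (hU : Inv k U) {x : G} (hx : x ∈ U) : k⁻¹ * x * k ∈ U := by
  rw [conj_inv_eq hk]; exact hU.conj_mem (hU.conj_mem hx)

theorem Inv.mono (hU : Inv k U) {W : Subgroup G} (hW : W ≤ U) (hn : k ∈ normalizer (W : Set G)) :
    Inv k W :=
  ⟨hn, fun h => hU.prime_three (h.trans (card_dvd_of_le hW))⟩

theorem Inv.aut_cube (hk : orderOf k = 3) (hU : Inv k U) (x : U) : hU.aut (hU.aut (hU.aut x)) = x := by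
  refine Subtype.ext ?_
  rw [hU.aut_apply, hU.aut_apply, hU.aut_apply]
  exact conj_cube hk x

theorem Inv.aut_fixed (h : Data R q a b) (hk : orderOf k = 3) (hU : Inv k U) (x : U)
    (hx : hU.aut x = x) : x = 1 :=
  Subtype.ext (hU.fpf h hk x.2 (congrArg Subtype.val hx))

/-- An element commutes with its image under `k`. -/
theorem Inv.commute_self (h : Data R q a b) (hk : orderOf k = 3) (hU : Inv k U) {x : G} (hx : x ∈ U) :
    x * (k * x * k⁻¹) = k * x * k⁻¹ * x :=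
  congrArg Subtype.val (CfsgLib.Core.FPFSymThree.commute_self_of_fpf_three hU.aut
    (hU.aut_cube hk) (hU.aut_fixed h hk) ⟨x, hx⟩).eq

/-- An element commutes with its conjugates. -/
theorem Inv.commute_conj (h : Data R q a b) (hk : orderOf k = 3) (hU : Inv k U) {x w : G} (hx : x ∈ U)
    (hw : w ∈ U) : x * (w * x * w⁻¹) = w * x * w⁻¹ * x :=
  congrArg Subtype.val (CfsgLib.Core.FPFSymThree.commute_conj_of_fpf_three hU.aut
    (hU.aut_cube hk) (hU.aut_fixed h hk) ⟨x, hx⟩ ⟨w, hw⟩).eq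

/-- The product over an orbit is trivial. -/
theorem Inv.orbit_prod (h : Data R q a b) (hk : orderOf k = 3) (hU : Inv k U) {x : G} (hx : x ∈ U) :
    x * (k * x * k⁻¹) * (k * (k * x * k⁻¹) * k⁻¹) = 1 := by
  have hsur : Function.Surjective fun t : U => t⁻¹ * hU.aut t := by
    refine Finite.surjective_of_injective fun c d hcd => ?_
    have e : hU.aut (c * d⁻¹) = c * d⁻¹ := by
      rw [map_mul, map_inv]
      have h1 := congrArg (fun z => c * z * (hU.aut d)⁻¹) hcd
      simpa [mul_assoc] using h1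
    exact mul_inv_eq_one.mp (hU.aut_fixed h hk _ e)
  obtain ⟨t, ht⟩ := hsur ⟨x, hx⟩
  have hxe : x = (t : G)⁻¹ * (k * t * k⁻¹) := (congrArg Subtype.val ht).symm
  subst hxe
  calc (t : G)⁻¹ * (k * t * k⁻¹) * (k * ((t : G)⁻¹ * (k * t * k⁻¹)) * k⁻¹) *
        (k * (k * ((t : G)⁻¹ * (k * t * k⁻¹)) * k⁻¹) * k⁻¹) =
      (t : G)⁻¹ * (k * (k * (k * t * k⁻¹) * k⁻¹) * k⁻¹) := by group
    _ = 1 := by rw [conj_cube hk, inv_mul_cancel]

/-- If `x` and `y` commute then so do `x` and the image of `y`. -/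
theorem Inv.commute_shift (h : Data R q a b) (hk : orderOf k = 3) (hU : Inv k U) {x y : G} (hx : x ∈ U)
    (hy : y ∈ U) (e : x * y = y * x) : x * (k * y * k⁻¹) = k * y * k⁻¹ * x := by
  set x1 := k * x * k⁻¹ with hx1
  set y1 := k * y * k⁻¹ with hy1
  set x2 := k * x1 * k⁻¹ with hx2
  set y2 := k * y1 * k⁻¹ with hy2
  have e1 : x1 * y1 = y1 * x1 := by
    rw [hx1, hy1]
    calc k * x * k⁻¹ * (k * y * k⁻¹) = k * (x * y) * k⁻¹ := by group
      _ = k * (y * x) * k⁻¹ := by rw [e]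
      _ = _ := by group
  have px : x2 = (x * x1)⁻¹ := eq_inv_of_mul_eq_one_right (hU.orbit_prod h hk hx)
  have py : y2 = (y * y1)⁻¹ := eq_inv_of_mul_eq_one_right (hU.orbit_prod h hk hy)
  have pxy := hU.orbit_prod h hk (U.mul_mem hx hy)
  have d1 : k * (x * y) * k⁻¹ = x1 * y1 := by rw [hx1, hy1]; group
  have d2 : k * (k * (x * y) * k⁻¹) * k⁻¹ = x2 * y2 := by rw [hx2, hy2, d1]; group
  rw [d2, d1, px, py, ← mul_inv_rev, mul_inv_eq_one] at pxy
  -- `x y x₁ y₁ = y y₁ x x₁`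
  have h3 : x * y * (x1 * y1) = y * (x * (y1 * x1)) := by rw [e, e1]; simp only [mul_assoc]
  have h4 : y * y1 * (x * x1) = y * (y1 * x * x1) := by simp only [mul_assoc]
  rw [h3, h4, mul_right_inj, ← mul_assoc] at pxy
  exact mul_right_cancel pxy

/-- Centralisers inside an invariant subgroup of subsets of it are invariant. -/
theorem Inv.centralizer (h : Data R q a b) (hk : orderOf k = 3) (hU : Inv k U) {B : Set G}
    (hB : ∀ y ∈ B, y ∈ U) : Inv k (U ⊓ Subgroup.centralizer B) := by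
  refine hU.mono inf_le_left ?_
  refine mem_normalizer_iff_map_conj_eq.2 (eq_of_le_of_card_ge ?_
    (card_map_of_injective (MulAut.conj k).injective).ge)
  rintro _ ⟨x, ⟨hx, hxB⟩, rfl⟩
  refine ⟨hU.conj_mem hx, mem_centralizer_iff.2 fun y hy => ?_⟩
  exact hU.commute_shift h hk (hB y hy) hx (mem_centralizer_iff.1 hxB y hy)

theorem Inv.card_mod (h : Data R q a b) (hk : orderOf k = 3) (hU : Inv k U) : Nat.card U % 3 = 1 := by
  have hA : zpowers k ≤ normalizer (U : Set G) := zpowers_le.2 hU.norm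
  have h1 := CfsgLib.Core.FPF.card_dvd_pred hA fun c hc hc1 => by
    refine (eq_bot_iff_forall _).2 fun x hx => ?_
    obtain ⟨i, rfl⟩ := mem_zpowers_iff.1 hc
    refine h.eq_one_of_commute (k := k ^ i) ?_ (mem_centralizer_singleton_iff.1 hx.2)
      fun hd => hU.prime_three (hd.trans (Subgroup.orderOf_dvd_natCard U hx.1))
    haveI : Fact (Nat.Prime 3) := ⟨Nat.prime_three⟩
    refine orderOf_eq_prime ?_ hc1
    rw [← zpow_natCast, ← zpow_mul, mul_comm, zpow_mul, zpow_natCast, ← hk, pow_orderOf_eq_one, one_zpow]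
  rw [Nat.card_zpowers, hk] at h1
  have := Nat.card_pos (α := U)
  omega

theorem Inv.exists_four_pow (h : Data R q a b) (hk : orderOf k = 3) (hU : Inv k U) (h2 : IsPGroup 2 U) :
    ∃ i : ℕ, Nat.card U = 4 ^ i := by
  haveI : Fact (Nat.Prime 2) := ⟨Nat.prime_two⟩
  obtain ⟨n, hn⟩ := h2.exists_card_eq
  have h1 := hU.card_mod h hk
  rcases Nat.even_or_odd' n with ⟨i, rfl | rfl⟩
  · exact ⟨i, by rw [hn, pow_mul]; norm_num⟩
  · exfalso
    rw [hn, pow_succ, pow_mul, Nat.mul_mod, Nat.pow_mod] at h1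
    norm_num at h1

theorem four_pow_le {i j : ℕ} (h1 : 4 ^ i ≤ 2 * 4 ^ j) : 4 ^ i ≤ 4 ^ j := by
  refine Nat.pow_le_pow_right (by norm_num) ?_
  by_contra hlt
  have := Nat.pow_le_pow_right (show 0 < 4 by norm_num) (show j + 1 ≤ i by omega)
  rw [pow_succ] at this
  have := Nat.pow_pos (n := j) (show 0 < 4 by norm_num)
  omega

theorem Inv.eq_of_card_le (h : Data R q a b) (hk : orderOf k = 3) {A : Subgroup G} (hA : Inv k A)
    (hU : Inv k U) (h2 : IsPGroup 2 U) (hle : A ≤ U) (hc : Nat.card U ≤ 2 * Nat.card A) : A = U := by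
  obtain ⟨i, hi⟩ := hU.exists_four_pow h hk h2
  obtain ⟨j, hj⟩ := hA.exists_four_pow h hk (h2.to_le hle)
  refine eq_of_le_of_card_ge hle ?_
  rw [hi, hj] at hc ⊢
  exact four_pow_le hc

/-- `g ↦ g` is the only solution of `k g k⁻¹ = k⁻¹ g k` in an invariant subgroup. -/
theorem Inv.eq_one_of_conj_eq (h : Data R q a b) (hk : orderOf k = 3) (hU : Inv k U) {g : G} (hg : g ∈ U)
    (e : k * g * k⁻¹ = k⁻¹ * g * k) : g = 1 := by
  rw [conj_inv_eq hk] at e
  refine hU.fpf h hk hg ?_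
  have := congrArg (fun z => k * (k * z * k⁻¹) * k⁻¹) e
  rw [conj_cube hk] at this
  exact this.symm

section Inverted

variable {n : G}

theorem conj_inverted (hn : n * k * n⁻¹ = k⁻¹) (x : G) :
    n * (k * x * k⁻¹) * n⁻¹ = k⁻¹ * (n * x * n⁻¹) * k := by
  calc n * (k * x * k⁻¹) * n⁻¹ = (n * k * n⁻¹) * (n * x * n⁻¹) * (n * k * n⁻¹)⁻¹ := by group
    _ = k⁻¹ * (n * x * n⁻¹) * k := by rw [hn, inv_inv]

/-- `U = C_U(n) C_U(n)^k` with unique expression, for an involution `n` inverting `k`. -/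
theorem Inv.fixed_split (h : Data R q a b) (hk : orderOf k = 3) (hU : Inv k U)
    (hnU : n ∈ normalizer (U : Set G)) (hn : n * k * n⁻¹ = k⁻¹) (hn2 : n * n = 1) :
    Nat.card (U ⊓ Subgroup.centralizer {n} : Subgroup G) ^ 2 = Nat.card U ∧
      ∀ u ∈ U, ∃ c ∈ U ⊓ Subgroup.centralizer {n}, ∃ d ∈ U ⊓ Subgroup.centralizer {n},
        u = c * (k * d * k⁻¹) := by
  set C := U ⊓ Subgroup.centralizer {n} with hC
  have hfix : ∀ c ∈ C, n * c * n⁻¹ = c := fun c hc =>
    mul_inv_eq_iff_eq_mul.2 (mem_centralizer_singleton_iff.1 hc.2).symm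
  let F : C × C → U := fun p => ⟨(p.1 : G) * (k * p.2 * k⁻¹), U.mul_mem p.1.2.1 (hU.conj_mem p.2.2.1)⟩
  have hF : Function.Injective F := by
    rintro ⟨c, d⟩ ⟨c', d'⟩ e
    have e' : (c : G) * (k * d * k⁻¹) = c' * (k * d' * k⁻¹) := congrArg Subtype.val e
    set g := (c' : G)⁻¹ * c with hg
    set f := (d' : G) * (d : G)⁻¹ with hf
    have e1 : g = k * f * k⁻¹ := by
      rw [hg, hf, eq_comm, ← mul_inv_eq_iff_eq_mul.2 e'.symm]
      group
    have e2 : g = k⁻¹ * f * k := by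
      rw [← hfix g (C.mul_mem (C.inv_mem c'.2) c.2), e1, conj_inverted hn,
        hfix f (C.mul_mem d'.2 (C.inv_mem d.2))]
    have hf1 : f = 1 := hU.eq_one_of_conj_eq h hk (C.mul_mem d'.2 (C.inv_mem d.2)).1 (e1.symm.trans e2)
    have hd : d' = d := Subtype.ext (mul_inv_eq_one.1 hf1)
    subst hd
    have hc : c = c' := Subtype.ext (mul_right_cancel e')
    subst hc
    rfl
  have hle1 : Nat.card C * Nat.card C ≤ Nat.card U := by
    rw [← Nat.card_prod]; exact Nat.card_le_card_of_injective F hF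
  let I : Type u := {d : U // n * (d : G) * n⁻¹ = (d : G)⁻¹}
  let f : I → C := fun d => ⟨(k * d.1 * k⁻¹) * (k⁻¹ * (d.1 : G)⁻¹ * k), by
    refine ⟨U.mul_mem (hU.conj_mem d.1.2) (hU.conj_mem' hk (U.inv_mem d.1.2)),
      mem_centralizer_singleton_iff.2 ?_⟩
    symm
    rw [← mul_inv_eq_iff_eq_mul]
    have h1 : n * (k⁻¹ * (d.1 : G)⁻¹ * k) * n⁻¹ = k * (d.1 : G) * k⁻¹ := by
      have hd' : n * (d.1 : G)⁻¹ * n⁻¹ = (d.1 : G) := by
        rw [show n * (d.1 : G)⁻¹ * n⁻¹ = (n * (d.1 : G) * n⁻¹)⁻¹ by group, d.2, inv_inv]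
      calc n * (k⁻¹ * (d.1 : G)⁻¹ * k) * n⁻¹ =
            (n * k * n⁻¹)⁻¹ * (n * (d.1 : G)⁻¹ * n⁻¹) * (n * k * n⁻¹) := by group
        _ = _ := by rw [hn, hd', inv_inv]
    calc n * (k * d.1 * k⁻¹ * (k⁻¹ * (d.1 : G)⁻¹ * k)) * n⁻¹
        = (n * (k * d.1 * k⁻¹) * n⁻¹) * (n * (k⁻¹ * (d.1 : G)⁻¹ * k) * n⁻¹) := by group
      _ = k⁻¹ * (d.1 : G)⁻¹ * k * (k * d.1 * k⁻¹) := by rw [conj_inverted hn, d.2, h1]
      _ = k * d.1 * k⁻¹ * (k⁻¹ * (d.1 : G)⁻¹ * k) := by
          have hc := hU.commute_self h hk (hU.conj_mem d.1.2)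
          rw [← conj_inv_eq hk] at hc
          have : Commute (k * d.1 * k⁻¹) (k⁻¹ * (d.1 : G)⁻¹ * k) := by
            rw [show k⁻¹ * (d.1 : G)⁻¹ * k = (k⁻¹ * (d.1 : G) * k)⁻¹ by group]
            exact Commute.inv_right hc
          exact this.eq.symm⟩
  have hf : Function.Injective f := by
    rintro ⟨d, hd⟩ ⟨e, he⟩ hde
    have e' : (k * d * k⁻¹) * (k⁻¹ * (d : G)⁻¹ * k) = (k * e * k⁻¹) * (k⁻¹ * (e : G)⁻¹ * k) :=
      congrArg Subtype.val hde
    have e1 : k * ((e : G)⁻¹ * d) * k⁻¹ = k⁻¹ * ((e : G)⁻¹ * d) * k := by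
      calc k * ((e : G)⁻¹ * d) * k⁻¹ = (k * e * k⁻¹)⁻¹ * ((k * d * k⁻¹) * (k⁻¹ * (d : G)⁻¹ * k)) *
            (k⁻¹ * d * k) := by group
        _ = _ := by rw [e']; group
    have := inv_mul_eq_one.1 (hU.eq_one_of_conj_eq h hk (U.mul_mem (U.inv_mem e.2) d.2) e1)
    exact Subtype.ext (Subtype.ext this.symm)
  let g : U → I := fun u => ⟨⟨(u : G)⁻¹ * (n * u * n⁻¹),
    U.mul_mem (U.inv_mem u.2) ((mem_normalizer_iff.1 hnU _).1 u.2)⟩, by
      calc n * ((u : G)⁻¹ * (n * u * n⁻¹)) * n⁻¹ = n * (u : G)⁻¹ * n⁻¹ * ((n * n) * u * (n * n)⁻¹) := by group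
        _ = _ := by rw [hn2]; group⟩
  have hle2 : Nat.card U ≤ Nat.card C * Nat.card C := by
    classical
    haveI := Fintype.ofFinite U
    haveI : Finite I := Subtype.finite
    haveI := Fintype.ofFinite I
    have hI : Nat.card I ≤ Nat.card C := Nat.card_le_card_of_injective f hf
    refine le_trans ?_ (Nat.mul_le_mul_left (Nat.card C) hI)
    rw [Nat.card_eq_fintype_card, Nat.card_eq_fintype_card (α := I), ← Finset.card_univ, ← Finset.card_univ]
    refine Finset.card_le_mul_card_image_of_maps_to (fun u _ => Finset.mem_univ (g u)) (Nat.card C) fun d _ => ?_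
    rcases Finset.eq_empty_or_nonempty (Finset.univ.filter fun u => g u = d) with e | ⟨w, hw⟩
    · rw [e, Finset.card_empty]; exact Nat.zero_le _
    rw [← Fintype.card_subtype, ← Nat.card_eq_fintype_card]
    refine Nat.card_le_card_of_injective (fun u => (⟨(u.1 : G) * (w : G)⁻¹, ?_⟩ : C)) fun u u' huu => ?_
    · refine ⟨U.mul_mem u.1.2 (U.inv_mem w.2), mem_centralizer_singleton_iff.2 ?_⟩
      have hu : (u.1 : G)⁻¹ * (n * u.1 * n⁻¹) = (w : G)⁻¹ * (n * w * n⁻¹) :=
        congrArg (fun z : I => ((z.1 : U) : G)) (u.2.trans (Finset.mem_filter.1 hw).2.symm)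
      symm
      rw [← mul_inv_eq_iff_eq_mul]
      calc n * ((u.1 : G) * (w : G)⁻¹) * n⁻¹ =
            (u.1 : G) * ((u.1 : G)⁻¹ * (n * u.1 * n⁻¹)) * (n * w * n⁻¹)⁻¹ := by group
        _ = _ := by rw [hu]; group
    · exact Subtype.ext (Subtype.ext (mul_right_cancel (congrArg Subtype.val huu)))
  have hsq : Nat.card C ^ 2 = Nat.card U := by rw [pow_two]; exact le_antisymm hle1 hle2
  refine ⟨hsq, fun u hu => ?_⟩
  have hbij : Function.Bijective F :=
    (Nat.bijective_iff_injective_and_card F).2 ⟨hF, by rw [Nat.card_prod, ← pow_two, hsq]⟩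
  obtain ⟨⟨c, d⟩, hcd⟩ := hbij.2 ⟨u, hu⟩
  exact ⟨c, c.2, d, d.2, (congrArg Subtype.val hcd).symm⟩

end Inverted

/-- The centraliser of an element in an invariant subgroup has more than square root order. -/
theorem Inv.card_lt_centralizer_sq (h : Data R q a b) (hk : orderOf k = 3) (hU : Inv k U) {x : G}
    (hx : x ∈ U) (hx1 : x ≠ 1) :
    Nat.card U < Nat.card (U ⊓ Subgroup.centralizer {x} : Subgroup G) ^ 2 := by
  classical
  haveI := Fintype.ofFinite U
  set W := U ⊓ Subgroup.centralizer {x} with hW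
  haveI := Fintype.ofFinite W
  let f : U → W := fun u => ⟨(u : G) * x * (u : G)⁻¹, U.mul_mem (U.mul_mem u.2 hx) (U.inv_mem u.2),
    mem_centralizer_singleton_iff.2 (hU.commute_conj h hk hx u.2).symm⟩
  have hne : ∀ u, f u ≠ 1 := fun u e => hx1 (conj_eq_one_iff.1 (congrArg Subtype.val e))
  have h1 := Finset.card_le_mul_card_image_of_maps_to (f := f) (s := Finset.univ)
    (t := Finset.univ.erase (1 : W)) (fun u _ => Finset.mem_erase.2 ⟨hne u, Finset.mem_univ _⟩)
    (Nat.card W) fun w _ => ?_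
  · rw [Finset.card_univ, Finset.card_erase_of_mem (Finset.mem_univ _), Finset.card_univ,
      ← Nat.card_eq_fintype_card, ← Nat.card_eq_fintype_card] at h1
    have hpos := Nat.card_pos (α := W)
    calc Nat.card U ≤ Nat.card W * (Nat.card W - 1) := h1
      _ < Nat.card W * Nat.card W := Nat.mul_lt_mul_of_pos_left (by omega) hpos
      _ = _ := by rw [pow_two]
  · rcases Finset.eq_empty_or_nonempty (Finset.univ.filter fun u => f u = w) with e | ⟨v, hv⟩
    · rw [e, Finset.card_empty]; exact Nat.zero_le _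
    rw [← Fintype.card_subtype, ← Nat.card_eq_fintype_card]
    refine Nat.card_le_card_of_injective (fun u => (⟨(v : G)⁻¹ * u.1, U.mul_mem (U.inv_mem v.2) u.1.2,
      mem_centralizer_singleton_iff.2 ?_⟩ : W)) fun u u' huu => ?_
    · have hu : (u.1 : G) * x * (u.1 : G)⁻¹ = v * x * (v : G)⁻¹ :=
        congrArg Subtype.val (u.2.trans (Finset.mem_filter.1 hv).2.symm)
      calc (v : G)⁻¹ * u.1 * x = (v : G)⁻¹ * ((u.1 : G) * x * (u.1 : G)⁻¹) * u.1 := by group
        _ = x * ((v : G)⁻¹ * u.1) := by rw [hu]; group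
    · exact Subtype.ext (Subtype.ext (mul_left_cancel (congrArg Subtype.val huu)))

/-- An invariant cyclic 2-group is trivial. -/
theorem Inv.eq_bot_of_cyclic (h : Data R q a b) (hk : orderOf k = 3) (hU : Inv k U) [IsCyclic U]
    (h2 : IsPGroup 2 U) : U = ⊥ := by
  refine (eq_bot_iff_forall _).2 fun x hx => ?_
  by_contra hx1
  obtain ⟨i, hi⟩ := h2 ⟨x, hx⟩
  -- the involution is unique, hence fixed
  haveI : Fact (Nat.Prime 2) := ⟨Nat.prime_two⟩
  have hne : Nat.card U ≠ 1 := fun e => by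
    haveI := (Nat.card_eq_one_iff_unique.1 e).1
    exact hx1 (congrArg Subtype.val (Subsingleton.elim (⟨x, hx⟩ : U) 1))
  obtain ⟨n, hn⟩ := h2.exists_card_eq
  have hd : 2 ∣ Nat.card U := by
    rw [hn] at hne ⊢
    exact dvd_pow_self 2 fun e => hne (by rw [e, pow_zero])
  obtain ⟨t, ht⟩ := exists_prime_orderOf_dvd_card' 2 hd
  have hex : ∃! u : U, orderOf u = 2 := by
    classical
    haveI := Fintype.ofFinite U
    have hc := IsCyclic.card_orderOf_eq_totient (α := U) (d := 2) (by rwa [← Nat.card_eq_fintype_card])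
    rw [Nat.totient_two] at hc
    obtain ⟨u, hu⟩ := Finset.card_eq_one.1 hc
    refine ⟨u, ?_, fun w hw => ?_⟩
    · have : u ∈ ({u} : Finset U) := Finset.mem_singleton_self u
      rw [← hu] at this
      exact (Finset.mem_filter.1 this).2
    · refine Finset.mem_singleton.1 ?_
      rw [← hu]
      exact Finset.mem_filter.2 ⟨Finset.mem_univ _, hw⟩
  have e : hU.aut t = t := hex.unique (by rw [MulEquiv.orderOf_eq]; exact ht) ht
  have := hU.aut_fixed h hk t e
  rw [this, orderOf_one] at ht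
  exact absurd ht (by norm_num)

/-- A nontrivial invariant 2-group has a central invariant four subgroup. -/
theorem Inv.orbit_four (h : Data R q a b) (hk : orderOf k = 3) (hU : Inv k U) {c : G} (hc : c ∈ U)
    (hc2 : c * c = 1) (hc1 : c ≠ 1) :
    ∃ V : Subgroup G, Inv k V ∧ Nat.card V = 4 ∧ V ≤ U ∧ c ∈ V ∧ k * c * k⁻¹ ∈ V ∧
      (∀ v, v ∈ V ↔ v = 1 ∨ v = c ∨ v = k * c * k⁻¹ ∨ v = c * (k * c * k⁻¹)) ∧
      c ≠ k * c * k⁻¹ ∧ ∀ v ∈ V, v * v = 1 := by
  set d := k * c * k⁻¹ with hd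
  have hd2 : d * d = 1 := by rw [hd, show k * c * k⁻¹ * (k * c * k⁻¹) = k * (c * c) * k⁻¹ by group, hc2]; group
  have hd1 : d ≠ 1 := fun e => hc1 (conj_eq_one_iff.1 e)
  have hcd : c * d = d * c := hU.commute_self h hk hc
  have hne : c ≠ d := fun e => hc1 (hU.fpf h hk hc (hd ▸ e.symm))
  have hp1 : c * d ≠ 1 := fun e => hne (by rw [← inv_eq_of_mul_eq_one_right hd2]; exact eq_inv_of_mul_eq_one_left e)
  have hdd : k * d * k⁻¹ = c * d := by
    have h1 : k * d * k⁻¹ = (c * d)⁻¹ := eq_inv_of_mul_eq_one_right (hU.orbit_prod h hk hc)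
    rw [h1, mul_inv_rev, inv_eq_of_mul_eq_one_right hc2, inv_eq_of_mul_eq_one_right hd2, hcd]
  have k1 : d * (c * d) = c := by rw [← mul_assoc, ← hcd, mul_assoc, hd2, mul_one]
  have k2 : c * (c * d) = d := by rw [← mul_assoc, hc2, one_mul]
  have k3 : c * d * c = d := by rw [hcd, mul_assoc, hc2, mul_one]
  have k4 : c * d * d = c := by rw [mul_assoc, hd2, mul_one]
  have k5 : c * d * (c * d) = 1 := by rw [← mul_assoc, k3, hd2]
  let V : Subgroup G :=
    { carrier := {1, c, d, c * d}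
      one_mem' := by simp
      inv_mem' := by
        intro w hw
        simp only [Set.mem_insert_iff, Set.mem_singleton_iff] at hw ⊢
        rcases hw with rfl | rfl | rfl | rfl <;>
          simp [inv_eq_of_mul_eq_one_right hc2, inv_eq_of_mul_eq_one_right hd2, inv_eq_of_mul_eq_one_right k5]
      mul_mem' := by
        intro w w' hw hw'
        simp only [Set.mem_insert_iff, Set.mem_singleton_iff] at hw hw' ⊢
        rcases hw with rfl | rfl | rfl | rfl <;> rcases hw' with rfl | rfl | rfl | rfl <;>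
          simp [hc2, hd2, ← hcd, k1, k2, k3, k4, k5] }
  have hmem : ∀ v, v ∈ V ↔ v = 1 ∨ v = c ∨ v = d ∨ v = c * d := fun v => Iff.rfl
  have hVU : V ≤ U := by
    intro v hv
    rcases (hmem v).1 hv with rfl | rfl | rfl | rfl
    exacts [U.one_mem, hc, hU.conj_mem hc, U.mul_mem hc (hU.conj_mem hc)]
  have hV4 : Nat.card V = 4 := by
    show Nat.card ({1, c, d, c * d} : Set G) = 4
    rw [Nat.card_coe_set_eq, Set.ncard_insert_of_notMem (by simp [Ne.symm hc1, Ne.symm hd1, Ne.symm hp1]),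
      Set.ncard_insert_of_notMem (by simp [hne, hd1]), Set.ncard_pair (by simp [hc1])]
  refine ⟨V, hU.mono hVU ?_, hV4, hVU, (hmem c).2 (Or.inr (Or.inl rfl)),
    (hmem d).2 (Or.inr (Or.inr (Or.inl rfl))), hmem, hne, fun v hv => ?_⟩
  · refine mem_normalizer_iff_map_conj_eq.2 (eq_of_le_of_card_ge ?_
      (card_map_of_injective (MulAut.conj k).injective).ge)
    rintro _ ⟨v, hv, rfl⟩
    show k * v * k⁻¹ ∈ V
    rcases (hmem v).1 hv with rfl | rfl | rfl | rfl
    · simp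
    · exact (hmem _).2 (Or.inr (Or.inr (Or.inl rfl)))
    · exact (hmem _).2 (Or.inr (Or.inr (Or.inr hdd)))
    · refine (hmem _).2 (Or.inr (Or.inl ?_))
      rw [show k * (c * d) * k⁻¹ = d * (k * d * k⁻¹) by rw [hd]; group, hdd, k1]
  · rcases (hmem v).1 hv with rfl | rfl | rfl | rfl
    exacts [one_mul 1, hc2, hd2, k5]

end CfsgLib.Known.ThreeNine
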