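import Cfsg.Agent.Lib.Known.ThreeNine.Action
import Cfsg.Agent.Lib.PGroups.FrattiniModule
import Cfsg.Agent.Lib.Core.PLengthTwoMaximal

/-!
# The Frattini quotient of `O₂` in a solvable group of order prime to three
-/

set_option autoImplicit false
set_option linter.all false

namespace CfsgLib.Known.ThreeNine

open Subgroup

universe u

variable {H : Type u} [Group H] [Finite H]

/-- The module `O₂(H) / Φ`, with the action of `H / O₂(H)`. -/
theorem exists_module (hs : Group.IsSolvable H) (hO : Cfsg.pPrimeCore 2 H = ⊥) (h3 : ¬ 3 ∣ Nat.card H) :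
    ∃ (M : Type u) (_ : CommGroup M) (Γ : Type u) (_ : Group Γ) (π : H →* Γ) (μ : Cfsg.pCore 2 H →* M)
      (ρ : Γ →* MulAut M), Finite M ∧ Finite Γ ∧ Group.IsSolvable Γ ∧ ¬ 3 ∣ Nat.card Γ ∧
      π.ker = Cfsg.pCore 2 H ∧ Function.Surjective π ∧ Function.Surjective μ ∧ Function.Injective ρ ∧
      (∀ m : M, m * m = 1) ∧ (∀ N : Subgroup Γ, N.Normal → IsPGroup 2 N → N = ⊥) ∧
      (∀ (g : H) (p p' : Cfsg.pCore 2 H), (p' : H) = g * p * g⁻¹ → μ p' = ρ (π g) (μ p)) := by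
  haveI : Fact (Nat.Prime 2) := ⟨Nat.prime_two⟩
  haveI := hs
  obtain ⟨Φ, hΦn, V, hVn, hcomap, hΦR, hab, hexp, hcen, hcore⟩ :=
    CfsgLib.PGroups.frattini_module (p := 2) (CfsgLib.Core.isPSolvable_of_isSolvable hs) hO
  letI : CommGroup V :=
    { (inferInstance : Group V) with mul_comm := fun x y => Subtype.ext (hab x x.2 y y.2) }
  let ψ := QuotientGroup.mk' Φ
  let π : H →* (H ⧸ Φ) ⧸ V := (QuotientGroup.mk' V).comp ψ
  have hmem : ∀ p : Cfsg.pCore 2 H, ψ p ∈ V := fun p =>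
    Subgroup.mem_comap.1 (hcomap.ge p.2)
  let μ : Cfsg.pCore 2 H →* V := (ψ.comp (Cfsg.pCore 2 H).subtype).codRestrict V hmem
  have hker : V ≤ (MulAut.conjNormal : H ⧸ Φ →* MulAut V).ker := by
    intro y hy
    refine MonoidHom.mem_ker.2 (MulEquiv.ext fun v => Subtype.ext ?_)
    rw [MulAut.conjNormal_apply, MulAut.one_apply, hab y hy v v.2, mul_inv_cancel_right]
  let ρ : (H ⧸ Φ) ⧸ V →* MulAut V := QuotientGroup.lift V MulAut.conjNormal hker
  have hπs : Function.Surjective π :=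
    (QuotientGroup.mk'_surjective V).comp (QuotientGroup.mk'_surjective Φ)
  refine ⟨V, inferInstance, (H ⧸ Φ) ⧸ V, inferInstance, π, μ, ρ, inferInstance, inferInstance,
    Group.isSolvable_of_surjective hπs, fun hd => h3 (hd.trans (card_dvd_of_surjective π hπs)), ?_, hπs,
    ?_, ?_, ?_, ?_, ?_⟩
  · rw [show π.ker = (QuotientGroup.mk' V).ker.comap ψ from rfl, QuotientGroup.ker_mk', hcomap]
  · rintro ⟨v, hv⟩
    obtain ⟨p, rfl⟩ := QuotientGroup.mk'_surjective Φ v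
    exact ⟨⟨p, hcomap.le (Subgroup.mem_comap.2 hv)⟩, rfl⟩
  · refine (injective_iff_map_eq_one ρ).2 fun y => ?_
    induction y using QuotientGroup.induction_on with
    | _ y =>
      intro hy
      refine (QuotientGroup.eq_one_iff y).2 (hcen (mem_centralizer_iff.2 fun v hv => ?_))
      have : ((MulAut.conjNormal y : MulAut V) ⟨v, hv⟩ : H ⧸ Φ) = v :=
        congrArg (fun e : MulAut V => ((e ⟨v, hv⟩ : V) : H ⧸ Φ)) hy
      rw [MulAut.conjNormal_apply] at this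
      exact (mul_inv_eq_iff_eq_mul.1 this).symm
  · intro v
    refine Subtype.ext ?_
    rw [Subgroup.coe_mul, Subgroup.coe_one, ← pow_two]
    exact hexp v v.2
  · intro N hN hN2
    exact le_bot_iff.1 (hcore ▸ CfsgLib.Core.le_pCore hN2)
  · intro g p p' e
    refine Subtype.ext ?_
    show ψ p' = ((MulAut.conjNormal (ψ g) : MulAut V) (μ p) : H ⧸ Φ)
    rw [MulAut.conjNormal_apply, e, map_mul, map_mul, map_inv]
    rfl

/-- The case where `O₂(H)` is nearly inside a subgroup with elementary abelian image. -/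
theorem isPGroup_of_moves (hs : Group.IsSolvable H) (hO : Cfsg.pPrimeCore 2 H = ⊥)
    (h3 : ¬ 3 ∣ Nat.card H) {n v c : H} (hn : n ∈ Cfsg.pCore 2 H) (hv : v ∈ Cfsg.pCore 2 H)
    (hc : c = n * v * n⁻¹ * v⁻¹) (hc1 : c ≠ 1) {W : Subgroup H}
    (hWP : ∀ p ∈ Cfsg.pCore 2 H, p ∈ W ∨ p * n ∈ W)
    (hW : ∀ w ∈ W, ∀ w' ∈ W, w * w' * w⁻¹ * w'⁻¹ = 1 ∨ w * w' * w⁻¹ * w'⁻¹ = c ∨
      w * w' * w⁻¹ * w'⁻¹ = v ∨ w * w' * w⁻¹ * w'⁻¹ = c * v)
    (hsq : ∀ w ∈ W, w * w ∈ Cfsg.pCore 2 H)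
    (hsize : Nat.card (Cfsg.pCore 2 H) ≤ 8 * (Cfsg.pCore 2 H).relIndex W) :
    IsPGroup 2 H := by
  classical
  haveI : Fact (Nat.Prime 2) := ⟨Nat.prime_two⟩
  set P0 := Cfsg.pCore 2 H with hP0
  obtain ⟨M, _, Γ, _, π, μ, ρ, _, _, hΓs, hΓ3, hπk, hπs, hμs, hρ, hM, hΓO, hact⟩ :=
    exists_module hs hO h3
  replace hπk : π.ker = P0 := hπk
  have hcP : c ∈ P0 := hc ▸ P0.mul_mem (P0.mul_mem (P0.mul_mem hn hv) (P0.inv_mem hn)) (P0.inv_mem hv)
  have hμc : μ ⟨c, hcP⟩ = 1 := by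
    have e : (⟨c, hcP⟩ : P0) = ⟨n, hn⟩ * ⟨v, hv⟩ * ⟨n, hn⟩⁻¹ * ⟨v, hv⟩⁻¹ := Subtype.ext hc
    rw [e, map_mul, map_mul, map_mul, map_inv, map_inv, mul_comm (μ ⟨n, hn⟩), mul_inv_cancel_right, mul_inv_cancel]
  have hMc : 2 * Nat.card M ≤ Nat.card P0 := by
    have h1 := card_mul_index μ.ker
    rw [index_ker, μ.range_eq_top.2 hμs, card_top] at h1
    rw [← h1]
    refine Nat.mul_le_mul_right _ ?_
    haveI : Nontrivial μ.ker :=
      ⟨⟨⟨⟨c, hcP⟩, MonoidHom.mem_ker.2 hμc⟩, 1, fun e => hc1 (congrArg (fun z : μ.ker => ((z : P0) : H)) e)⟩⟩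
    exact Finite.one_lt_card
  set T := W.map π with hT
  have hTc : Nat.card T = P0.relIndex W := by rw [← hπk, relIndex_ker]
  set y := μ ⟨v, hv⟩ with hy
  have hYc : Nat.card (zpowers y) ≤ 2 := by
    rw [Nat.card_zpowers]
    exact orderOf_le_of_pow_eq_one two_pos (by rw [pow_two]; exact hM y)
  have hmem : ∀ p : P0, ((p : H) = 1 ∨ (p : H) = c ∨ (p : H) = v ∨ (p : H) = c * v) → μ p ∈ zpowers y := by
    rintro p (e | e | e | e)
    · rw [show p = 1 from Subtype.ext e, map_one]; exact one_mem _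
    · rw [show p = ⟨c, hcP⟩ from Subtype.ext e, hμc]; exact one_mem _
    · rw [show p = ⟨v, hv⟩ from Subtype.ext e]; exact mem_zpowers _
    · rw [show p = ⟨c, hcP⟩ * ⟨v, hv⟩ from Subtype.ext e, map_mul, hμc, one_mul]; exact mem_zpowers _
  -- every element of `T` moves into `⟨y, [n, τ]⟩`
  have hmove : ∀ τ ∈ T, τ ∈ moves ρ (zpowers y ⊔ zpowers (delta ρ τ (μ ⟨n, hn⟩))) := by
    rintro _ ⟨w, hw, rfl⟩ m
    obtain ⟨p, rfl⟩ := hμs m
    have hkey : ∀ p : P0, (p : H) ∈ W → delta ρ (π w) (μ p) ∈ zpowers y := by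
      intro p hpW
      have hp' : w * (p : H) * w⁻¹ ∈ P0 := (inferInstance : P0.Normal).conj_mem _ p.2 w
      have hd : (p : H)⁻¹ * w * ((p : H)⁻¹)⁻¹ * w⁻¹ ∈ P0 := by
        have := P0.mul_mem (P0.inv_mem p.2) hp'
        rwa [show (p : H)⁻¹ * w * ((p : H)⁻¹)⁻¹ * w⁻¹ = (p : H)⁻¹ * (w * (p : H) * w⁻¹) by group]
      rw [delta_apply, ← hact w p ⟨_, hp'⟩ rfl, ← map_inv, ← map_mul]
      refine hmem _ ?_
      have := hW _ (W.inv_mem hpW) w hw
      rw [show (p : H)⁻¹ * w * ((p : H)⁻¹)⁻¹ * w⁻¹ = (p : H)⁻¹ * (w * (p : H) * w⁻¹) by group] at this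
      exact this
    rcases hWP p p.2 with hpW | hpW
    · exact mem_sup_left (hkey p hpW)
    · have e : μ p = μ (p * ⟨n, hn⟩) * μ ⟨n, hn⟩ := by rw [map_mul, mul_assoc, hM, mul_one]
      rw [e, map_mul]
      exact mul_mem (mem_sup_left (hkey _ hpW)) (mem_sup_right (mem_zpowers _))
  have hZc : ∀ τ, Nat.card (zpowers y ⊔ zpowers (delta ρ τ (μ ⟨n, hn⟩)) : Subgroup M) ≤ 4 := by
    intro τ
    set Y' := zpowers (delta ρ τ (μ ⟨n, hn⟩))
    have h2 : Nat.card Y' ≤ 2 := by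
      rw [Nat.card_zpowers]
      exact orderOf_le_of_pow_eq_one two_pos (by rw [pow_two]; exact hM _)
    calc Nat.card (zpowers y ⊔ Y' : Subgroup M) ≤ Nat.card (zpowers y) * Nat.card Y' := by
          refine (Nat.card_le_card_of_surjective (fun p : zpowers y × Y' =>
            (⟨(p.1 : M) * p.2, mul_mem (mem_sup_left p.1.2) (mem_sup_right p.2.2)⟩ : (zpowers y ⊔ Y' : Subgroup M))) ?_).trans_eq
            (Nat.card_prod _ _)
          rintro ⟨z, hz⟩
          obtain ⟨a, ha, a', ha', rfl⟩ := mem_sup.1 hz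
          exact ⟨(⟨a, ha⟩, ⟨a', ha'⟩), rfl⟩
      _ ≤ 2 * 2 := Nat.mul_le_mul hYc h2
      _ = 4 := rfl
  have hTel : Cfsg.IsElementaryAbelian 2 T := by
    have hA : ∀ a : H, a = 1 ∨ a = c ∨ a = v ∨ a = c * v → π a = 1 := by
      rintro a (rfl | rfl | rfl | rfl) <;> rw [← MonoidHom.mem_ker, hπk]
      exacts [P0.one_mem, hcP, hv, P0.mul_mem hcP hv]
    refine ⟨⟨⟨fun s t => ?_⟩⟩, ?_⟩
    · obtain ⟨w, hw, ew⟩ := s.2
      obtain ⟨w', hw', ew'⟩ := t.2
      refine Subtype.ext ?_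
      rw [Subgroup.coe_mul, Subgroup.coe_mul, ← ew, ← ew']
      have := hA _ (hW w hw w' hw')
      rw [map_mul, map_mul, map_mul, map_inv, map_inv, mul_inv_eq_one, mul_inv_eq_iff_eq_mul] at this
      exact this
    · rintro _ ⟨w, hw, rfl⟩
      rw [pow_two, ← map_mul, ← MonoidHom.mem_ker, hπk]
      exact hsq w hw
  obtain ⟨d, hd⟩ : ∃ d : ℕ, Nat.card T = 2 ^ d :=
    (show IsPGroup 2 T from fun x => ⟨1, Subtype.ext (by simpa using hTel.2 x x.2)⟩).exists_card_eq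
  rcases Nat.lt_or_ge d 1 with hd0 | hd1
  · -- the image is trivial
    have hM4 : Nat.card M ≤ 4 := by
      have : P0.relIndex W = 1 := by rw [← hTc, hd, Nat.lt_one_iff.1 hd0, pow_zero]
      rw [this] at hsize
      omega
    have hΓ2 : IsPGroup 2 Γ := by
      refine IsPGroup.of_card (n := (Nat.card Γ).primeFactorsList.length)
        (Nat.eq_prime_pow_of_unique_prime_dvd Nat.card_pos.ne' fun {r} hr hrd => ?_)
      by_contra hne
      haveI := Fact.mk hr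
      obtain ⟨w, hw⟩ := exists_prime_orderOf_dvd_card' (G := Γ) r hrd
      have h5 := five_le_of_dvd hΓ3 hr hne hrd
      have hfix := fix_of_small ρ hr (w := w) (by rw [← hw]; exact pow_orderOf_eq_one w)
        (Z := (⊤ : Subgroup M)) (fun z _ => mem_top _) (by rw [card_top]; omega)
      have : w = 1 := hρ (by rw [map_one]; exact MulEquiv.ext fun m => hfix m (mem_top m))
      rw [this, orderOf_one] at hw
      exact hr.ne_one hw.symm
    have htop := hΓO ⊤ inferInstance (hΓ2.to_subgroup ⊤)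
    have hker : π.ker = ⊤ := by
      ext x
      refine ⟨fun _ => mem_top x, fun _ => MonoidHom.mem_ker.2 (mem_bot.1 (htop.le (mem_top (π x))))⟩
    exact fun x => by
      obtain ⟨i, hi⟩ := CfsgLib.Core.isPGroup_pCore 2 H (⟨x, hπk.le (hker.ge (mem_top x))⟩ : P0)
      exact ⟨i, congrArg Subtype.val hi⟩
  exfalso
  have hex : ∃ τ ∈ T, τ ≠ 1 := by
    refine (T.bot_or_exists_ne_one).resolve_left fun e => ?_
    rw [e, card_bot] at hd
    exact (Nat.one_lt_two_pow (by omega : d ≠ 0)).ne hd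
  obtain ⟨τ, hτ, hτ1⟩ := hex
  have hτ2 : IsPGroup 2 (zpowers τ) := by
    refine IsPGroup.of_card (n := 1) ?_
    rw [Nat.card_zpowers, pow_one]
    exact orderOf_eq_prime (hTel.2 τ hτ) hτ1
  by_cases hy1 : y = 1
  · refine hτ1 (eq_one_of_moves_two ρ hρ hΓ3 hΓO hM hτ2 ?_ (hmove τ hτ))
    rw [hy1, zpowers_one_eq_bot, bot_sup_eq, Nat.card_zpowers]
    exact orderOf_le_of_pow_eq_one two_pos (by rw [pow_two]; exact hM _)
  rcases Nat.lt_or_ge d 2 with hd2 | hd2
  · -- an involution on a module of order at most eight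
    have hM8 : Nat.card M ≤ 8 := by
      have : P0.relIndex W = 2 := by rw [← hTc, hd, show d = 1 by omega, pow_one]
      rw [this] at hsize
      omega
    set D := delta ρ τ with hD
    let Df : M →* M := MonoidHom.mk' D fun m m' => map_mul D m m'
    have hle : Df.range ≤ Df.ker := by
      rintro _ ⟨m, rfl⟩
      refine MonoidHom.mem_ker.2 ?_
      show delta ρ τ (delta ρ τ m) = 1
      have e : ρ τ (ρ τ m) = m := by
        rw [← MulAut.mul_apply, ← map_mul, ← pow_two, hTel.2 τ hτ, map_one, MulAut.one_apply]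
      simp only [delta_apply, map_mul, map_inv, e, mul_inv_rev, inv_inv]
      rw [mul_comm ((ρ τ) m)⁻¹ m, ← mul_assoc]
      have h2 : ∀ z : M, z⁻¹ = z := fun z => inv_eq_of_mul_eq_one_right (hM z)
      rw [h2 (ρ τ m), mul_assoc]
      exact hM _
    have h1 := card_mul_index Df.ker
    rw [index_ker] at h1
    have h2 := card_le_of_le hle
    have hr : Nat.card Df.range ≤ 2 := by
      obtain ⟨i, hi⟩ := (show IsPGroup 2 Df.range from fun x => ⟨1, Subtype.ext (by simp [pow_two, hM])⟩).exists_card_eq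
      have h3 : Nat.card Df.range * Nat.card Df.range ≤ 8 := by
        refine le_trans (le_trans (Nat.mul_le_mul_right _ h2) h1.le) hM8
      rw [hi] at h3 ⊢
      rcases Nat.lt_or_ge i 2 with hi2 | hi2
      · calc 2 ^ i ≤ 2 ^ 1 := Nat.pow_le_pow_right (by norm_num) (by omega)
          _ = 2 := pow_one 2
      · exfalso
        have := Nat.pow_le_pow_right (show 0 < 2 by norm_num) hi2
        have := Nat.mul_le_mul this this
        omega
    exact hτ1 (eq_one_of_moves_two ρ hρ hΓ3 hΓO hM hτ2 hr fun m => ⟨m, rfl⟩)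
  · exact no_four_moves ρ hρ hΓ3 hΓs hΓO hM hTel hd2 hd hy1 fun t ht =>
      ⟨_, mem_sup_left (mem_zpowers y), hZc t, hmove t ht⟩

end CfsgLib.Known.ThreeNine
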