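import Cfsg.Agent.Lib.Known.ThreeNine.Two
import Cfsg.Agent.Lib.Known.ThreeNine.InvolModule

/-!
# Involutions with trivial core have centralisers which are 2-groups
-/

set_option autoImplicit false
set_option linter.all false

namespace CfsgLib.Known.ThreeNine

open Subgroup

universe u

theorem alt_five_five : ∀ y : alternatingGroup (Fin 5), y * y * y * y * y = 1 → y ≠ 1 →
    ∃ s : alternatingGroup (Fin 5), s * s * s = 1 ∧ s ≠ 1 ∧ s * y * (s * y) * (s * y) = 1 ∧ s * y ≠ 1 ∧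
      y * y * (s * s * y * s) * (y * y * (s * s * y * s)) * (y * y * (s * s * y * s)) = 1 ∧
      y * y * (s * s * y * s) ≠ 1 := by
  decide +kernel

theorem alt_five_commute : ∀ x y : alternatingGroup (Fin 5), x * x = 1 → x ≠ 1 →
    y * y * y * y * y = 1 → y ≠ 1 → x * y ≠ y * x := by
  decide +kernel

variable {G : Type u} [Group G] [Finite G] {R : Sylow 3 G} {q a b : ℕ} {k : G} {U : Subgroup G}

theorem Data.isPGroup_two_of_no_q (h : Data R q a b) {H : Subgroup G} (h3 : ¬ 3 ∣ Nat.card H)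
    (hq : ¬ q ∣ Nat.card H) : IsPGroup 2 H :=
  IsPGroup.of_card (n := (Nat.card H).primeFactorsList.length)
    (Nat.eq_prime_pow_of_unique_prime_dvd Nat.card_pos.ne' fun {r} hr hrd =>
      (h.primes (card_subgroup_dvd_card H) h3 hr hrd).resolve_right fun e => hq (e ▸ hrd))

/-- An involution centraliser normalising a nontrivial invariant 2-subgroup is a 2-group. -/
theorem One.isPGroup_of_le_normalizer (h : One R q a b) [IsSimpleGroup G] (hk : orderOf k = 3)
    {X : Subgroup G} (hX : Inv k X) (hX2 : IsPGroup 2 X) (hX1 : X ≠ ⊥) {x : G} (hx : x * x = 1)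
    (hx1 : x ≠ 1) (hH : centralizer ({x} : Set G) ≤ normalizer (X : Set G)) :
    IsPGroup 2 (centralizer ({x} : Set G)) := by
  classical
  haveI : Fact (Nat.Prime 2) := ⟨Nat.prime_two⟩
  haveI := Fact.mk h.prime
  set H := centralizer ({x} : Set G)
  have h3 : ¬ 3 ∣ Nat.card H := h.not_three_dvd_centralizer hx1
    (by rw [orderOf_eq_prime (p := 2) (by rw [pow_two]; exact hx) hx1]; norm_num)
  set L := normalizer (X : Set G) with hL
  obtain ⟨N, hN, hXN, hNL, hLN, hcase⟩ :=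
    h.structure_three hk hX.norm hX1 hX le_normalizer le_rfl
  have hN2 : IsPGroup 2 N := (h.isPGroup_inv hk hN).resolve_right fun hq =>
    hX1 (h.toData.not_isPGroup_both hX2 (hq.to_le hXN))
  refine h.toData.isPGroup_two_of_no_q h3 fun hq => ?_
  obtain ⟨y, hy⟩ := exists_prime_orderOf_dvd_card' q hq
  rw [← Subgroup.orderOf_coe] at hy
  have hyN : (y : G) ∉ N := fun hyN => by
    obtain ⟨i, hi⟩ := hN2.exists_card_eq
    have := hi ▸ hy ▸ Subgroup.orderOf_dvd_natCard N hyN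
    exact h.ne_two ((Nat.prime_dvd_prime_iff_eq h.prime Nat.prime_two).1 (h.prime.dvd_of_dvd_pow this))
  have hsmall : Nat.card (normalizer (X : Set G)) = 3 * Nat.card N ∨
      Nat.card (normalizer (X : Set G)) = 6 * Nat.card N → False := fun hc => by
    obtain ⟨i, hi⟩ := hN2.exists_card_eq
    have h1 : q ∣ 6 * 2 ^ i := by
      have := hq.trans (card_dvd_of_le hH)
      rcases hc with e | e <;> rw [e, hi] at this
      · exact this.trans ⟨2, by ring⟩
      · exact this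
    rcases h.prime.dvd_mul.1 h1 with h6 | h2
    · rcases h.prime.dvd_mul.1 (show q ∣ 2 * 3 from h6) with h' | h'
      · exact h.ne_two ((Nat.prime_dvd_prime_iff_eq h.prime Nat.prime_two).1 h')
      · exact h.ne_three ((Nat.prime_dvd_prime_iff_eq h.prime Nat.prime_three).1 h')
    · exact h.ne_two ((Nat.prime_dvd_prime_iff_eq h.prime Nat.prime_two).1 (h.prime.dvd_of_dvd_pow h2))
  rcases hcase with e | e | ⟨hNel, -, f, hf, hker⟩
  · exact hsmall (Or.inl e)
  · exact hsmall (Or.inr e)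
  have hfN : ∀ l : L, f l = 1 ↔ (l : G) ∈ N := fun l => by
    rw [← MonoidHom.mem_ker, hker]; exact mem_subgroupOf
  set yL : L := ⟨y, hH y.2⟩ with hyL
  set xL : L := ⟨x, hH (mem_centralizer_singleton_iff.2 rfl)⟩ with hxL
  have hy1 : f yL ≠ 1 := fun e => hyN ((hfN yL).1 e)
  have hq5 : q = 5 := by
    have h1 : orderOf (f yL) ∣ q := by
      rw [← hy, hyL]
      exact (orderOf_map_dvd f yL).trans (by rw [← Subgroup.orderOf_coe])
    have h2 : orderOf (f yL) = q :=
      ((Nat.dvd_prime h.prime).1 h1).resolve_left fun e => hy1 (orderOf_eq_one_iff.1 e)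
    have h60 : q ∣ 60 := by
      rw [← h2]
      have := orderOf_dvd_natCard (f yL)
      rwa [nat_card_alternatingGroup, Nat.card_fin, show (Nat.factorial 5 / 2 : ℕ) = 60 from rfl] at this
    have h5 := h.five_le
    rcases h.prime.dvd_mul.1 (show q ∣ 12 * 5 from h60) with h' | h'
    · exfalso
      have := Nat.le_of_dvd (by norm_num) h'
      interval_cases q <;> first | (have hp := h.prime; norm_num at hp; done) | (norm_num at h')
    · exact (Nat.prime_dvd_prime_iff_eq h.prime Nat.prime_five).1 h'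
  have hy5 : f yL * f yL * f yL * f yL * f yL = 1 := by
    rw [← map_mul, ← map_mul, ← map_mul, ← map_mul]
    have : yL * yL * yL * yL * yL = 1 := Subtype.ext (by
      show (y : G) * y * y * y * y = 1
      have e := pow_orderOf_eq_one (y : G)
      rw [hy, hq5] at e
      simpa [pow_succ] using e)
    rw [this, map_one]
  have hxy : x * (y : G) = y * x := (mem_centralizer_singleton_iff.1 y.2).symm
  have hxN : x ∈ N := by
    by_contra hxN
    refine alt_five_commute (f xL) (f yL) ?_ (fun e => hxN ((hfN xL).1 e)) hy5 hy1 ?_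
    · rw [← map_mul, show xL * xL = 1 from Subtype.ext hx, map_one]
    · rw [← map_mul, ← map_mul, show xL * yL = yL * xL from Subtype.ext hxy]
  -- the action on `N` depends only on the image
  have hact : ∀ l l' : L, f l = f l' → ∀ v ∈ N, (l : G) * v * (l : G)⁻¹ = (l' : G) * v * (l' : G)⁻¹ := by
    intro l l' e v hv
    have hm : ((l : G))⁻¹ * l' ∈ N := (hfN (l⁻¹ * l')).1 (by rw [map_mul, map_inv, e, inv_mul_cancel])
    have hc := congrArg Subtype.val (hNel.1.is_comm.comm (⟨_, hm⟩ : N) ⟨v, hv⟩)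
    simp only [Subgroup.coe_mul] at hc
    calc (l : G) * v * (l : G)⁻¹ = l * ((l : G)⁻¹ * l' * v * ((l : G)⁻¹ * l')⁻¹) * (l : G)⁻¹ := by
          rw [hc]; group
      _ = _ := by group
  -- lifting elements of order three
  have hlift : ∀ s : alternatingGroup (Fin 5), s * s * s = 1 → s ≠ 1 →
      ∃ g : L, f g = s ∧ orderOf (g : G) = 3 ∧ Inv (g : G) N := by
    intro s hs hs1
    obtain ⟨g0, hg0⟩ := hf s
    have h3N : g0 * g0 * g0 ∈ N.subgroupOf L := by
      rw [← hker, MonoidHom.mem_ker, map_mul, map_mul, hg0]; exact hs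
    have h6 : g0 ^ 6 = 1 := Subtype.ext (by
      have := hNel.2 _ (mem_subgroupOf.1 h3N)
      simp only [Subgroup.coe_mul] at this
      simp only [SubmonoidClass.coe_pow, OneMemClass.coe_one]
      rw [← this, pow_two]; simp only [pow_succ, pow_zero, one_mul, mul_assoc])
    refine ⟨g0 ^ 4, ?_, ?_, hLN (g0 ^ 4).2, hN.prime_three⟩
    · rw [map_pow, hg0, show s ^ 4 = s * s * s * s by simp only [pow_succ, pow_zero, one_mul], hs, one_mul]
    · haveI : Fact (Nat.Prime 3) := ⟨Nat.prime_three⟩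
      rw [Subgroup.orderOf_coe]
      refine orderOf_eq_prime ?_ fun e => hs1 ?_
      · rw [← pow_mul, show 4 * 3 = 6 * 2 by norm_num, pow_mul, h6, one_pow]
      · have := congrArg f e
        rwa [map_pow, hg0, map_one, show s ^ 4 = s * s * s * s by simp only [pow_succ, pow_zero, one_mul], hs, one_mul] at this
  obtain ⟨s, hs, hs1, hsy, hsy1, hw, hw1⟩ := alt_five_five (f yL) hy5 hy1
  obtain ⟨S, hSs, hSo, hSi⟩ := hlift s hs hs1
  obtain ⟨T, hTs, hTo, hTi⟩ := hlift (s * f yL) hsy hsy1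
  obtain ⟨Ω, hΩs, hΩo, hΩi⟩ := hlift _ hw hw1
  set a' := (S : G) * x * (S : G)⁻¹ with ha
  have haN : a' ∈ N := hSi.conj_mem hxN
  have hT : ∀ v ∈ N, (T : G) * v * (T : G)⁻¹ = (S : G) * ((y : G) * v * (y : G)⁻¹) * (S : G)⁻¹ := by
    intro v hv
    rw [hact T (S * yL) (by rw [hTs, map_mul, hSs]) v hv]
    show (S : G) * (y : G) * v * ((S : G) * (y : G))⁻¹ = _
    group
  have hyx : (y : G) * x * (y : G)⁻¹ = x := by rw [← hxy, mul_inv_cancel_right]
  have e1 := hSi.orbit_prod h.toData hSo hxN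
  have e2 := hTi.orbit_prod h.toData hTo hxN
  rw [hT x hxN, hyx, ← ha, hT a' haN] at e2
  rw [← ha] at e1
  have hya : (y : G) * a' * (y : G)⁻¹ = a' :=
    conj_injective (x := (S : G)) (mul_left_cancel (e2.trans e1.symm))
  refine hx1 (hΩi.fpf h.toData hΩo hxN ?_)
  rw [hact Ω (yL * yL * (S * S * yL * S)) (by rw [hΩs]; simp only [map_mul, hSs]) x hxN]
  show (y : G) * y * ((S : G) * S * y * S) * x * ((y : G) * y * ((S : G) * S * y * S))⁻¹ = x
  calc (y : G) * y * ((S : G) * S * y * S) * x * ((y : G) * y * ((S : G) * S * y * S))⁻¹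
      = (y : G) * ((y : G) * ((S : G) * S * ((y : G) * a' * (y : G)⁻¹) * ((S : G) * S)⁻¹) * (y : G)⁻¹) *
          (y : G)⁻¹ := by rw [ha]; group
    _ = x := by
        rw [hya, ← inv_eq_sq hSo, ha,
          show (S : G)⁻¹ * ((S : G) * x * (S : G)⁻¹) * ((S : G)⁻¹)⁻¹ = x by group, hyx, hyx]

/-- An element moving `O₂(H)` into a central subgroup of order two lies in `O₂(H)`. -/
theorem mem_pCore_of_moves {H : Type u} [Group H] [Finite H] (hs : Group.IsSolvable H)
    (hO : Cfsg.pPrimeCore 2 H = ⊥) (h3 : ¬ 3 ∣ Nat.card H) {v c : H} (hv : IsPGroup 2 (zpowers v))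
    (hc : c ∈ Cfsg.pCore 2 H)
    (hm : ∀ p ∈ Cfsg.pCore 2 H, p⁻¹ * (v * p * v⁻¹) = 1 ∨ p⁻¹ * (v * p * v⁻¹) = c) :
    v ∈ Cfsg.pCore 2 H := by
  set P0 := Cfsg.pCore 2 H with hP0
  obtain ⟨M, _, Γ, _, π, μ, ρ, _, _, hΓs, hΓ3, hπk, hπs, hμs, hρ, hM, hΓO, hact⟩ :=
    exists_module hs hO h3
  replace hπk : π.ker = P0 := hπk
  rw [← hπk, MonoidHom.mem_ker]
  refine eq_one_of_moves_two ρ hρ hΓ3 hΓO hM ?_ (Y := zpowers (μ ⟨c, hc⟩)) ?_ ?_
  · rw [← MonoidHom.map_zpowers]; exact hv.map _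
  · rw [Nat.card_zpowers]
    exact orderOf_le_of_pow_eq_one two_pos (by rw [pow_two]; exact hM _)
  · intro m
    obtain ⟨p, rfl⟩ := hμs m
    have hp' : v * (p : H) * v⁻¹ ∈ P0 := (inferInstance : P0.Normal).conj_mem _ p.2 v
    rw [delta_apply, ← hact v p ⟨_, hp'⟩ rfl, ← map_inv, ← map_mul]
    rcases hm p p.2 with e | e
    · rw [show p⁻¹ * ⟨_, hp'⟩ = (1 : P0) from Subtype.ext e, map_one]; exact one_mem _
    · rw [show p⁻¹ * ⟨_, hp'⟩ = (⟨c, hc⟩ : P0) from Subtype.ext e]; exact mem_zpowers _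

theorem relIndex_sup_normalizer {A B : Subgroup G} (h : B ≤ normalizer (A : Set G)) :
    A.relIndex (B ⊔ A) = A.relIndex B := by
  have e1 := relIndex_subgroupOf (H := A) (K := B ⊔ A) (L := normalizer (A : Set G)) (sup_le h le_normalizer)
  have e2 := relIndex_subgroupOf (H := A) (K := B) (L := normalizer (A : Set G)) h
  rw [← e1, ← e2, subgroupOf_sup h le_normalizer]
  exact relIndex_sup_right ..

namespace Big

variable {S : Sylow 2 G}

theorem mul_mem_of_notMem (hB : Big k U S) {p n : G} (hp : p ∈ (S : Subgroup G)) (hn : n ∈ (S : Subgroup G))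
    (hpU : p ∉ U) (hnU : n ∉ U) : p * n ∈ U := by
  have h1 := card_mul_index (U.subgroupOf (S : Subgroup G))
  rw [Nat.card_congr (subgroupOfEquivOfLe hB.le).toEquiv] at h1
  obtain ⟨c, hc⟩ := hB.card_le_two
  have h2 : U.relIndex (S : Subgroup G) ∣ 2 := ⟨c, Nat.eq_of_mul_eq_mul_left (Nat.card_pos (α := U)) (by
    rw [← mul_assoc]
    show _ = Nat.card U * (U.subgroupOf (S : Subgroup G)).index * c
    rw [h1, mul_comm (Nat.card U), hc])⟩
  rcases (Nat.dvd_prime Nat.prime_two).1 h2 with e | e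
  · exact absurd (relIndex_eq_one.1 e hp) hpU
  · exact mem_subgroupOf.1 ((mul_mem_iff_of_index_two e (a := (⟨p, hp⟩ : (S : Subgroup G))) (b := ⟨n, hn⟩)).2
      ⟨fun hh => absurd (mem_subgroupOf.1 hh) hpU, fun hh => absurd (mem_subgroupOf.1 hh) hnU⟩)

/-- An extremal involution with trivial core has a centraliser which is a 2-group. -/
theorem isPGroup_centralizer (hB : Big k U S) (h : One R q a b) [IsSimpleGroup G] {x : G} (hxU : x ∈ U)
    (hx : x * x = 1) (hx1 : x ≠ 1)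
    (hmax : ∀ Y : Subgroup G, IsPGroup 2 Y → Y ≤ centralizer ({x} : Set G) →
      Nat.card Y ≤ Nat.card ((S : Subgroup G) ⊓ centralizer {x} : Subgroup G))
    (hcore : Cfsg.centralizerPPrimeCore 2 x = ⊥) : IsPGroup 2 (centralizer ({x} : Set G)) := by
  classical
  haveI : Fact (Nat.Prime 2) := ⟨Nat.prime_two⟩
  obtain ⟨V, c, hV, hV4, hVU, hcV, hc1, hVe, hcS, hCV, hNV, hVmem⟩ := hB.exists_four h
  have hUS := hB.le
  set H := centralizer ({x} : Set G) with hH
  have h3 : ¬ 3 ∣ Nat.card H := h.not_three_dvd_centralizer hx1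
    (by rw [orderOf_eq_prime (p := 2) (by rw [pow_two]; exact hx) hx1]; norm_num)
  have hsol := h.toData.isSolvable_local h3
  have hO : Cfsg.pPrimeCore 2 H = ⊥ := (map_eq_bot_iff_of_injective _ H.subtype_injective).1 hcore
  set P0 := (Cfsg.pCore 2 H).map H.subtype with hP0
  have hP0H : P0 ≤ H := map_subtype_le _
  have hP0n : ∀ g ∈ H, ∀ p ∈ P0, g * p * g⁻¹ ∈ P0 := by
    rintro g hg _ ⟨p, hp, rfl⟩
    exact ⟨⟨g, hg⟩ * p * ⟨g, hg⟩⁻¹, (inferInstance : (Cfsg.pCore 2 H).Normal).conj_mem _ hp _, rfl⟩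
  have hmemP0 : ∀ {g : H}, (g : G) ∈ P0 → g ∈ Cfsg.pCore 2 H := by
    rintro g ⟨p, hp, e⟩
    rwa [← Subtype.ext (a1 := p) (a2 := g) e]
  have hP02 : IsPGroup 2 P0 := (CfsgLib.Core.isPGroup_pCore 2 H).map _
  set P := (S : Subgroup G) ⊓ H with hP
  have hP0S : P0 ≤ (S : Subgroup G) := by
    have hn : P ≤ normalizer (P0 : Set G) := fun g hg => by
      refine mem_normalizer_iff_map_conj_eq.2 (eq_of_le_of_card_ge ?_
        (card_map_of_injective (MulAut.conj g).injective).ge)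
      rintro _ ⟨p, hp, rfl⟩
      exact hP0n g hg.2 p hp
    have h1 := hmax (P ⊔ P0) ((S.isPGroup'.to_le inf_le_left).to_sup_of_normal_right' hP02 hn)
      (sup_le inf_le_right hP0H)
    exact (le_sup_right.trans (eq_of_le_of_card_ge le_sup_left h1).ge).trans inf_le_left
  have hUC : ∀ u ∈ U, ∀ v ∈ V, v * u = u * v := fun u hu v hv => by
    rw [← hCV] at hu; exact mem_centralizer_iff.1 hu v hv
  have hVH : V ≤ H := fun v hv => mem_centralizer_singleton_iff.2 (hUC x hxU v hv)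
  set v' := k * c * k⁻¹ with hv'
  have hv'V : v' ∈ V := hV.conj_mem hcV
  have hcv : c ≠ v' := fun e => hc1 (hV.fpf h.toData hB.order hcV e.symm)
  have hPV : ∀ p ∈ (S : Subgroup G), ∀ v ∈ V, p * v * p⁻¹ * v⁻¹ = 1 ∨ p * v * p⁻¹ * v⁻¹ = c := by
    intro p hp
    have hmain : p * v' * p⁻¹ = v' ∨ p * v' * p⁻¹ = c * v' := by
      rcases hVmem _ ((mem_normalizer_iff.1 (hNV (hB.norm hp)) v').1 hv'V) with e | e | e | e
      · exact absurd (conj_eq_one_iff.1 e) fun e' => hc1 (conj_eq_one_iff.1 e')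
      · exact absurd (conj_injective (x := p) (e.trans (hcS p hp).symm)).symm hcv
      · exact Or.inl e
      · exact Or.inr e
    intro v hv
    rcases hVmem v hv with rfl | rfl | rfl | rfl
    · left; group
    · left; rw [hcS p hp, mul_inv_cancel]
    · rcases hmain with e | e <;> rw [e]
      · left; exact mul_inv_cancel _
      · right; exact mul_inv_cancel_right _ _
    · rw [show p * (c * v') * p⁻¹ = (p * c * p⁻¹) * (p * v' * p⁻¹) by group, hcS p hp]
      rcases hmain with e | e <;> rw [e]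
      · left; exact mul_inv_cancel _
      · right
        rw [mul_inv_rev]
        calc c * (c * v') * (v'⁻¹ * c⁻¹) = c * (c * c⁻¹) := by group
          _ = c := by rw [mul_inv_cancel, mul_one]
  -- `V ≤ O₂(H)`
  have hcP0 : c ∈ P0 := by
    have hc' : (⟨c, hVH hcV⟩ : H) ∈ Cfsg.pCore 2 H := by
      refine CfsgLib.PLocal.centralizer_pCore_le (CfsgLib.Core.isPSolvable_of_isSolvable hsol) hO
        (mem_centralizer_iff.2 fun p hp => Subtype.ext ?_)
      exact mul_inv_eq_iff_eq_mul.1 (hcS p (hP0S ⟨p, hp, rfl⟩))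
    exact ⟨_, hc', rfl⟩
  have hVP0 : V ≤ P0 := by
    intro v hv
    have hv2 : IsPGroup 2 (zpowers (⟨v, hVH hv⟩ : H)) := by
      intro z
      obtain ⟨i, hi⟩ := mem_zpowers_iff.1 z.2
      refine ⟨1, Subtype.ext ?_⟩
      rw [SubmonoidClass.coe_pow, ← hi, pow_one, ← zpow_natCast, ← zpow_mul, mul_comm, zpow_mul, zpow_natCast,
        show (⟨v, hVH hv⟩ : H) ^ 2 = 1 from Subtype.ext (by rw [SubmonoidClass.coe_pow, pow_two]; exact hVe v hv),
        one_zpow]
      rfl
    refine ⟨_, mem_pCore_of_moves hsol hO h3 hv2 (hmemP0 (g := ⟨c, hVH hcV⟩) hcP0) (fun p hp => ?_), rfl⟩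
    have hp' : ((p : G))⁻¹ ∈ (S : Subgroup G) := (S : Subgroup G).inv_mem (hP0S ⟨p, hp, rfl⟩)
    rcases hPV _ hp' v hv with e | e
    · left; refine Subtype.ext ?_
      show (p : G)⁻¹ * (v * p * v⁻¹) = 1
      rw [← e]; group
    · right; refine Subtype.ext ?_
      show (p : G)⁻¹ * (v * p * v⁻¹) = c
      rw [← e]; group
  by_cases hall : ∀ g ∈ H, ∀ v ∈ V, g * v * g⁻¹ ∈ U
  · -- all conjugates of `V` lie in `U`
    set B : Set G := {w | ∃ g ∈ H, ∃ v ∈ V, w = g * v * g⁻¹} ∪ {x}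
    set X := U ⊓ centralizer B with hX
    have hXi : Inv k X := hB.max.1.centralizer h.toData hB.order (by
      rintro w (⟨g, hg, v, hv, rfl⟩ | rfl)
      exacts [hall g hg v hv, hxU])
    have hxX : x ∈ X := ⟨hxU, mem_centralizer_iff.2 (by
      rintro w (⟨g, hg, v, hv, rfl⟩ | rfl)
      · exact mem_centralizer_singleton_iff.1 (H.mul_mem (H.mul_mem hg (hVH hv)) (H.inv_mem hg))
      · rfl)⟩
    refine h.isPGroup_of_le_normalizer hB.order hXi (hB.two.to_le inf_le_left)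
      (fun e => hx1 (mem_bot.1 (e ▸ hxX))) hx hx1 fun g hg => ?_
    refine mem_normalizer_iff_map_conj_eq.2 (eq_of_le_of_card_ge ?_
      (card_map_of_injective (MulAut.conj g).injective).ge)
    rintro _ ⟨y, ⟨-, hy⟩, rfl⟩
    show g * y * g⁻¹ ∈ X
    have hB' : g * y * g⁻¹ ∈ centralizer B := mem_centralizer_iff.2 (by
      have key : ∀ w, g⁻¹ * w * g ∈ B → w * (g * y * g⁻¹) = g * y * g⁻¹ * w := by
        intro w hw
        calc w * (g * y * g⁻¹) = g * ((g⁻¹ * w * g) * y) * g⁻¹ := by group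
          _ = _ := by rw [mem_centralizer_iff.1 hy _ hw]; group
      rintro w (⟨g', hg', v, hv, rfl⟩ | e)
      · exact key _ (Or.inl ⟨g⁻¹ * g', H.mul_mem (H.inv_mem hg) hg', v, hv, by group⟩)
      · refine key w (Or.inr ?_)
        have e' : w = x := e
        show g⁻¹ * w * g = x
        rw [e', mul_assoc, ← mem_centralizer_singleton_iff.1 hg, inv_mul_cancel_left])
    refine ⟨?_, hB'⟩
    rw [← hCV]
    exact mem_centralizer_iff.2 fun v hv => mem_centralizer_iff.1 hB' v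
      (Or.inl ⟨1, H.one_mem, v, hv, by group⟩)
  -- a conjugate of `V` outside `U`
  push Not at hall
  obtain ⟨g, hg, v, hv, hnU⟩ := hall
  set n := g * v * g⁻¹ with hn
  have hnP0 : n ∈ P0 := hP0n g hg v (hVP0 hv)
  have hnS := hP0S hnP0
  have hnH := hP0H hnP0
  have hn2 : n * n = 1 := by
    rw [hn]; calc g * v * g⁻¹ * (g * v * g⁻¹) = g * (v * v) * g⁻¹ := by group
      _ = 1 := by rw [hVe v hv]; group
  obtain ⟨k', hk', hk'U, hinv⟩ := hB.exists_inverted h hnS hnU hn2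
  have hk'V : Inv k' V := ⟨hNV hk'U.norm, hV.prime_three⟩
  set w' := k' * c * k'⁻¹ with hw'
  have hw'V : w' ∈ V := hk'V.conj_mem hcV
  have hw'1 : w' ≠ 1 := fun e => hc1 (conj_eq_one_iff.1 e)
  have hcw : c ≠ w' := fun e => hc1 (hk'V.fpf h.toData hk' hcV e.symm)
  have hcc : c * c = 1 := hVe c hcV
  have hww : w' * w' = 1 := hVe w' hw'V
  have hcwc : c * w' = w' * c := hUC w' (hVU hw'V) c hcV
  have hnw : n * w' * n⁻¹ = c * w' := by
    rw [hw', conj_inverted hinv, hcS n hnS]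
    have e := eq_inv_of_mul_eq_one_right (hk'V.orbit_prod h.toData hk' hcV)
    rw [← conj_inv_eq hk'] at e
    rw [e, mul_inv_rev, inv_eq_of_mul_eq_one_right hcc, inv_eq_of_mul_eq_one_right hww]
    exact hcwc.symm
  have hnP : ∀ p ∈ P0, p * n * p⁻¹ = n ∨ p * n * p⁻¹ = c * n := by
    have h1 : ∀ p ∈ P0, p * n * p⁻¹ * n⁻¹ = 1 ∨ p * n * p⁻¹ * n⁻¹ = g * c * g⁻¹ := by
      intro p hp
      have hp' : g⁻¹ * p * g ∈ (S : Subgroup G) := hP0S (by
        simpa [inv_inv] using hP0n g⁻¹ (H.inv_mem hg) p hp)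
      have e : p * n * p⁻¹ * n⁻¹ = g * ((g⁻¹ * p * g) * v * (g⁻¹ * p * g)⁻¹ * v⁻¹) * g⁻¹ := by
        rw [hn]; group
      rcases hPV _ hp' v hv with e' | e' <;> rw [e, e']
      · left; group
      · right; rfl
    have hz : g * c * g⁻¹ = c := by
      have e : w' * n * w'⁻¹ * n⁻¹ = c := by
        calc w' * n * w'⁻¹ * n⁻¹ = w' * (n * w' * n⁻¹)⁻¹ := by group
          _ = w' * (w'⁻¹ * c⁻¹) := by rw [hnw, mul_inv_rev]
          _ = c := by rw [mul_inv_cancel_left, inv_eq_of_mul_eq_one_right hcc]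
      rcases h1 w' (hVP0 hw'V) with e' | e'
      · exact absurd (e.symm.trans e') hc1
      · exact e'.symm.trans e
    intro p hp
    rcases h1 p hp with e | e
    · exact Or.inl (mul_inv_eq_one.1 e)
    · exact Or.inr (mul_inv_eq_iff_eq_mul.1 (e.trans hz))
  set W := U ⊓ H with hW
  have hWi : Inv k' W := hk'U.centralizer h.toData hk' fun y hy => by
    rw [Set.mem_singleton_iff] at hy; rw [hy]; exact hxU
  have hW2 : IsPGroup 2 W := hB.two.to_le inf_le_left
  have hconjW : ∀ s ∈ (S : Subgroup G), s ∈ H → ∀ w ∈ W, s * w * s⁻¹ ∈ W := fun s hs hsH w hw =>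
    ⟨(mem_normalizer_iff.1 (hB.norm hs) w).1 hw.1, H.mul_mem (H.mul_mem hsH hw.2) (H.inv_mem hsH)⟩
  have hnW : n ∈ normalizer (W : Set G) := by
    refine mem_normalizer_iff_map_conj_eq.2 (eq_of_le_of_card_ge ?_
      (card_map_of_injective (MulAut.conj n).injective).ge)
    rintro _ ⟨w, hw, rfl⟩
    exact hconjW n hnS hnH w hw
  obtain ⟨hsq, hsplit⟩ := hWi.fixed_split h.toData hk' hnW hinv hn2
  set C := W ⊓ centralizer {n} with hC
  set U0 := P0 ⊓ W with hU0
  have hU0n : ∀ w ∈ W, ∀ u ∈ U0, w * u * w⁻¹ ∈ U0 := fun w hw u hu =>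
    ⟨hP0n w hw.2 u hu.1, W.mul_mem (W.mul_mem hw hu.2) (W.inv_mem hw)⟩
  have hwU0 : w' ∈ U0 := ⟨hVP0 hw'V, hVU hw'V, hVH hw'V⟩
  have hPW : ∀ p ∈ P0, p ∈ W ∨ p * n ∈ W := fun p hp => by
    by_cases hpU : p ∈ U
    · exact Or.inl ⟨hpU, hP0H hp⟩
    · exact Or.inr ⟨hB.mul_mem_of_notMem (hP0S hp) hnS hpU hnU, H.mul_mem (hP0H hp) hnH⟩
  -- counting
  have hcount1 : Nat.card U0 ≤ 2 * Nat.card (U0 ⊓ C : Subgroup G) := by
    let f : U0 → (U0 ⊓ C : Subgroup G) × Bool := fun u =>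
      if hu : (u : G) * n * (u : G)⁻¹ = n then
        (⟨u, u.2, u.2.2, mem_centralizer_singleton_iff.2 (mul_inv_eq_iff_eq_mul.1 hu)⟩, true)
      else
        (⟨(u : G) * w', U0.mul_mem u.2 hwU0, W.mul_mem u.2.2 hwU0.2, mem_centralizer_singleton_iff.2 (by
          have e1 : (u : G) * n * (u : G)⁻¹ = c * n := (hnP u u.2.1).resolve_left hu
          have e2 : w' * n * w'⁻¹ = c * n := by
            refine (hnP w' (hVP0 hw'V)).resolve_left fun e => hc1 ?_
            have e3 : n * w' * n⁻¹ = w' := mul_inv_eq_iff_eq_mul.2 (mul_inv_eq_iff_eq_mul.1 e).symm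
            rw [hnw] at e3
            exact mul_eq_right.1 e3
          have e4 : (u : G) * c * (u : G)⁻¹ = c := hcS u (hUS u.2.2.1)
          refine mul_inv_eq_iff_eq_mul.1 ?_
          calc (u : G) * w' * n * ((u : G) * w')⁻¹ = (u : G) * (w' * n * w'⁻¹) * (u : G)⁻¹ := by group
            _ = ((u : G) * c * (u : G)⁻¹) * ((u : G) * n * (u : G)⁻¹) := by rw [e2]; group
            _ = n := by rw [e4, e1, ← mul_assoc, hcc, one_mul])⟩, false)
    have hf : Function.Injective f := by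
      intro u u' e
      simp only [f] at e
      split_ifs at e with hu hu' <;> simp only [Prod.mk.injEq, Subtype.mk.injEq, Bool.true_eq_false,
        Bool.false_eq_true, and_false, and_true] at e
      · have e' := congrArg Subtype.val e; exact Subtype.ext e'
      · have e' := congrArg Subtype.val e; exact Subtype.ext (mul_right_cancel e')
    have := Nat.card_le_card_of_injective f hf
    rw [Nat.card_prod, Nat.card_eq_fintype_card (α := Bool), Fintype.card_bool] at this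
    omega
  set C' := C.map (MulAut.conj k').toMonoidHom with hC'
  have hC'c : Nat.card C' = Nat.card C := card_map_of_injective (MulAut.conj k').injective
  have hC'W : C' ≤ W := by
    rintro _ ⟨d, hd, rfl⟩
    exact hWi.conj_mem hd.1
  have hkey : ∀ d ∈ C, (k' * d * k'⁻¹)⁻¹ * (k' * d * k'⁻¹)⁻¹ * d⁻¹ ∈ U0 := by
    intro d hd
    set t := k' * d * k'⁻¹ with ht
    have hntn : n * t * n⁻¹ = t⁻¹ * d⁻¹ := by
      rw [ht, conj_inverted hinv, mul_inv_eq_iff_eq_mul.2 (mem_centralizer_singleton_iff.1 hd.2).symm,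
        ← mul_inv_rev]
      refine eq_inv_of_mul_eq_one_right ?_
      rw [conj_inv_eq hk']
      exact hWi.orbit_prod h.toData hk' hd.1
    have htW : t ∈ W := hWi.conj_mem hd.1
    refine ⟨?_, W.mul_mem (W.mul_mem (W.inv_mem htW) (W.inv_mem htW)) (W.inv_mem hd.1)⟩
    rw [mul_assoc, ← hntn, show t⁻¹ * (n * t * n⁻¹) = (t⁻¹ * n * (t⁻¹)⁻¹) * n⁻¹ by group]
    exact P0.mul_mem (hP0n _ (H.inv_mem htW.2) n hnP0) (P0.inv_mem hnP0)
  have hWU0 : W ≤ C' ⊔ U0 := by
    intro w hw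
    obtain ⟨d1, hd1, d2, hd2, rfl⟩ := hsplit w hw
    have hd2' : k' * d2 * k'⁻¹ ∈ C' := ⟨d2, hd2, rfl⟩
    have hd1' : k' * d1 * k'⁻¹ ∈ C' := ⟨d1, hd1, rfl⟩
    refine mul_mem ?_ (mem_sup_left hd2')
    set t := k' * d1 * k'⁻¹
    rw [show d1 = (t⁻¹ * t⁻¹ * d1⁻¹)⁻¹ * (t⁻¹ * t⁻¹) by group]
    exact mul_mem (mem_sup_right (U0.inv_mem (hkey d1 hd1)))
      (mem_sup_left (C'.mul_mem (C'.inv_mem hd1') (C'.inv_mem hd1')))
  have hC'U0 : 2 ≤ Nat.card (U0 ⊓ C' : Subgroup G) := by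
    have hcC : c ∈ C := ⟨⟨hVU hcV, hVH hcV⟩,
      mem_centralizer_singleton_iff.2 (mul_inv_eq_iff_eq_mul.1 (hcS n hnS)).symm⟩
    haveI : Nontrivial (U0 ⊓ C' : Subgroup G) :=
      ⟨⟨⟨w', hwU0, ⟨c, hcC, rfl⟩⟩, 1, fun e => hw'1 (congrArg Subtype.val e)⟩⟩
    exact Finite.one_lt_card
  have hnorm : C' ≤ normalizer (U0 : Set G) := fun w hw => by
    refine mem_normalizer_iff_map_conj_eq.2 (eq_of_le_of_card_ge ?_
      (card_map_of_injective (MulAut.conj w).injective).ge)
    rintro _ ⟨u, hu, rfl⟩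
    exact hU0n w (hC'W hw) u hu
  have hWeq : C' ⊔ U0 = W := le_antisymm (sup_le hC'W inf_le_right) hWU0
  have hrel : U0.relIndex W = U0.relIndex C' := by
    conv_lhs => rw [← hWeq]
    exact relIndex_sup_normalizer hnorm
  have hWc : Nat.card U0 * U0.relIndex W = Nat.card W := by
    rw [← Nat.card_congr (subgroupOfEquivOfLe (inf_le_right : U0 ≤ W)).toEquiv]
    exact card_mul_index _
  have hC'rel : Nat.card (U0 ⊓ C' : Subgroup G) * U0.relIndex C' = Nat.card C' := by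
    rw [← inf_relIndex_right, ← Nat.card_congr (subgroupOfEquivOfLe (inf_le_right : U0 ⊓ C' ≤ C')).toEquiv]
    exact card_mul_index _
  have hU0ge : 2 * Nat.card C ≤ Nat.card U0 := by
    have h1 : 2 * U0.relIndex W ≤ Nat.card C := by
      rw [hrel, ← hC'c, ← hC'rel]; exact Nat.mul_le_mul_right _ hC'U0
    have h2 : Nat.card C * Nat.card C = Nat.card U0 * U0.relIndex W := by rw [hWc, ← pow_two, hsq]
    by_contra hlt
    have h0 : 0 < Nat.card C := Nat.card_pos
    have h4 : 0 < U0.relIndex W := Nat.pos_of_ne_zero index_ne_zero_of_finite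
    nlinarith
  have hUC0 : Nat.card (U0 ⊓ C : Subgroup G) ≤ Nat.card C := card_le_of_le inf_le_right
  have hCU0 : C ≤ U0 := inf_eq_right.1 (eq_of_le_of_card_ge inf_le_right (by omega))
  have hU0c : Nat.card U0 = 2 * Nat.card C := by omega
  have hrelc : 2 * U0.relIndex W = Nat.card C := by
    have h2 : Nat.card C * Nat.card C = Nat.card U0 * U0.relIndex W := by rw [hWc, ← pow_two, hsq]
    rw [hU0c, mul_assoc] at h2
    exact Nat.eq_of_mul_eq_mul_left Nat.card_pos (h2.trans (by ring)) |>.symm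
  -- squares and commutators lie in `V`
  have hsqU0 : ∀ w ∈ W, w * w ∈ U0 := by
    intro w hw
    obtain ⟨d1, hd1, d2, hd2, rfl⟩ := hsplit w hw
    set t := k' * d2 * k'⁻¹ with ht
    have htW : t ∈ W := hWi.conj_mem hd2.1
    have htt : t * t ∈ U0 := by
      rw [show t * t = d2⁻¹ * (t⁻¹ * t⁻¹ * d2⁻¹)⁻¹ by simp [mul_inv_rev, mul_assoc]]
      exact U0.mul_mem (U0.inv_mem (hCU0 hd2)) (U0.inv_mem (hkey d2 hd2))
    rw [show d1 * t * (d1 * t) = d1 * (t * d1 * t⁻¹) * (t * t) by group]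
    exact U0.mul_mem (U0.mul_mem (hCU0 hd1) (hU0n t htW d1 (hCU0 hd1))) htt
  set U0' := U0.map (MulAut.conj k').toMonoidHom with hU0'
  have hcomm : ∀ w ∈ W, ∀ w1 ∈ W, w * w1 * w⁻¹ * w1⁻¹ ∈ U0 := by
    intro w hw w1 hw1
    rw [show w * w1 * w⁻¹ * w1⁻¹ = (w * w1 * (w * w1)) * (w1⁻¹ * (w⁻¹ * w⁻¹) * (w1⁻¹)⁻¹) * (w1⁻¹ * w1⁻¹) by group]
    exact U0.mul_mem (U0.mul_mem (hsqU0 _ (W.mul_mem hw hw1))
      (hU0n _ (W.inv_mem hw1) _ (hsqU0 _ (W.inv_mem hw)))) (hsqU0 _ (W.inv_mem hw1))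
  have hVC : ∀ v ∈ V, v ∈ U0' := fun v hv =>
    ⟨k'⁻¹ * v * k', ⟨hVP0 (hk'V.conj_mem' hk' hv), hVU (hk'V.conj_mem' hk' hv), hVH (hk'V.conj_mem' hk' hv)⟩,
      by show k' * (k'⁻¹ * v * k') * k'⁻¹ = v; group⟩
  have hinter : U0 ⊓ U0' = V := by
    refine (eq_of_le_of_card_ge (H := V) (K := U0 ⊓ U0')
      (fun v hv => ⟨⟨hVP0 hv, hVU hv, hVH hv⟩, hVC v hv⟩) ?_).symm
    have hle : U0' ≤ W := by
      rintro _ ⟨u, hu, rfl⟩
      exact hWi.conj_mem hu.2
    have hge : C' ≤ U0' := map_mono hCU0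
    have hn' : U0' ≤ normalizer (U0 : Set G) := fun w hw => by
      refine mem_normalizer_iff_map_conj_eq.2 (eq_of_le_of_card_ge ?_
        (card_map_of_injective (MulAut.conj w).injective).ge)
      rintro _ ⟨u, hu, rfl⟩
      exact hU0n w (hle hw) u hu
    have heq : U0' ⊔ U0 = W := le_antisymm (sup_le hle inf_le_right) (hWU0.trans (sup_le_sup_right hge _))
    have hr : U0.relIndex W = U0.relIndex U0' := by
      conv_lhs => rw [← heq]
      exact relIndex_sup_normalizer hn'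
    have h1 : Nat.card (U0 ⊓ U0' : Subgroup G) * U0.relIndex U0' = Nat.card U0' := by
      rw [← inf_relIndex_right, ← Nat.card_congr (subgroupOfEquivOfLe (inf_le_right : U0 ⊓ U0' ≤ U0')).toEquiv]
      exact card_mul_index _
    rw [← hr, card_map_of_injective (MulAut.conj k').injective, hU0c, ← hrelc, ← mul_assoc] at h1
    rw [hV4]
    exact (Nat.eq_of_mul_eq_mul_right (Nat.pos_of_ne_zero index_ne_zero_of_finite) h1).le
  have hinV : ∀ z : G → G → G, (∀ w ∈ W, ∀ w1 ∈ W, z w w1 ∈ U0) →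
      (∀ w w1, z (k' * w * k'⁻¹) (k' * w1 * k'⁻¹) = k' * z w w1 * k'⁻¹) →
      ∀ w ∈ W, ∀ w1 ∈ W, (z w w1 : G) ∈ V := by
    intro z hz hz' w hw w1 hw1
    rw [← hinter]
    refine ⟨hz w hw w1 hw1, k'⁻¹ * z w w1 * k', ?_, by show k' * (k'⁻¹ * z w w1 * k') * k'⁻¹ = _; group⟩
    have e := hz' (k'⁻¹ * w * k') (k'⁻¹ * w1 * k')
    rw [show k' * (k'⁻¹ * w * k') * k'⁻¹ = w by group, show k' * (k'⁻¹ * w1 * k') * k'⁻¹ = w1 by group] at e
    rw [e, show k'⁻¹ * (k' * z (k'⁻¹ * w * k') (k'⁻¹ * w1 * k') * k'⁻¹) * k' =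
      z (k'⁻¹ * w * k') (k'⁻¹ * w1 * k') by group]
    exact hz _ (hWi.conj_mem' hk' hw) _ (hWi.conj_mem' hk' hw1)
  have hcommV := hinV (fun w w1 => w * w1 * w⁻¹ * w1⁻¹) hcomm (fun w w1 => by group)
  have hmem4 : ∀ z ∈ V, z = 1 ∨ z = c ∨ z = w' ∨ z = c * w' := by
    intro z hz
    by_contra hne
    push Not at hne
    obtain ⟨z1, z2, z3, z4⟩ := hne
    have hsub : ({1, c, w', c * w', z} : Set G) ⊆ V := by
      intro t ht
      simp only [Set.mem_insert_iff, Set.mem_singleton_iff] at ht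
      rcases ht with rfl | rfl | rfl | rfl | rfl
      exacts [V.one_mem, hcV, hw'V, V.mul_mem hcV hw'V, hz]
    have hp1 : c * w' ≠ 1 := fun e => hcw (mul_right_cancel (e.trans hww.symm))
    have h5 : ({1, c, w', c * w', z} : Set G).ncard = 5 := by
      rw [Set.ncard_insert_of_notMem (by simp [Ne.symm hc1, Ne.symm hw'1, Ne.symm hp1, Ne.symm z1]),
        Set.ncard_insert_of_notMem (by simp [hcw, hw'1, Ne.symm z2]),
        Set.ncard_insert_of_notMem (by simp [hc1, Ne.symm z3]),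
        Set.ncard_pair (Ne.symm z4)]
    have := Set.ncard_le_ncard hsub (Set.toFinite _)
    rw [h5, ← Nat.card_coe_set_eq] at this
    exact absurd this (by rw [show Nat.card (V : Set G) = Nat.card V from rfl, hV4]; norm_num)
  -- apply the module argument
  have hP0' : Cfsg.pCore 2 H = P0.subgroupOf H := (comap_map_eq_self_of_injective H.subtype_injective _).symm
  refine isPGroup_of_moves hsol hO h3 (n := (⟨n, hnH⟩ : H)) (v := ⟨w', hVH hw'V⟩)
    (c := ⟨c, hVH hcV⟩) (hmemP0 (g := ⟨n, hnH⟩) hnP0) (hmemP0 (g := ⟨w', hVH hw'V⟩) (hVP0 hw'V))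
    (Subtype.ext ?_) (fun e => hc1 (congrArg Subtype.val e)) (W := W.subgroupOf H) ?_ ?_ ?_ ?_
  · show c = n * w' * n⁻¹ * w'⁻¹
    rw [hnw, mul_inv_cancel_right]
  · intro p hp
    rcases hPW p ⟨p, hp, rfl⟩ with e | e
    · exact Or.inl e
    · exact Or.inr e
  · intro w hw w1 hw1
    rcases hmem4 _ (hcommV w hw w1 hw1) with e | e | e | e
    exacts [Or.inl (Subtype.ext e), Or.inr (Or.inl (Subtype.ext e)), Or.inr (Or.inr (Or.inl (Subtype.ext e))),
      Or.inr (Or.inr (Or.inr (Subtype.ext e)))]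
  · exact fun w hw => hmemP0 (g := w * w) (hsqU0 w hw).1
  · rw [hP0', relIndex_subgroupOf (inf_le_right : W ≤ H), Nat.card_congr (subgroupOfEquivOfLe hP0H).toEquiv]
    have hr : P0.relIndex W = U0.relIndex W := (inf_relIndex_right _ _).symm
    have h1 : Nat.card P0 ≤ 2 * Nat.card U0 := by
      let f : P0 → U0 × Bool := fun p =>
        if hp : (p : G) ∈ W then (⟨p, p.2, hp⟩, true)
        else (⟨(p : G) * n, P0.mul_mem p.2 hnP0, (hPW p p.2).resolve_left hp⟩, false)
      have hf : Function.Injective f := by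
        intro u u' e
        simp only [f] at e
        split_ifs at e with hu hu' <;> simp only [Prod.mk.injEq, Subtype.mk.injEq, Bool.true_eq_false,
          Bool.false_eq_true, and_false, and_true] at e
        · have e' := congrArg Subtype.val e; exact Subtype.ext e'
        · have e' := congrArg Subtype.val e; exact Subtype.ext (mul_right_cancel e')
      have := Nat.card_le_card_of_injective f hf
      rw [Nat.card_prod, Nat.card_eq_fintype_card (α := Bool), Fintype.card_bool] at this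
      omega
    rw [hr]
    omega

end Big

/-- If the involutions of `U` have trivial cores then `G` is a CIT-group. -/
theorem One.cit_of_cores (h : One R q a b) [IsSimpleGroup G] {S : Sylow 2 G} (hB : Big k U S)
    (hcore : ∀ x ∈ U, x * x = 1 → x ≠ 1 → Cfsg.centralizerPPrimeCore 2 x = ⊥) : CIT.CIT G := by
  intro t ht
  have ht2 : t * t = 1 := by rw [← pow_two, ← ht]; exact pow_orderOf_eq_one t
  have ht1 : t ≠ 1 := fun e => by rw [e, orderOf_one] at ht; norm_num at ht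
  obtain ⟨x, hxU, hconj, hmax⟩ := hB.exists_extremal h ht2 ht1
  obtain ⟨g, hg⟩ := isConj_iff.1 hconj
  have hx2 : x * x = 1 := by
    rw [← hg]; calc g * t * g⁻¹ * (g * t * g⁻¹) = g * (t * t) * g⁻¹ := by group
      _ = 1 := by rw [ht2]; group
  have hx1 : x ≠ 1 := fun e => ht1 (conj_eq_one_iff.1 (hg.trans e))
  have hC := hB.isPGroup_centralizer h hxU hx2 hx1 hmax (hcore x hxU hx2 hx1)
  have hle : centralizer ({t} : Set G) ≤ (centralizer ({x} : Set G)).map (MulAut.conj g⁻¹).toMonoidHom := by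
    intro y hy
    refine ⟨g * y * g⁻¹, mem_centralizer_singleton_iff.2 ?_,
      by show g⁻¹ * (g * y * g⁻¹) * g⁻¹⁻¹ = y; group⟩
    rw [← hg]
    calc g * y * g⁻¹ * (g * t * g⁻¹) = g * (y * t) * g⁻¹ := by group
      _ = _ := by rw [mem_centralizer_singleton_iff.1 hy]; group
  exact (hC.map _).to_le hle

end CfsgLib.Known.ThreeNine
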