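import Cfsg.Agent.Lib.Known.ThreeNine.Cyclic
import Cfsg.Agent.S0033
import Cfsg.Agent.S0058
import Cfsg.Agent.S3331
import Cfsg.Agent.Lib.Char.Burnside
import Cfsg.Agent.Lib.Signalizer.Basic
import Cfsg.Agent.Lib.Classical.PSLTwoSimple

/-!
# Elementary Sylow 3-subgroup with one class: subgroups of order prime to three
normalised by an element of order three
-/

set_option autoImplicit false
set_option linter.all false

namespace CfsgLib.Known.ThreeNine

open Subgroup

universe u

variable {G : Type u} [Group G] [Finite G] {R : Sylow 3 G} {q a b : ℕ}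

/-- Elementary Sylow 3-subgroup, one class of elements of order three. -/
structure One (R : Sylow 3 G) (q a b : ℕ) : Prop extends Data R q a b where
  cube : ∀ x ∈ (R : Subgroup G), x ^ 3 = 1
  one_class : ∀ x ∈ (R : Subgroup G), x ≠ 1 → ∀ y ∈ (R : Subgroup G), y ≠ 1 →
    ∃ g ∈ normalizer ((R : Subgroup G) : Set G), g * x * g⁻¹ = y

/-- A subgroup of order prime to three normalised by `k`. -/
structure Inv (k : G) (U : Subgroup G) : Prop where
  norm : k ∈ normalizer (U : Set G)
  prime_three : ¬ 3 ∣ Nat.card U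

/-- A maximal such subgroup. -/
def MaxInv (k : G) (U : Subgroup G) : Prop := Inv k U ∧ ∀ V, Inv k V → U ≤ V → V = U

/-- The image in `G` of the Sylow `p`-subgroup of a nilpotent subgroup. -/
noncomputable def part (p : ℕ) (U : Subgroup G) : Subgroup G :=
  ((default : Sylow p U) : Subgroup U).map U.subtype

theorem part_le (p : ℕ) (U : Subgroup G) : part p U ≤ U := map_subtype_le _

theorem isPGroup_part (p : ℕ) (U : Subgroup G) : IsPGroup p (part p U) :=
  (default : Sylow p U).isPGroup'.map _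

theorem card_part (p : ℕ) [Fact p.Prime] (U : Subgroup G) :
    Nat.card (part p U) = p ^ (Nat.card U).factorization p := by
  rw [part, card_map_of_injective U.subtype_injective, Sylow.card_eq_multiplicity]

theorem normalizer_le_part {p : ℕ} [Fact p.Prime] {U : Subgroup G} (hU : Group.IsNilpotent U) :
    normalizer (U : Set G) ≤ normalizer (part p U : Set G) := by
  haveI := hU
  haveI : ((default : Sylow p U) : Subgroup U).Characteristic :=
    Sylow.characteristic_of_normal _ inferInstance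
  intro g hg
  rw [mem_normalizer_iff_map_conj_eq]
  set f := normalizerMonoidHom U ⟨g, hg⟩ with hf
  have h1 := characteristic_iff_map_eq.1 (inferInstance : ((default : Sylow p U) : Subgroup U).Characteristic) f
  ext y
  constructor
  · rintro ⟨_, ⟨x, hx, rfl⟩, rfl⟩
    exact ⟨f x, h1.le ⟨x, hx, rfl⟩, rfl⟩
  · rintro ⟨x, hx, rfl⟩
    obtain ⟨w, hw, e⟩ := h1.ge hx
    exact ⟨(w : G), ⟨w, hw, rfl⟩, congrArg Subtype.val e⟩

theorem commute_parts {p r : ℕ} [Fact p.Prime] [Fact r.Prime] (hpr : p ≠ r) {U : Subgroup G}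
    (hU : Group.IsNilpotent U) {x y : G} (hx : x ∈ part p U) (hy : y ∈ part r U) : x * y = y * x := by
  haveI := hU
  obtain ⟨x, hx', rfl⟩ := hx
  obtain ⟨y, hy', rfl⟩ := hy
  have hd : Disjoint ((default : Sylow p U) : Subgroup U) ((default : Sylow r U) : Subgroup U) :=
    IsPGroup.disjoint_of_ne p r hpr _ _ (default : Sylow p U).isPGroup' (default : Sylow r U).isPGroup'
  exact congrArg Subtype.val (commute_of_normal_of_disjoint _ _ inferInstance inferInstance hd x y hx' hy').eq

theorem mem_part_of_orderOf {p n : ℕ} [Fact p.Prime] {U : Subgroup G} (hU : Group.IsNilpotent U) {x : G}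
    (hx : x ∈ U) (ho : orderOf x = p ^ n) : x ∈ part p U := by
  haveI := hU
  have hp : IsPGroup p (zpowers (⟨x, hx⟩ : U)) := IsPGroup.of_card (n := n) (by
    rw [Nat.card_zpowers, ← Subgroup.orderOf_coe]; exact ho)
  obtain ⟨P, hP⟩ := hp.exists_le_sylow
  haveI := Sylow.unique_of_normal (default : Sylow p U) inferInstance
  rw [Subsingleton.elim P (default : Sylow p U)] at hP
  exact ⟨⟨x, hx⟩, hP (mem_zpowers _), rfl⟩

theorem Data.primes (h : Data R q a b) {d p : ℕ} (hd : d ∣ Nat.card G) (h3 : ¬ 3 ∣ d) (hp : p.Prime)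
    (hpd : p ∣ d) : p = 2 ∨ p = q := by
  have := hpd.trans hd
  rw [h.card] at this
  rcases hp.dvd_mul.1 this with h1 | h1
  · rcases hp.dvd_mul.1 h1 with h1 | h1
    · exact absurd ((Nat.prime_dvd_prime_iff_eq hp Nat.prime_three).1
        (hp.dvd_of_dvd_pow (show p ∣ 3 ^ 2 by simpa using h1)) ▸ hpd) h3
    · exact Or.inl ((Nat.prime_dvd_prime_iff_eq hp Nat.prime_two).1 (hp.dvd_of_dvd_pow h1))
  · exact Or.inr ((Nat.prime_dvd_prime_iff_eq hp h.prime).1 (hp.dvd_of_dvd_pow h1))

theorem Data.exists_conj_mem (h : Data R q a b) {k : G} (hk : orderOf k = 3) :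
    ∃ x : G, x * k * x⁻¹ ∈ (R : Subgroup G) ∧ x * k * x⁻¹ ≠ 1 := by
  haveI : Fact (Nat.Prime 3) := ⟨Nat.prime_three⟩
  obtain ⟨P, hP⟩ := (IsPGroup.of_card (n := 1) (by rw [Nat.card_zpowers, hk, pow_one]) :
    IsPGroup 3 (zpowers k)).exists_le_sylow
  obtain ⟨x, hx⟩ := MulAction.exists_smul_eq G P R
  refine ⟨x, ?_, fun e => ?_⟩
  · rw [← hx, Sylow.coe_subgroup_smul]
    exact ⟨k, hP (mem_zpowers k), rfl⟩
  · rw [conj_eq_one_iff] at e
    rw [e, orderOf_one] at hk
    exact absurd hk (by norm_num)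

theorem Inv.fpf (h : Data R q a b) {k : G} (hk : orderOf k = 3) {U : Subgroup G} (hU : Inv k U) {x : G}
    (hx : x ∈ U) (e : k * x * k⁻¹ = x) : x = 1 :=
  h.eq_one_of_commute hk (mul_inv_eq_iff_eq_mul.1 e).symm
    fun hd => hU.prime_three (hd.trans (Subgroup.orderOf_dvd_natCard U hx))

theorem Inv.nilpotent (h : Data R q a b) {k : G} (hk : orderOf k = 3) {U : Subgroup G} (hU : Inv k U) :
    Group.IsNilpotent U := by
  rcases subsingleton_or_nontrivial U with hs | hn
  · infer_instance
  set φ := normalizerMonoidHom U ⟨k, hU.norm⟩ with hφ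
  have hfp : ∀ x : U, φ x = x → x = 1 := fun x hx =>
    Subtype.ext (hU.fpf h hk x.2 (congrArg Subtype.val hx))
  refine Cfsg.Agent.S0033.result φ ?_ 3 Nat.prime_three ?_
  · intro x hx
    exact hfp x hx
  · have h3 : φ ^ 3 = 1 := by
      rw [hφ, ← map_pow]
      have : (⟨k, hU.norm⟩ : normalizer (U : Set G)) ^ 3 = 1 := Subtype.ext (by
        show k ^ 3 = 1; rw [← hk]; exact pow_orderOf_eq_one k)
      rw [this, map_one]
    haveI : Fact (Nat.Prime 3) := ⟨Nat.prime_three⟩
    refine orderOf_eq_prime h3 fun e => ?_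
    obtain ⟨x, hx⟩ := exists_ne (1 : U)
    exact hx (hfp x (by rw [e]; rfl))

theorem Inv.sup {k : G} {U W : Subgroup G} (hU : Inv k U) (hW : Inv k W)
    (hn : U ≤ normalizer (W : Set G)) : Inv k (W ⊔ U) := by
  refine ⟨?_, ?_⟩
  · rw [mem_normalizer_iff_map_conj_eq, Subgroup.map_sup, mem_normalizer_iff_map_conj_eq.1 hW.norm,
      mem_normalizer_iff_map_conj_eq.1 hU.norm]
  · haveI : Fact (Nat.Prime 3) := ⟨Nat.prime_three⟩
    exact CfsgLib.Signalizer.not_dvd_sup hn hW.prime_three hU.prime_three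

theorem exists_maxInv {k : G} {U : Subgroup G} (hU : Inv k U) : ∃ V, MaxInv k V ∧ U ≤ V := by
  obtain ⟨V, hUV, hV, hmax⟩ := Set.Finite.exists_le_maximal (s := {V : Subgroup G | Inv k V})
    (Set.toFinite _) (a := U) hU
  exact ⟨V, ⟨hV, fun W hW hle => le_antisymm (hmax hW hle) hle⟩, hUV⟩

theorem One.eq_bot_of_normalized (h : One R q a b) {W : Subgroup G}
    (hn : (R : Subgroup G) ≤ normalizer (W : Set G)) (h3 : ¬ 3 ∣ Nat.card W) : W = ⊥ := by
  haveI : IsMulCommutative (R : Subgroup G) := ⟨⟨fun x y => Subtype.ext (h.comm x x.2 y y.2)⟩⟩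
  have hnc : ¬ IsCyclic (R : Subgroup G) := fun hc => by
    obtain ⟨x, hx⟩ := hc.exists_ofOrder_eq_natCard
    rw [h.card_R] at hx
    have := orderOf_dvd_of_pow_eq_one (show x ^ 3 = 1 from Subtype.ext (h.cube x x.2))
    rw [hx] at this
    norm_num at this
  have hcop : (Nat.card (R : Subgroup G)).Coprime (Nat.card W) := by
    rw [h.card_R, show (9 : ℕ) = 3 ^ 2 by norm_num]
    exact Nat.Coprime.pow_left 2 (Nat.prime_three.coprime_iff_not_dvd.2 h3)
  rw [← Cfsg.Agent.S0058.result (R : Subgroup G) W hnc hn hcop, eq_bot_iff]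
  refine iSup₂_le fun x hx y hy => ?_
  obtain ⟨hyW, hyx⟩ := Subgroup.mem_inf.1 hy
  rw [h.cen x hx.1 hx.2] at hyx
  have h1 := Subgroup.orderOf_dvd_natCard W hyW
  have h2 := Subgroup.orderOf_dvd_natCard _ hyx
  rw [mem_bot]
  exact orderOf_eq_one_iff.1 (Nat.eq_one_of_dvd_coprimes hcop h2 h1)

theorem One.centralizer_inf (h : One R q a b) {k : G} (hk : orderOf k = 3) {L W : Subgroup G}
    (hkL : k ∈ L) (hW : W ≠ ⊥) (h3 : ¬ 3 ∣ Nat.card W) (hn : L ≤ normalizer (W : Set G)) :
    centralizer ({k} : Set G) ⊓ L = zpowers k := by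
  obtain ⟨x, hxR, hx1⟩ := h.exists_conj_mem hk
  set C := centralizer ({k} : Set G)
  have hC : C.map (MulAut.conj x).toMonoidHom = (R : Subgroup G) := by
    rw [← h.cen _ hxR hx1]
    ext y
    rw [Subgroup.mem_map, mem_centralizer_singleton_iff]
    constructor
    · rintro ⟨w, hw, rfl⟩
      have e := mem_centralizer_singleton_iff.1 hw
      show x * w * x⁻¹ * (x * k * x⁻¹) = x * k * x⁻¹ * (x * w * x⁻¹)
      calc x * w * x⁻¹ * (x * k * x⁻¹) = x * (w * k) * x⁻¹ := by group
        _ = x * (k * w) * x⁻¹ := by rw [e]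
        _ = _ := by group
    · intro e
      refine ⟨x⁻¹ * y * x, mem_centralizer_singleton_iff.2 ?_, by show x * (x⁻¹ * y * x) * x⁻¹ = y; group⟩
      calc x⁻¹ * y * x * k = x⁻¹ * (y * (x * k * x⁻¹)) * x := by group
        _ = x⁻¹ * (x * k * x⁻¹ * y) * x := by rw [e]
        _ = _ := by group
  have hC9 : Nat.card C = 3 ^ 2 := by
    rw [← card_map_of_injective (K := C) (f := (MulAut.conj x).toMonoidHom) (MulAut.conj x).injective, hC, h.card_R]; norm_num
  have hle : zpowers k ≤ C ⊓ L := zpowers_le.2 ⟨mem_centralizer_singleton_iff.2 rfl, hkL⟩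
  refine (eq_of_le_of_card_ge hle ?_).symm
  obtain ⟨i, hi2, hi⟩ := (Nat.dvd_prime_pow Nat.prime_three).1 (hC9 ▸ card_dvd_of_le (inf_le_left : C ⊓ L ≤ C))
  rw [Nat.card_zpowers, hk, hi]
  rcases Nat.lt_or_ge i 2 with hlt | hge
  · calc 3 ^ i ≤ 3 ^ 1 := Nat.pow_le_pow_right (by norm_num) (by omega)
      _ = 3 := pow_one 3
  · exfalso
    obtain rfl : i = 2 := by omega
    have hCL : C ≤ L := by
      have : C ⊓ L = C := eq_of_le_of_card_ge inf_le_left (by rw [hi, hC9])
      exact this ▸ inf_le_right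
    refine hW ?_
    have h1 := h.eq_bot_of_normalized (W := W.map (MulAut.conj x).toMonoidHom) (by
      rw [← hC]
      exact (map_mono (hCL.trans hn)).trans (le_normalizer_map _))
      (by rwa [card_map_of_injective (MulAut.conj x).injective])
    rwa [map_eq_bot_iff_of_injective _ (MulAut.conj x).injective] at h1

theorem alt_five_four : ∀ s : alternatingGroup (Fin 5), s * s * s = 1 → s ≠ 1 →
    ∃ x : alternatingGroup (Fin 5), x ≠ 1 ∧ x * x = 1 ∧ s * x * s⁻¹ ≠ x ∧
      x * (s * x * s⁻¹) = s * x * s⁻¹ * x ∧ s * (s * x * s⁻¹) * s⁻¹ = x * (s * x * s⁻¹) := by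
  decide +kernel

/-- The structure of a group containing `k` with a nontrivial normal subgroup of order prime to
three. -/
theorem One.structure_three (h : One R q a b) {k : G} (hk : orderOf k = 3) {L W : Subgroup G}
    (hkL : k ∈ L) (hW : W ≠ ⊥) (hWi : Inv k W) (hWL : W ≤ L) (hn : L ≤ normalizer (W : Set G)) :
    ∃ N : Subgroup G, Inv k N ∧ W ≤ N ∧ N ≤ L ∧ L ≤ normalizer (N : Set G) ∧
      (Nat.card L = 3 * Nat.card N ∨ Nat.card L = 6 * Nat.card N ∨
        (Cfsg.IsElementaryAbelian 2 N ∧ Nat.card L = 60 * Nat.card N ∧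
          ∃ f : L →* alternatingGroup (Fin 5), Function.Surjective f ∧ f.ker = N.subgroupOf L)) := by
  set k' : L := ⟨k, hkL⟩
  have hX : Nat.card (zpowers k') = 3 := by rw [Nat.card_zpowers, ← Subgroup.orderOf_coe]; exact hk
  have hC : centralizer (zpowers k' : Set L) = zpowers k' := by
    ext y
    constructor
    · intro hy
      have e := mem_centralizer_iff.1 hy k' (mem_zpowers k')
      have : (y : G) ∈ centralizer ({k} : Set G) ⊓ L :=
        ⟨mem_centralizer_singleton_iff.2 (congrArg Subtype.val e).symm, y.2⟩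
      rw [h.centralizer_inf hk hkL hW hWi.prime_three hn] at this
      obtain ⟨i, hi⟩ := mem_zpowers_iff.1 this
      exact mem_zpowers_iff.2 ⟨i, Subtype.ext hi⟩
    · intro hy
      obtain ⟨i, rfl⟩ := mem_zpowers_iff.1 hy
      refine mem_centralizer_iff.2 fun z hz => ?_
      obtain ⟨j, rfl⟩ := mem_zpowers_iff.1 hz
      exact (Commute.zpow_zpow (Commute.refl k') j i).eq
  haveI hWn : (W.subgroupOf L).Normal := (normal_subgroupOf_iff_le_normalizer hWL).2 hn
  have hWc : Nat.card (W.subgroupOf L) = Nat.card W := Nat.card_congr (subgroupOfEquivOfLe hWL).toEquiv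
  have hk3 : 3 ∣ Nat.card L := hk ▸ Subgroup.orderOf_dvd_natCard L hkL
  have hdata : ∀ N : Subgroup L, N.Normal → ¬ 3 ∣ Nat.card N →
      Inv k (N.map L.subtype) ∧ L ≤ normalizer ((N.map L.subtype : Subgroup G) : Set G) := by
    intro N hN h3
    have hle : L ≤ normalizer ((N.map L.subtype : Subgroup G) : Set G) := by
      have := le_normalizer_map (H := N) L.subtype
      rwa [normalizer_eq_top, ← MonoidHom.range_eq_map, range_subtype] at this
    exact ⟨⟨hle hkL, by rwa [card_map_of_injective L.subtype_injective]⟩, hle⟩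
  rcases Cfsg.Agent.S3331.result (zpowers k') hX hC with ⟨N, hN, -, hco, hq⟩ | ⟨N, hN, hcm, he, ⟨e⟩⟩ | ⟨e⟩
  · have h3N : ¬ 3 ∣ Nat.card N := fun hd => by
      have := Nat.eq_one_of_dvd_coprimes hco hd dvd_rfl
      norm_num at this
    obtain ⟨hNi, hNn⟩ := hdata N hN h3N
    have hM := Inv.sup hWi hNi (hWL.trans hNn)
    set M := N.map L.subtype ⊔ W
    have hMn : L ≤ normalizer (M : Set G) := fun g hg => by
      rw [mem_normalizer_iff_map_conj_eq, Subgroup.map_sup, mem_normalizer_iff_map_conj_eq.1 (hNn hg),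
        mem_normalizer_iff_map_conj_eq.1 (hn hg)]
    have hML : M ≤ L := sup_le (map_subtype_le _) hWL
    refine ⟨M, hM, le_sup_right, hML, hMn, ?_⟩
    have hidx : Nat.card L = Nat.card N * 3 ∨ Nat.card L = Nat.card N * 6 := by
      rw [← N.card_mul_index, index_eq_card]
      rcases hq with hq | ⟨⟨e⟩⟩
      · left; rw [hq]
      · right
        rw [Nat.card_congr e.toEquiv, Nat.card_perm, Nat.card_fin]
        rfl
    obtain ⟨f, hf⟩ : Nat.card N ∣ Nat.card M := by
      rw [← card_map_of_injective (K := N) L.subtype_injective]; exact card_dvd_of_le le_sup_left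
    obtain ⟨g, hg⟩ := card_dvd_of_le hML
    have h3g : 3 ∣ g := (Nat.prime_three.dvd_mul.1 (hg ▸ hk3)).resolve_left hM.prime_three
    have hf3 : ¬ 3 ∣ f := fun hd => hM.prime_three (hf ▸ hd.mul_left _)
    rw [hg, hf] at hidx
    obtain ⟨g', rfl⟩ := h3g
    have hpos : 0 < Nat.card N := Nat.card_pos
    rcases hidx with hidx | hidx
    · have h1 : f * g' = 1 := Nat.eq_of_mul_eq_mul_left (by positivity : 0 < Nat.card N * 3) (by linarith)
      left
      rw [hg, (mul_eq_one.1 h1).2]; ring
    · have h1 : f * g' = 2 := Nat.eq_of_mul_eq_mul_left (by positivity : 0 < Nat.card N * 3) (by linarith)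
      have hg' : g' ∣ 2 := Dvd.intro_left f h1
      rcases (Nat.dvd_prime Nat.prime_two).1 hg' with rfl | rfl
      · left; rw [hg]; ring
      · right; left; rw [hg]; ring
  · have h60 : Nat.card (alternatingGroup (Fin 5)) = 60 := by
      rw [nat_card_alternatingGroup, Nat.card_fin]; decide
    have h3N : ¬ 3 ∣ Nat.card N := fun hd => by
      haveI : Fact (Nat.Prime 3) := ⟨Nat.prime_three⟩
      obtain ⟨x, hx⟩ := exists_prime_orderOf_dvd_card' 3 hd
      have := orderOf_dvd_of_pow_eq_one (show x ^ 2 = 1 from Subtype.ext (he x x.2))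
      rw [hx] at this
      norm_num at this
    obtain ⟨hNi, hNn⟩ := hdata N hN h3N
    let f : L →* alternatingGroup (Fin 5) := e.toMonoidHom.comp (QuotientGroup.mk' N)
    have hfs : Function.Surjective f := e.surjective.comp (QuotientGroup.mk'_surjective N)
    have hfk : f.ker = N := by
      ext x
      simp [f, MonoidHom.mem_ker, QuotientGroup.eq_one_iff]
    have hWN : W.subgroupOf L ≤ N := by
      rw [← hfk, ← Subgroup.map_eq_bot_iff]
      haveI : ((W.subgroupOf L).map f).Normal := Subgroup.Normal.map hWn f hfs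
      haveI : IsSimpleGroup (alternatingGroup (Fin 5)) := alternatingGroup.isSimpleGroup_five
      rcases (inferInstance : ((W.subgroupOf L).map f).Normal).eq_bot_or_eq_top with e' | e'
      · exact e'
      · exfalso
        have h1 := card_map_dvd (W.subgroupOf L) f
        rw [e', card_top, h60, hWc] at h1
        exact hWi.prime_three (dvd_trans (by norm_num) h1)
    refine ⟨N.map L.subtype, hNi, ?_, map_subtype_le _, hNn, Or.inr (Or.inr ⟨?_, ?_, f, hfs, ?_⟩)⟩
    · intro w hw
      exact ⟨⟨w, hWL hw⟩, hWN hw, rfl⟩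
    · refine ⟨⟨⟨fun x y => Subtype.ext ?_⟩⟩, ?_⟩
      · obtain ⟨x', hx', ex⟩ := x.2
        obtain ⟨y', hy', ey⟩ := y.2
        rw [Subgroup.coe_mul, Subgroup.coe_mul, ← ex, ← ey]
        exact congrArg (fun z : N => ((z : L) : G)) (hcm.is_comm.comm ⟨x', hx'⟩ ⟨y', hy'⟩)
      · rintro _ ⟨x, hx, rfl⟩
        exact congrArg Subtype.val (he x hx)
    · rw [card_map_of_injective L.subtype_injective, ← N.card_mul_index, index_eq_card,
        Nat.card_congr e.toEquiv, h60, mul_comm]
    · rw [hfk]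
      exact (comap_map_eq_self_of_injective L.subtype_injective N).symm
  · exfalso
    haveI : Fact (Nat.Prime 7) := ⟨by norm_num⟩
    haveI := CfsgLib.Classical.isSimpleGroup_PSL_two (F := ZMod 7) (by simp)
    obtain ⟨e⟩ := e
    haveI : IsSimpleGroup L := e.isSimpleGroup
    rcases hWn.eq_bot_or_eq_top with e' | e'
    · exact hW (by rw [subgroupOf_eq_bot, disjoint_iff_inf_le] at e'; rwa [inf_eq_left.2 hWL, le_bot_iff] at e')
    · rw [e', card_top] at hWc
      exact hWi.prime_three (hWc ▸ hk3)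

/-- The four-group in the `A₅` case. -/
theorem exists_inv_above {k : G} (hk : orderOf k = 3) {L N : Subgroup G} (hkL : k ∈ L) (hN : Inv k N)
    (hNL : N ≤ L) (f : L →* alternatingGroup (Fin 5)) (hf : Function.Surjective f)
    (hker : f.ker = N.subgroupOf L) :
    ∃ V : Subgroup G, Inv k V ∧ N ≤ V ∧ V ≤ L ∧ Nat.card V = 4 * Nat.card N := by
  set s := f ⟨k, hkL⟩ with hs
  have hs1 : s ≠ 1 := fun e => by
    have : (⟨k, hkL⟩ : L) ∈ N.subgroupOf L := hker ▸ (MonoidHom.mem_ker.2 e)
    exact hN.prime_three (hk ▸ Subgroup.orderOf_dvd_natCard N this)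
  have hs3 : s * s * s = 1 := by
    rw [hs, ← map_mul, ← map_mul]
    have : (⟨k, hkL⟩ : L) * ⟨k, hkL⟩ * ⟨k, hkL⟩ = 1 := Subtype.ext (by
      show k * k * k = 1
      rw [← pow_three', ← hk]; exact pow_orderOf_eq_one k)
    rw [this, map_one]
  obtain ⟨x, hx1, hx2, hxy, hcomm, hcyc⟩ := alt_five_four s hs3 hs1
  set y := s * x * s⁻¹ with hy
  have hy2 : y * y = 1 := by
    rw [hy]; calc s * x * s⁻¹ * (s * x * s⁻¹) = s * (x * x) * s⁻¹ := by group
      _ = 1 := by rw [hx2]; group
  have hinvx : x⁻¹ = x := inv_eq_of_mul_eq_one_right hx2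
  have hinvy : y⁻¹ = y := inv_eq_of_mul_eq_one_right hy2
  let V4 : Subgroup (alternatingGroup (Fin 5)) :=
    { carrier := {1, x, y, x * y}
      one_mem' := by simp
      inv_mem' := by
        intro w hw
        simp only [Set.mem_insert_iff, Set.mem_singleton_iff] at hw ⊢
        rcases hw with rfl | rfl | rfl | rfl <;> simp [mul_inv_rev, hinvx, hinvy, hcomm]
      mul_mem' := by
        intro w w' hw hw'
        simp only [Set.mem_insert_iff, Set.mem_singleton_iff] at hw hw' ⊢
        have h1 : y * (x * y) = x := by rw [← mul_assoc, ← hcomm, mul_assoc, hy2, mul_one]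
        have h2 : x * (x * y) = y := by rw [← mul_assoc, hx2, one_mul]
        have h3 : x * y * x = y := by rw [hcomm, mul_assoc, hx2, mul_one]
        have h4 : x * y * y = x := by rw [mul_assoc, hy2, mul_one]
        have h5 : x * y * (x * y) = 1 := by rw [← mul_assoc, h3, hy2]
        rcases hw with rfl | rfl | rfl | rfl <;> rcases hw' with rfl | rfl | rfl | rfl <;>
          simp [hx2, hy2, ← hcomm, h1, h2, h3, h4, h5] }
  have hmem : ∀ w, w ∈ V4 ↔ w = 1 ∨ w = x ∨ w = y ∨ w = x * y := fun w => Iff.rfl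
  have hxy' : x ≠ y := fun e => hxy e.symm
  have hV4 : Nat.card V4 = 4 := by
    show Nat.card ({1, x, y, x * y} : Set (alternatingGroup (Fin 5))) = 4
    rw [Nat.card_coe_set_eq]
    have hy1 : y ≠ 1 := fun e => hx1 (conj_eq_one_iff.1 e)
    have hp1 : x * y ≠ 1 := fun e => hxy' (by rw [← hinvy]; exact eq_inv_of_mul_eq_one_left e)
    rw [Set.ncard_insert_of_notMem (by simp [Ne.symm hx1, Ne.symm hy1, Ne.symm hp1]),
      Set.ncard_insert_of_notMem (by simp [hxy', hy1]), Set.ncard_pair (by simp [hx1])]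
  have hconj : ∀ w ∈ V4, s * w * s⁻¹ ∈ V4 := by
    intro w hw
    rw [hmem] at hw ⊢
    rcases hw with rfl | rfl | rfl | rfl
    · left; simp
    · right; right; left; rfl
    · right; right; right; exact hcyc
    · right; left
      calc s * (x * y) * s⁻¹ = (s * x * s⁻¹) * (s * y * s⁻¹) := by group
        _ = y * (x * y) := by rw [← hy, hcyc]
        _ = x := by rw [← mul_assoc, ← hcomm, mul_assoc, hy2, mul_one]
  set V := (V4.comap f).map L.subtype with hV
  have hVc : Nat.card V = 4 * Nat.card N := by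
    rw [hV, card_map_of_injective L.subtype_injective]
    have h1 : (V4.comap f).index = V4.index := index_comap_of_surjective _ hf
    have h2 := (V4.comap f).card_mul_index
    have h3 := V4.card_mul_index
    have h4 : Nat.card (N.subgroupOf L) * (N.subgroupOf L).index = Nat.card L := card_mul_index _
    rw [← hker, index_ker, MonoidHom.range_eq_top.2 hf, card_top] at h4
    have h5 : Nat.card f.ker = Nat.card N := by
      rw [hker]; exact Nat.card_congr (subgroupOfEquivOfLe hNL).toEquiv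
    rw [h5] at h4
    have h6 : 0 < (V4.comap f).index := Nat.pos_of_ne_zero index_ne_zero_of_finite
    apply Nat.eq_of_mul_eq_mul_right h6
    rw [h2, h1, ← h4, ← h3, hV4]; ring
  refine ⟨V, ⟨?_, ?_⟩, ?_, map_subtype_le _, hVc⟩
  · refine mem_normalizer_iff_map_conj_eq.2 (eq_of_le_of_card_ge ?_
      (card_map_of_injective (MulAut.conj k).injective).ge)
    rintro _ ⟨_, ⟨w, hw, rfl⟩, rfl⟩
    refine ⟨⟨k, hkL⟩ * w * ⟨k, hkL⟩⁻¹, ?_, rfl⟩
    show f _ ∈ V4
    rw [map_mul, map_mul, map_inv]
    exact hconj _ hw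
  · rw [hVc]
    intro hd
    rcases Nat.prime_three.dvd_mul.1 hd with h' | h'
    · norm_num at h'
    · exact hN.prime_three h'
  · intro n hn
    refine ⟨⟨n, hNL hn⟩, ?_, rfl⟩
    have : (⟨n, hNL hn⟩ : L) ∈ f.ker := hker ▸ hn
    rw [MonoidHom.mem_ker] at this
    show f _ ∈ V4
    rw [this]
    exact one_mem _

/-- The normaliser of a maximal invariant subgroup, when it is the biggest in it. -/
theorem One.card_normalizer_of_max (h : One R q a b) {k : G} (hk : orderOf k = 3) {L U : Subgroup G}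
    (hU : MaxInv k U) (hU1 : U ≠ ⊥) (hkL : k ∈ L) (hUL : U ≤ L) (hn : L ≤ normalizer (U : Set G)) :
    Nat.card L = 3 * Nat.card U ∨ Nat.card L = 6 * Nat.card U := by
  obtain ⟨N, hN, hWN, hNL, hNn, hcase⟩ := h.structure_three hk hkL hU1 hU.1 hUL hn
  obtain rfl := hU.2 N hN hWN
  rcases hcase with h' | h' | ⟨-, -, f, hf, hker⟩
  · exact Or.inl h'
  · exact Or.inr h'
  · exfalso
    obtain ⟨V, hV, hNV, -, hVc⟩ := exists_inv_above hk hkL hN hNL f hf hker
    rw [hU.2 V hV hNV] at hVc
    have := Nat.card_pos (α := N)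
    omega

theorem One.q_part_full (h : One R q a b) {k : G} (hk : orderOf k = 3) [Fact q.Prime] {U : Subgroup G}
    (hU : MaxInv k U) (hd : q ∣ Nat.card U) (hn : normalizer (part q U : Set G) ≤ normalizer (U : Set G)) :
    Nat.card (part q U) = q ^ b := by
  have hU1 : U ≠ ⊥ := fun e => by
    rw [e, card_bot] at hd
    exact h.prime.ne_one (Nat.dvd_one.1 hd)
  have hL := h.card_normalizer_of_max hk hU hU1 hU.1.norm le_normalizer le_rfl
  obtain ⟨Q, hQ⟩ := (isPGroup_part q U).exists_le_sylow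
  by_contra hne
  have hlt : part q U < (Q : Subgroup G) := lt_of_le_of_ne hQ fun e => hne (by rw [e, h.card_sylow_q])
  have h1 := CfsgLib.Transfer.lt_inf_normalizer Q.isPGroup' hlt
  have h2 : (Q : Subgroup G) ⊓ normalizer (part q U : Set G) ≤ normalizer (U : Set G) := inf_le_right.trans hn
  have h3 := card_dvd_of_le h2
  obtain ⟨m, hm⟩ := (Q.isPGroup'.to_le (inf_le_left : (Q : Subgroup G) ⊓ normalizer (part q U : Set G) ≤ _)).exists_card_eq
  rw [hm] at h3
  have h4 : m ≤ (Nat.card U).factorization q := by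
    have hpow : q ^ m ∣ 6 * Nat.card U := by
      rcases hL with hL | hL
      · exact (hL ▸ h3).trans ⟨2, by ring⟩
      · exact hL ▸ h3
    have hcop : Nat.Coprime (q ^ m) 6 := by
      refine Nat.Coprime.pow_left _ ((Nat.Prime.coprime_iff_not_dvd h.prime).2 fun h6 => ?_)
      rcases h.prime.dvd_mul.1 (show q ∣ 2 * 3 from h6) with h' | h'
      · exact h.ne_two ((Nat.prime_dvd_prime_iff_eq h.prime Nat.prime_two).1 h')
      · exact h.ne_three ((Nat.prime_dvd_prime_iff_eq h.prime Nat.prime_three).1 h')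
    exact (h.prime.pow_dvd_iff_le_factorization Nat.card_pos.ne').1 (hcop.dvd_of_dvd_mul_left hpow)
  have h5 : Nat.card (part q U) < q ^ m := by
    rw [← hm]
    exact lt_of_le_of_ne (card_le_of_le h1.le) fun e => h1.ne (eq_of_le_of_card_ge h1.le e.ge)
  rw [card_part] at h5
  exact absurd ((Nat.pow_lt_pow_iff_right h.prime.one_lt).1 h5) (by omega)

theorem One.isPGroup_inv (h : One R q a b) [IsSimpleGroup G] {k : G} (hk : orderOf k = 3)
    {U : Subgroup G} (hU : Inv k U) : IsPGroup 2 U ∨ IsPGroup q U := by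
  classical
  haveI := Fact.mk h.prime
  haveI : Fact (Nat.Prime 2) := ⟨Nat.prime_two⟩
  by_contra hcon
  push Not at hcon
  obtain ⟨M, hM, hUM⟩ := exists_maxInv hU
  have hdiv : 2 ∣ Nat.card M ∧ q ∣ Nat.card M := by
    have aux : ∀ p : ℕ, p.Prime → ¬ IsPGroup p U → ∃ r : ℕ, r.Prime ∧ r ≠ p ∧ r ∣ Nat.card M := by
      intro p hp hn
      by_contra hc
      push Not at hc
      haveI := Fact.mk hp
      refine hn (IsPGroup.to_le (IsPGroup.of_card (n := (Nat.card M).primeFactorsList.length) ?_) hUM)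
      exact Nat.eq_prime_pow_of_unique_prime_dvd Nat.card_pos.ne' fun {r} hr hrd =>
        by_contra fun hne => hc r hr hne hrd
    obtain ⟨r, hr, hr2, hrd⟩ := aux 2 Nat.prime_two hcon.1
    obtain ⟨r', hr', hr'q, hrd'⟩ := aux q h.prime hcon.2
    rcases h.primes (card_subgroup_dvd_card M) hM.1.prime_three hr hrd with e | e
    · exact absurd e hr2
    rcases h.primes (card_subgroup_dvd_card M) hM.1.prime_three hr' hrd' with e' | e'
    · exact ⟨e' ▸ hrd', e ▸ hrd⟩
    · exact absurd e' hr'q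
  have hnil := hM.1.nilpotent h.toData hk
  have hne : ∀ p : ℕ, p.Prime → p ∣ Nat.card M → part p M ≠ ⊥ := by
    intro p hp hd e
    haveI := Fact.mk hp
    have h1 := card_part p M
    rw [e, card_bot] at h1
    exact absurd h1.symm (Nat.one_lt_pow (hp.factorization_pos_of_dvd Nat.card_pos.ne' hd).ne' hp.one_lt).ne'
  have hcC : ∀ p : ℕ, p.Prime → p ∣ Nat.card M → centralizer (part p M : Set G) ≤ M := by
    intro p hp hd
    haveI := Fact.mk hp
    set C := centralizer (part p M : Set G)
    have hCn : normalizer (part p M : Set G) ≤ normalizer (C : Set G) :=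
      CfsgLib.Signalizer.normalizer_le_normalizer_centralizer_set _
    have hCi : Inv k C := by
      refine ⟨hCn (normalizer_le_part hnil hM.1.norm), fun h3 => ?_⟩
      obtain ⟨x, hx, hx1⟩ := (part p M).bot_or_exists_ne_one.resolve_left (hne p hp hd)
      refine h.not_three_dvd_centralizer hx1 ?_ (h3.trans (card_dvd_of_le (centralizer_le (Set.singleton_subset_iff.2 hx))))
      exact fun hd3 => hM.1.prime_three (hd3.trans (Subgroup.orderOf_dvd_natCard M (part_le p M hx)))
    have := hM.2 _ (Inv.sup hM.1 hCi ((le_normalizer.trans (normalizer_le_part hnil)).trans hCn)) le_sup_right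
    exact le_sup_left.trans this.le
  have hnorm : normalizer (part q M : Set G) ≤ normalizer (M : Set G) := by
    set C := centralizer (part q M : Set G)
    have e : C ⊔ part q M = M := by
      refine le_antisymm (sup_le (hcC q h.prime hdiv.2) (part_le q M)) ?_
      intro x hx
      haveI := hnil
      have h2 : part 2 M ≤ C := fun y hy => mem_centralizer_iff.2 fun w hw =>
        (commute_parts (Ne.symm h.ne_two) hnil hy hw).symm
      have hM' : M = part 2 M ⊔ part q M := by
        refine (eq_of_le_of_card_ge (sup_le (part_le 2 M) (part_le q M)) ?_).symm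
        refine Nat.le_of_dvd Nat.card_pos ?_
        have hcop : Nat.Coprime (Nat.card (part 2 M)) (Nat.card (part q M)) := by
          rw [card_part, card_part]
          exact Nat.Coprime.pow _ _ ((Nat.coprime_primes Nat.prime_two h.prime).2 (Ne.symm h.ne_two))
        refine dvd_trans ?_ (Nat.Coprime.mul_dvd_of_dvd_of_dvd hcop (card_dvd_of_le le_sup_left) (card_dvd_of_le le_sup_right))
        rw [card_part, card_part]
        refine dvd_of_eq ?_
        conv_lhs => rw [← Nat.factorization_prod_pow_eq_self (n := Nat.card M) Nat.card_pos.ne']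
        have hsupp : (Nat.card M).factorization.support = {2, q} := by
          rw [Nat.support_factorization]
          ext r
          rw [Nat.mem_primeFactors, Finset.mem_insert, Finset.mem_singleton]
          constructor
          · rintro ⟨hr, hrd, -⟩
            exact h.primes (card_subgroup_dvd_card M) hM.1.prime_three hr hrd
          · rintro (rfl | rfl)
            exacts [⟨Nat.prime_two, hdiv.1, Nat.card_pos.ne'⟩, ⟨h.prime, hdiv.2, Nat.card_pos.ne'⟩]
        rw [Finsupp.prod, hsupp, Finset.prod_pair (Ne.symm h.ne_two)]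
      rw [hM'] at hx
      exact (sup_le_sup_right h2 _) hx
    intro g hg
    rw [mem_normalizer_iff_map_conj_eq, ← e, Subgroup.map_sup, mem_normalizer_iff_map_conj_eq.1 hg,
      mem_normalizer_iff_map_conj_eq.1 (CfsgLib.Signalizer.normalizer_le_normalizer_centralizer_set _ hg)]
  have hQ := h.q_part_full hk hM hdiv.2 hnorm
  obtain ⟨S, hS⟩ := (isPGroup_part 2 M).exists_le_sylow
  haveI : Nontrivial (S : Subgroup G) := (nontrivial_iff_ne_bot _).2 fun e =>
    hne 2 Nat.prime_two hdiv.1 (le_bot_iff.1 (e ▸ hS))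
  haveI := S.isPGroup'.center_nontrivial
  obtain ⟨z, hz⟩ := exists_prime_orderOf_dvd_card' (G := center (S : Subgroup G)) 2 (by
    obtain ⟨i, hi, hi'⟩ := (S.isPGroup'.to_subgroup (center (S : Subgroup G))).nontrivial_iff_card.1 inferInstance
    rw [hi']; exact dvd_pow_self 2 (by omega))
  rw [← Subgroup.orderOf_coe, ← Subgroup.orderOf_coe] at hz
  set c : G := ((z : (S : Subgroup G)) : G)
  have hzS : ∀ s ∈ (S : Subgroup G), s * c = c * s := fun s hs =>
    congrArg Subtype.val (mem_center_iff.1 z.2 ⟨s, hs⟩)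
  have hcM : c ∈ part 2 M := mem_part_of_orderOf hnil (n := 1)
    (hcC 2 Nat.prime_two hdiv.1 (mem_centralizer_iff.2 fun x hx => hzS x (hS hx))) (by rw [hz, pow_one])
  have hc1 : c ≠ 1 := fun e => by rw [e, orderOf_one] at hz; omega
  set C := centralizer ({c} : Set G)
  have hSC : (S : Subgroup G) ≤ C := fun s hs => mem_centralizer_singleton_iff.2 (hzS s hs)
  have hQC : part q M ≤ C := fun y hy => mem_centralizer_singleton_iff.2
    (commute_parts (Ne.symm h.ne_two) hnil hcM hy).symm
  have hSc : Nat.card (S : Subgroup G) = 2 ^ a := by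
    have hnd : ¬ 2 ∣ 9 * q ^ b := Nat.two_dvd_ne_zero.2 (Nat.odd_iff.1
      ((show Odd 9 by decide).mul (h.prime.odd_of_ne_two h.ne_two).pow))
    rw [S.card_eq_multiplicity, h.card, show 9 * 2 ^ a * q ^ b = 2 ^ a * (9 * q ^ b) by ring,
      Nat.factorization_mul (by positivity) (Nat.mul_ne_zero (by norm_num) (pow_ne_zero _ h.prime.ne_zero)),
      Finsupp.add_apply, Nat.factorization_eq_zero_of_not_dvd hnd, Nat.prime_two.factorization_pow,
      Finsupp.single_eq_same, add_zero]
  have hd : 2 ^ a * q ^ b ∣ Nat.card C := Nat.Coprime.mul_dvd_of_dvd_of_dvd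
    (Nat.Coprime.pow _ _ ((Nat.coprime_primes Nat.prime_two h.prime).2 (Ne.symm h.ne_two)))
    (hSc ▸ card_dvd_of_le hSC) (hQ ▸ card_dvd_of_le hQC)
  obtain ⟨w, hw⟩ := hd
  have hidx := C.card_mul_index
  rw [hw, h.card] at hidx
  have h9 : w * C.index = 3 ^ 2 := by
    apply Nat.eq_of_mul_eq_mul_left (show 0 < 2 ^ a * q ^ b from Nat.mul_pos (by positivity) (pow_pos h.prime.pos _))
    rw [← mul_assoc, hidx]; ring
  obtain ⟨i, -, hi⟩ := (Nat.dvd_prime_pow Nat.prime_three).1 (Dvd.intro_left w h9)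
  have hprime := CfsgLib.Burnside.prime_card_of_prime_pow_class Nat.prime_three hc1 hi
  exact h.nonab ⟨⟨fun x y => by
    haveI : Fact (Nat.card G).Prime := ⟨hprime⟩
    haveI : IsCyclic G := isCyclic_of_prime_card rfl
    letI := IsCyclic.commGroup (α := G)
    exact mul_comm x y⟩⟩

end CfsgLib.Known.ThreeNine
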