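import Cfsg.Agent.Lib.Known.ThreeNine.Invol
import Cfsg.Agent.S0217
import Cfsg.Agent.S1279
import Cfsg.Agent.Lib.Core.Coprime

/-!
# An invariant elementary subgroup of order at least eight
-/

set_option autoImplicit false
set_option linter.all false

namespace CfsgLib.Known.ThreeNine

open Subgroup

universe u

theorem core_map_mem {H H' : Type*} [Group H] [Finite H] [Group H'] (e : H ≃* H')
    {p : ℕ} {x y : H} (hy : y ∈ Cfsg.centralizerPPrimeCore p x) :
    e y ∈ Cfsg.centralizerPPrimeCore p (e x) := by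
  obtain ⟨c, hc, rfl⟩ := hy
  let g : centralizer ({x} : Set H) →* centralizer ({e x} : Set H') :=
    (e.toMonoidHom.comp (centralizer ({x} : Set H)).subtype).codRestrict _ fun d =>
      mem_centralizer_singleton_iff.mpr (by
        show e d * e x = e x * e d
        rw [← map_mul, ← map_mul, mem_centralizer_singleton_iff.mp d.2])
  have hg : Function.Surjective g := fun d => by
    obtain ⟨d', hd'⟩ := e.surjective d.1
    refine ⟨⟨d', mem_centralizer_singleton_iff.mpr (e.injective ?_)⟩, Subtype.ext hd'⟩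
    rw [map_mul, map_mul, hd', mem_centralizer_singleton_iff.mp d.2]
  exact ⟨g c, CfsgLib.Core.map_pPrimeCore_le g hg (mem_map_of_mem g hc), rfl⟩

variable {G : Type u} [Group G] [Finite G] {R : Sylow 3 G} {q a b : ℕ} {k : G} {U : Subgroup G}

theorem One.core_eq_bot_of_elementary (h : One R q a b) [IsSimpleGroup G] (hk : orderOf k = 3)
    {A : Subgroup G} (hA : Inv k A) (hAel : Cfsg.IsElementaryAbelian 2 A) (h8 : 8 ≤ Nat.card A) :
    ∀ x ∈ A, x ≠ 1 → Cfsg.centralizerPPrimeCore 2 x = ⊥ := by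
  classical
  haveI : Fact (Nat.Prime 2) := ⟨Nat.prime_two⟩
  haveI : IsMulCommutative A := hAel.1
  have hord : ∀ x ∈ A, x ≠ 1 → ¬ 3 ∣ orderOf x := fun x hx hx1 => by
    rw [orderOf_eq_prime (p := 2) (hAel.2 x hx) hx1]; norm_num
  have h3C : ∀ x ∈ A, x ≠ 1 → ¬ 3 ∣ Nat.card (centralizer ({x} : Set G)) := fun x hx hx1 =>
    h.not_three_dvd_centralizer hx1 (hord x hx hx1)
  set θ : G → Subgroup G := fun x => Cfsg.centralizerPPrimeCore 2 x with hθ
  obtain ⟨⟨hθC, hθp, hθinv, hbal⟩, hθs⟩ :=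
    Cfsg.Agent.S1279.result 2 A hAel (le_trans (by norm_num) h8) fun x hx hx1 =>
      h.toData.isSolvable_local (h3C x hx hx1)
  obtain ⟨hWodd, -⟩ := Cfsg.Agent.S0217.result (p := 2) A
    (fun x hx y hy => congrArg Subtype.val (hAel.1.is_comm.comm (⟨x, hx⟩ : A) ⟨y, hy⟩)) hAel.2
    (le_trans (by norm_num) h8) θ hθC hθp hθinv hθs hbal
  set W : Subgroup G := ⨆ x : {x : G // x ∈ A ∧ x ≠ 1}, θ x with hW
  have hnorm : ∀ g : G, (∀ x ∈ A, g * x * g⁻¹ ∈ A) → g ∈ normalizer (W : Set G) := by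
    intro g hg
    refine mem_normalizer_iff_map_conj_eq.2 (eq_of_le_of_card_ge ?_
      (card_map_of_injective (MulAut.conj g).injective).ge)
    rw [hW, Subgroup.map_iSup, iSup_le_iff]
    rintro ⟨x, hx, hx1⟩ _ ⟨y, hy, rfl⟩
    exact le_iSup (fun z : {z : G // z ∈ A ∧ z ≠ 1} => θ z)
      ⟨g * x * g⁻¹, hg x hx, fun e => hx1 (conj_eq_one_iff.1 e)⟩ (core_map_mem (MulAut.conj g) hy)
  have hAW : A ≤ normalizer (W : Set G) := fun g hg => hnorm g fun x hx =>
    A.mul_mem (A.mul_mem hg hx) (A.inv_mem hg)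
  have hkW : k ∈ normalizer (W : Set G) := hnorm k fun x hx => hA.conj_mem hx
  have hA2 : IsPGroup 2 A := fun x => ⟨1, Subtype.ext (by simpa using hAel.2 x x.2)⟩
  obtain ⟨i, hi⟩ := hA2.exists_card_eq
  have hnc : ¬ IsCyclic A := fun hc => by
    obtain ⟨g, hg⟩ := hc.exists_ofOrder_eq_natCard
    have := orderOf_le_of_pow_eq_one two_pos (show g ^ 2 = 1 from Subtype.ext (by simpa using hAel.2 g g.2))
    omega
  have hW3 : ¬ 3 ∣ Nat.card W := by
    intro h3
    haveI : Fact (Nat.Prime 3) := ⟨Nat.prime_three⟩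
    haveI : Group.IsSolvable A := by haveI := hA2.isNilpotent; infer_instance
    obtain ⟨P, hP⟩ := CfsgLib.Core.exists_invariant_sylow hAW (by
      rw [hi]; exact Nat.Coprime.pow_left _ ((Nat.Prime.coprime_iff_not_dvd Nat.prime_two).2 hWodd))
      (Or.inl inferInstance) 3
    set T := (P : Subgroup W).map W.subtype
    have hT3 : IsPGroup 3 T := P.isPGroup'.map _
    obtain ⟨j, hj⟩ := hT3.exists_card_eq
    have hT : T = ⊥ := by
      rw [← Cfsg.Agent.S0058.result A T hnc hP (by rw [hi, hj]; exact Nat.Coprime.pow _ _ (by norm_num)),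
        eq_bot_iff]
      refine iSup₂_le fun x hx y hy => ?_
      rw [mem_bot]
      have h1 := hj ▸ Subgroup.orderOf_dvd_natCard T hy.1
      have h2 := Subgroup.orderOf_dvd_natCard _ hy.2
      exact orderOf_eq_one_iff.1 (Nat.eq_one_of_dvd_coprimes
        ((Nat.Prime.coprime_iff_not_dvd Nat.prime_three).2 (h3C x hx.1 hx.2) |>.pow_left j) h1 h2)
    have h4 := P.dvd_card_of_dvd_card h3
    rw [← card_map_of_injective (K := (P : Subgroup W)) W.subtype_injective] at h4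
    change 3 ∣ Nat.card T at h4
    rw [hT, card_bot] at h4
    norm_num at h4
  have hWA : Inv k (W ⊔ A) := Inv.sup hA ⟨hkW, hW3⟩ hAW
  have hA1 : A ≠ ⊥ := fun e => by rw [e, card_bot] at h8; omega
  have h2 : IsPGroup 2 (W ⊔ A : Subgroup G) := (h.isPGroup_inv hk hWA).resolve_right fun hq =>
    hA1 (h.toData.not_isPGroup_both hA2 (hq.to_le le_sup_right))
  have hW1 : W = ⊥ := by
    obtain ⟨j, hj⟩ := (h2.to_le (le_sup_left : W ≤ W ⊔ A)).exists_card_eq
    rcases Nat.eq_zero_or_pos j with e | e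
    · exact eq_bot_of_card_eq W (by rw [hj, e, pow_zero])
    · exact absurd (hj ▸ dvd_pow_self 2 e.ne') hWodd
  exact fun x hx hx1 => le_bot_iff.1 (hW1 ▸ le_iSup (fun z : {z : G // z ∈ A ∧ z ≠ 1} => θ z) ⟨x, hx, hx1⟩)

/-- Either `G` is a CIT-group or the involutions of `U` lie in the four group. -/
theorem One.cit_or_omega (h : One R q a b) [IsSimpleGroup G] {S : Sylow 2 G} (hB : Big k U S)
    {V : Subgroup G} (hV : Inv k V) (hV4 : Nat.card V = 4) (hVU : V ≤ U) (hVe : ∀ v ∈ V, v * v = 1)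
    (hCV : centralizer (V : Set G) = U) :
    CIT.CIT G ∨ ∀ x ∈ U, x * x = 1 → x ∈ V := by
  classical
  haveI : Fact (Nat.Prime 2) := ⟨Nat.prime_two⟩
  by_cases hall : ∀ x ∈ U, x * x = 1 → x ∈ V
  · exact Or.inr hall
  refine Or.inl (h.cit_of_cores hB fun x hx hx2 hx1 => ?_)
  have hA : ∀ y ∈ U, y * y = 1 → y ≠ 1 → y ∉ V → ∃ A : Subgroup G, Inv k A ∧ Cfsg.IsElementaryAbelian 2 A ∧
      8 ≤ Nat.card A ∧ V ≤ A ∧ y ∈ A := by
    intro y hy hy2 hy1 hyV
    obtain ⟨Y, hY, hY4, hYU, hyY, -, hYmem, -, hYe⟩ := hB.max.1.orbit_four h.toData hB.order hy hy2 hy1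
    have hYcomm : ∀ u ∈ Y, ∀ u' ∈ Y, u * u' = u' * u := fun u hu u' hu' => by
      have e := hYe _ (Y.mul_mem hu hu')
      rw [← inv_eq_of_mul_eq_one_right e, mul_inv_rev, inv_eq_of_mul_eq_one_right (hYe u hu),
        inv_eq_of_mul_eq_one_right (hYe u' hu')]
    have hVY : ∀ v ∈ V, ∀ u ∈ U, v * u = u * v := fun v hv u hu => by
      rw [← hCV] at hu; exact mem_centralizer_iff.1 hu v hv
    let A : Subgroup G :=
      { carrier := {w | ∃ v ∈ V, ∃ u ∈ Y, w = v * u}
        one_mem' := ⟨1, V.one_mem, 1, Y.one_mem, (one_mul 1).symm⟩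
        mul_mem' := by
          rintro _ _ ⟨v, hv, u, hu, rfl⟩ ⟨v', hv', u', hu', rfl⟩
          refine ⟨v * v', V.mul_mem hv hv', u * u', Y.mul_mem hu hu', ?_⟩
          calc v * u * (v' * u') = v * (u * v') * u' := by group
            _ = v * (v' * u) * u' := by rw [hVY v' hv' u (hYU hu)]
            _ = _ := by group
        inv_mem' := by
          rintro _ ⟨v, hv, u, hu, rfl⟩
          refine ⟨v⁻¹, V.inv_mem hv, u⁻¹, Y.inv_mem hu, ?_⟩
          rw [mul_inv_rev, hVY v⁻¹ (V.inv_mem hv) u⁻¹ (U.inv_mem (hYU hu))] }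
    have hVA : V ≤ A := fun v hv => ⟨v, hv, 1, Y.one_mem, (mul_one v).symm⟩
    have hyA : y ∈ A := ⟨1, V.one_mem, y, hyY, (one_mul y).symm⟩
    have hAU : A ≤ U := by rintro _ ⟨v, hv, u, hu, rfl⟩; exact U.mul_mem (hVU hv) (hYU hu)
    have hAi : Inv k A := hB.max.1.mono hAU (mem_normalizer_iff_map_conj_eq.2 (eq_of_le_of_card_ge (by
      rintro _ ⟨_, ⟨v, hv, u, hu, rfl⟩, rfl⟩
      exact ⟨k * v * k⁻¹, hV.conj_mem hv, k * u * k⁻¹, hY.conj_mem hu,
        by show k * (v * u) * k⁻¹ = _; group⟩) (card_map_of_injective (MulAut.conj k).injective).ge))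
    refine ⟨A, hAi, ⟨⟨⟨?_⟩⟩, ?_⟩, ?_, hVA, hyA⟩
    · rintro ⟨_, v, hv, u, hu, rfl⟩ ⟨_, v', hv', u', hu', rfl⟩
      refine Subtype.ext ?_
      show v * u * (v' * u') = v' * u' * (v * u)
      calc v * u * (v' * u') = v * (u * v') * u' := by group
        _ = (v * v') * (u * u') := by rw [← hVY v' hv' u (hYU hu)]; group
        _ = (v' * v) * (u' * u) := by rw [hVY v hv v' (hVU hv'), hYcomm u hu u' hu']
        _ = v' * (v * u') * u := by group
        _ = _ := by rw [hVY v hv u' (hYU hu')]; group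
    · rintro _ ⟨v, hv, u, hu, rfl⟩
      rw [pow_two]
      calc v * u * (v * u) = v * (u * v) * u := by group
        _ = (v * v) * (u * u) := by rw [← hVY v hv u (hYU hu)]; group
        _ = 1 := by rw [hVe v hv, hYe u hu, one_mul]
    · have hlt : Nat.card V < Nat.card A :=
        lt_of_le_of_ne (card_le_of_le hVA) fun e => hyV ((eq_of_le_of_card_ge hVA e.ge).ge hyA)
      obtain ⟨i, hi⟩ := (hB.two.to_le hAU).exists_card_eq
      rw [hi, hV4] at hlt
      rw [hi]
      have : 3 ≤ i := by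
        by_contra hlt'
        have := Nat.pow_le_pow_right (show 0 < 2 by norm_num) (show i ≤ 2 by omega)
        omega
      exact le_trans (by norm_num) (Nat.pow_le_pow_right (show 0 < 2 by norm_num) this)
  by_cases hxV : x ∈ V
  · push Not at hall
    obtain ⟨y, hy, hy2, hyV⟩ := hall
    obtain ⟨A, hAi, hAe, hA8, hVA, -⟩ := hA y hy hy2 (fun e => hyV (e ▸ V.one_mem)) hyV
    exact h.core_eq_bot_of_elementary hB.order hAi hAe hA8 x (hVA hxV) hx1
  · obtain ⟨A, hAi, hAe, hA8, -, hxA⟩ := hA x hx hx2 hx1 hxV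
    exact h.core_eq_bot_of_elementary hB.order hAi hAe hA8 x hxA hx1

end CfsgLib.Known.ThreeNine
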