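import Cfsg.Agent.Lib.Known.ThreeNine.Chars
import Cfsg.Agent.Lib.Known.ThreeNine.Fpf
import Cfsg.Agent.Lib.Components.TwoRankOne

/-!
# The involution inverting a Sylow 3-subgroup, and counting
-/

set_option autoImplicit false
set_option linter.all false

namespace CfsgLib.Known.ThreeNine

open Subgroup

universe u

variable {G : Type u} [Group G] [Finite G] {R : Sylow 3 G} {q a b : ℕ}

theorem One.exists_orderOf_three (h : One R q a b) : ∃ r ∈ (R : Subgroup G), r ≠ 1 ∧ orderOf r = 3 := by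
  have h9 := h.card_R
  obtain ⟨r, hr, hr1⟩ := (R : Subgroup G).bot_or_exists_ne_one.resolve_left fun e => by
    rw [e, card_bot] at h9; omega
  haveI : Fact (Nat.Prime 3) := ⟨Nat.prime_three⟩
  exact ⟨r, hr, hr1, orderOf_eq_prime (h.cube r hr) hr1⟩

theorem One.card_normalizer (h : One R q a b) :
    Nat.card (normalizer ((R : Subgroup G) : Set G)) = 72 := by
  classical
  obtain ⟨r, hr, hr1, -⟩ := h.exists_orderOf_three
  set N := normalizer ((R : Subgroup G) : Set G)
  let X : Type u := {x : (R : Subgroup G) // x ≠ 1}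
  let f : N → X := fun g => ⟨⟨(g : G) * r * (g : G)⁻¹, (mem_normalizer_iff.1 g.2 r).1 hr⟩,
    fun e => hr1 (conj_eq_one_iff.1 (congrArg Subtype.val e))⟩
  haveI := Fintype.ofFinite N
  haveI := Fintype.ofFinite (R : Subgroup G)
  have hX : Fintype.card X = 8 := by
    rw [Fintype.card_subtype_compl, Fintype.card_subtype_eq, ← Nat.card_eq_fintype_card, h.card_R]
  have hfib : ∀ x : X, Fintype.card {g : N // f g = x} = 9 := by
    intro x
    obtain ⟨g0, hg0, e0⟩ := h.one_class r hr hr1 x.1 x.1.2 fun e => x.2 (Subtype.ext e)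
    rw [← Nat.card_eq_fintype_card, ← h.card_R]
    refine Nat.card_congr
      { toFun := fun g => ⟨g0⁻¹ * g.1, ?_⟩
        invFun := fun c => ⟨⟨g0 * c, N.mul_mem hg0 (le_normalizer c.2)⟩, ?_⟩
        left_inv := fun g => Subtype.ext (Subtype.ext (mul_inv_cancel_left g0 _))
        right_inv := fun c => Subtype.ext (inv_mul_cancel_left g0 _) }
    · rw [← h.cen r hr hr1]
      have e1 : (g.1 : G) * r * (g.1 : G)⁻¹ = g0 * r * g0⁻¹ :=
        (congrArg (fun z : X => (z.1 : G)) g.2).trans e0.symm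
      refine mem_centralizer_singleton_iff.2 ?_
      calc g0⁻¹ * g.1 * r = g0⁻¹ * ((g.1 : G) * r * (g.1 : G)⁻¹) * g.1 := by group
        _ = r * (g0⁻¹ * g.1) := by rw [e1]; group
    · refine Subtype.ext (Subtype.ext ?_)
      show g0 * c * r * (g0 * c)⁻¹ = x.1
      rw [← e0]
      calc g0 * c * r * (g0 * c)⁻¹ = g0 * (c * r * (c : G)⁻¹) * g0⁻¹ := by group
        _ = _ := by rw [h.comm c c.2 r hr, mul_inv_cancel_right]
  rw [Nat.card_eq_fintype_card, ← Fintype.card_congr (Equiv.sigmaFiberEquiv f), Fintype.card_sigma,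
    Finset.sum_congr rfl (fun x _ => hfib x), Finset.sum_const, Finset.card_univ, hX]
  rfl

/-- A group of order eight with one involution inside the normaliser, the involution inverting. -/
theorem One.exists_inverter (h : One R q a b) : ∃ (z : G) (E : Subgroup G), Nat.card E = 8 ∧
    E ≤ normalizer ((R : Subgroup G) : Set G) ∧ z ∈ E ∧ z * z = 1 ∧ z ≠ 1 ∧
    (∀ g ∈ (R : Subgroup G), z * g * z⁻¹ = g⁻¹) ∧ ∀ e ∈ E, e * e = 1 → e = 1 ∨ e = z := by
  haveI : Fact (Nat.Prime 2) := ⟨Nat.prime_two⟩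
  set N := normalizer ((R : Subgroup G) : Set G)
  obtain ⟨P⟩ := Sylow.nonempty (p := 2) (G := N)
  have hP : Nat.card (P : Subgroup N) = 8 := by
    rw [P.card_eq_multiplicity, h.card_normalizer]
    have : Nat.factorization 72 2 = 3 := by
      rw [show 72 = 2 ^ 3 * 9 by norm_num, Nat.factorization_mul (by norm_num) (by norm_num),
        Finsupp.add_apply, Nat.prime_two.factorization_pow, Finsupp.single_eq_same,
        Nat.factorization_eq_zero_of_not_dvd (by norm_num), add_zero]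
    rw [this]; rfl
  set E := (P : Subgroup N).map N.subtype with hE
  have hE8 : Nat.card E = 8 := by rw [hE, card_map_of_injective N.subtype_injective, hP]
  obtain ⟨z, hz⟩ := exists_prime_orderOf_dvd_card' (G := E) 2 (by rw [hE8]; norm_num)
  rw [← Subgroup.orderOf_coe] at hz
  have hinv : ∀ e ∈ E, e * e = 1 → e ≠ 1 → ∀ g ∈ (R : Subgroup G), e * g * e⁻¹ = g⁻¹ := by
    intro e he he2 he1 g hg
    have heN : e ∈ N := map_subtype_le _ he
    have hg' := (mem_normalizer_iff.1 heN g).1 hg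
    set c := g * (e * g * e⁻¹) with hc
    by_cases hc1 : c = 1
    · exact (eq_inv_of_mul_eq_one_right hc1)
    exfalso
    have hfix : e * c = c * e := by
      rw [← mul_inv_eq_iff_eq_mul, hc]
      calc e * (g * (e * g * e⁻¹)) * e⁻¹ = (e * g * e⁻¹) * ((e * e) * g * (e * e)⁻¹) := by group
        _ = e * g * e⁻¹ * g := by rw [he2]; group
        _ = g * (e * g * e⁻¹) := h.comm _ hg' _ hg
    have heR := h.mem_of_commute ((R : Subgroup G).mul_mem hg hg') hc1 hfix
    exact he1 (by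
      have h3 := h.cube e heR
      rwa [pow_succ, pow_two, he2, one_mul] at h3)
  have hz2 : (z : G) * z = 1 := by rw [← pow_two, ← hz]; exact pow_orderOf_eq_one _
  have hz1 : (z : G) ≠ 1 := fun e => by rw [e, orderOf_one] at hz; omega
  refine ⟨z, E, hE8, map_subtype_le _, z.2, hz2, hz1, hinv _ z.2 hz2 hz1, fun e he he2 => ?_⟩
  by_contra hcon
  push Not at hcon
  obtain ⟨r, hr, hr1, -⟩ := h.exists_orderOf_three
  have h1 : e * (z : G) ∈ (R : Subgroup G) := by
    refine h.mem_of_commute hr hr1 ?_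
    calc e * z * r = e * ((z : G) * r * (z : G)⁻¹) * z := by group
      _ = e * r⁻¹ * e⁻¹ * (e * z) := by rw [hinv _ z.2 hz2 hz1 r hr]; group
      _ = (e * r * e⁻¹)⁻¹ * (e * z) := by group
      _ = r * (e * z) := by rw [hinv e he he2 hcon.1 r hr, inv_inv]
  have h2 := Subgroup.orderOf_dvd_natCard _ h1
  have h3 := Subgroup.orderOf_dvd_natCard _ (E.mul_mem he z.2)
  rw [h.card_R] at h2
  rw [hE8] at h3
  have h4 := orderOf_eq_one_iff.1 (Nat.eq_one_of_dvd_coprimes (by norm_num : Nat.Coprime 9 8) h2 h3)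
  exact hcon.2 (by rw [← inv_eq_of_mul_eq_one_left hz2]; exact eq_inv_of_mul_eq_one_left h4)

/-- Every involution inverting an element of order three is conjugate to the distinguished one. -/
theorem One.inverter_conj (h : One R q a b) {z t r : G}
    (hz : ∀ g ∈ (R : Subgroup G), z * g * z⁻¹ = g⁻¹) (hz2 : z * z = 1)
    (hr : r ∈ (R : Subgroup G)) (hr1 : r ≠ 1) (ht2 : t * t = 1) (ht : t * r * t⁻¹ = r⁻¹) :
    IsConj z t := by
  have hrho : t * z ∈ (R : Subgroup G) := by
    refine h.mem_of_commute hr hr1 ?_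
    calc t * z * r = t * (z * r * z⁻¹) * z := by group
      _ = (t * r * t⁻¹)⁻¹ * (t * z) := by rw [hz r hr]; group
      _ = r * (t * z) := by rw [ht, inv_inv]
  set ρ := t * z with hρ
  have h3 := h.cube ρ hrho
  refine isConj_iff.2 ⟨ρ * ρ, ?_⟩
  have hy := hz _ ((R : Subgroup G).inv_mem ((R : Subgroup G).mul_mem hrho hrho))
  rw [inv_inv] at hy
  rw [pow_succ, pow_two] at h3
  calc ρ * ρ * z * (ρ * ρ)⁻¹ = ρ * ρ * (z * (ρ * ρ)⁻¹ * z⁻¹) * z := by group
    _ = ρ * ρ * ρ * ρ * z := by rw [hy]; simp only [mul_assoc]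
    _ = ρ * z := by rw [h3, one_mul]
    _ = t := by rw [hρ, mul_assoc, hz2, mul_one]

theorem One.exists_inverts (h : One R q a b) {k : G} (hk : orderOf k = 3) :
    ∃ t : G, t * t = 1 ∧ t ≠ 1 ∧ t * k * t⁻¹ = k⁻¹ := by
  obtain ⟨x, hxR, hx1⟩ := h.exists_conj_mem hk
  obtain ⟨z, E, -, -, -, hz2, hz1, hz, -⟩ := h.exists_inverter
  refine ⟨x⁻¹ * z * x, ?_, fun e => hz1 ?_, ?_⟩
  · calc x⁻¹ * z * x * (x⁻¹ * z * x) = x⁻¹ * (z * z) * x := by group
      _ = 1 := by rw [hz2]; group
  · calc z = x * (x⁻¹ * z * x) * x⁻¹ := by group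
      _ = 1 := by rw [e]; group
  · calc x⁻¹ * z * x * k * (x⁻¹ * z * x)⁻¹ = x⁻¹ * (z * (x * k * x⁻¹) * z⁻¹) * x := by group
      _ = k⁻¹ := by rw [hz _ hxR]; group

theorem One.card_centralizer (h : One R q a b) {k : G} (hk : orderOf k = 3) :
    Nat.card (centralizer ({k} : Set G)) = 9 := by
  obtain ⟨x, hxR, hx1⟩ := h.exists_conj_mem hk
  rw [← h.card_R, ← h.cen _ hxR hx1]
  refine Nat.card_congr
    { toFun := fun c => ⟨x * c * x⁻¹, mem_centralizer_singleton_iff.2 ?_⟩
      invFun := fun c => ⟨x⁻¹ * c * x, mem_centralizer_singleton_iff.2 ?_⟩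
      left_inv := fun c => Subtype.ext (by show x⁻¹ * (x * c * x⁻¹) * x = c; group)
      right_inv := fun c => Subtype.ext (by show x * (x⁻¹ * c * x) * x⁻¹ = c; group) }
  · calc x * c * x⁻¹ * (x * k * x⁻¹) = x * ((c : G) * k) * x⁻¹ := by group
      _ = x * (k * c) * x⁻¹ := by rw [mem_centralizer_singleton_iff.1 c.2]
      _ = _ := by group
  · calc x⁻¹ * c * x * k = x⁻¹ * ((c : G) * (x * k * x⁻¹)) * x := by group
      _ = x⁻¹ * (x * k * x⁻¹ * c) * x := by rw [mem_centralizer_singleton_iff.1 c.2]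
      _ = _ := by group

theorem One.card_sylow_two (h : One R q a b) (S : Sylow 2 G) : Nat.card (S : Subgroup G) = 2 ^ a := by
  have hnd : ¬ 2 ∣ 9 * q ^ b := Nat.two_dvd_ne_zero.2 (Nat.odd_iff.1
    ((show Odd 9 by decide).mul (h.prime.odd_of_ne_two h.ne_two).pow))
  rw [S.card_eq_multiplicity, h.card, show 9 * 2 ^ a * q ^ b = 2 ^ a * (9 * q ^ b) by ring,
    Nat.factorization_mul (by positivity) (Nat.mul_ne_zero (by norm_num) (pow_ne_zero _ h.prime.ne_zero)),
    Finsupp.add_apply, Nat.factorization_eq_zero_of_not_dvd hnd, Nat.prime_two.factorization_pow,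
    Finsupp.single_eq_same, add_zero]

theorem One.exists_sylow_ge (h : One R q a b) : ∃ (S : Sylow 2 G) (z : G) (E : Subgroup G),
    Nat.card E = 8 ∧ E ≤ (S : Subgroup G) ∧ z ∈ E ∧ z * z = 1 ∧ z ≠ 1 ∧
    (∀ g ∈ (R : Subgroup G), z * g * z⁻¹ = g⁻¹) ∧ ∀ e ∈ E, e * e = 1 → e = 1 ∨ e = z := by
  obtain ⟨z, E, hE8, -, hzE, hz2, hz1, hz, huniq⟩ := h.exists_inverter
  haveI : Fact (Nat.Prime 2) := ⟨Nat.prime_two⟩
  obtain ⟨S, hS⟩ := (IsPGroup.of_card (n := 3) (by rw [hE8]; norm_num) : IsPGroup 2 E).exists_le_sylow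
  exact ⟨S, z, E, hE8, hS, hzE, hz2, hz1, hz, huniq⟩

theorem One.four_le_a (h : One R q a b) [IsSimpleGroup G] : 4 ≤ a := by
  obtain ⟨S, z, E, hE8, hES, hzE, hz2, hz1, hz, huniq⟩ := h.exists_sylow_ge
  have h1 := card_le_of_le hES
  rw [hE8, h.card_sylow_two] at h1
  rcases Nat.lt_or_ge a 4 with ha | ha
  · exfalso
    have ha3 : a = 3 := by
      rcases Nat.lt_or_ge a 3 with h3 | h3
      · have := Nat.pow_le_pow_right (show 0 < 2 by norm_num) (show a ≤ 2 by omega); omega
      · omega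
    have hSE : E = (S : Subgroup G) := eq_of_le_of_card_ge hES (by rw [h.card_sylow_two, ha3, hE8]; norm_num)
    haveI : Fact (Nat.Prime 2) := ⟨Nat.prime_two⟩
    have hrk : Cfsg.PRankLE 2 1 G := by
      intro A hA hA2
      obtain ⟨P, hP⟩ := (show IsPGroup 2 A from fun x => ⟨1, Subtype.ext (by simpa using hA2 x x.2)⟩).exists_le_sylow
      obtain ⟨g, hg⟩ := MulAction.exists_smul_eq G P S
      have hmem : ∀ x : A, g * x * g⁻¹ = 1 ∨ g * x * g⁻¹ = z := fun x => by
        refine huniq _ ?_ ?_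
        · rw [hSE, ← hg, Sylow.coe_subgroup_smul]; exact ⟨x, hP x.2, rfl⟩
        · calc g * x * g⁻¹ * (g * x * g⁻¹) = g * ((x : G) ^ 2) * g⁻¹ := by rw [pow_two]; group
            _ = 1 := by rw [hA2 x x.2]; group
      classical
      have hinj : Function.Injective fun x : A => decide (g * (x : G) * g⁻¹ = 1) := by
        intro x y e
        simp only [decide_eq_decide] at e
        refine Subtype.ext (mul_left_cancel (a := g) (mul_right_cancel (b := g⁻¹) ?_))
        rcases hmem x with hx | hx <;> rcases hmem y with hy | hy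
        · rw [hx, hy]
        · rw [hx, e.1 hx]
        · rw [hy, e.2 hy]
        · rw [hx, hy]
      have := Nat.card_le_card_of_injective _ hinj
      simpa using this
    have hq : Cfsg.IsQuasisimple G := by
      refine ⟨⟨h.toData.perfect⟩, ?_⟩
      exact ((QuotientGroup.quotientMulEquivOfEq h.toData.center_eq_bot).trans
        (QuotientGroup.quotientBot (G := G))).isSimpleGroup
    obtain ⟨t, ht, htc⟩ := Components.exists_central_involution_of_rank_le_one hq h.toData.two_dvd hrk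
    rw [h.toData.center_eq_bot, mem_bot] at htc
    rw [htc, orderOf_one] at ht
    omega
  · exact ha

/-- No elementary abelian subgroup of order sixteen when `a ≤ 5`. -/
theorem One.no_elementary_sixteen (h : One R q a b) (ha : a ≤ 5) {M : Subgroup G}
    (hM : Cfsg.IsElementaryAbelian 2 M) : Nat.card M ≠ 16 := by
  classical
  intro hM16
  obtain ⟨z, E, hE8, -, hzE, hz2, hz1, hz, huniq⟩ := h.exists_inverter
  haveI : Fact (Nat.Prime 2) := ⟨Nat.prime_two⟩
  obtain ⟨S, hS⟩ := (IsPGroup.of_card (n := 4) (by rw [hM16]; norm_num) : IsPGroup 2 M).exists_le_sylow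
  obtain ⟨P, hP⟩ := (IsPGroup.of_card (n := 3) (by rw [hE8]; norm_num) : IsPGroup 2 E).exists_le_sylow
  obtain ⟨g, hg⟩ := MulAction.exists_smul_eq G P S
  set E' := E.map (MulAut.conj g).toMonoidHom with hE'
  have hE'S : E' ≤ (S : Subgroup G) := by
    rw [← hg, Sylow.coe_subgroup_smul]
    rintro _ ⟨x, hx, rfl⟩
    exact ⟨x, hP hx, rfl⟩
  have hcard : Nat.card (S : Subgroup G) ≤ 32 := by
    rw [h.card_sylow_two]; exact Nat.pow_le_pow_right (by norm_num) ha
  let φ : E' × M → (S : Subgroup G) := fun p => ⟨(p.1 : G) * p.2, (S : Subgroup G).mul_mem (hE'S p.1.2) (hS p.2.2)⟩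
  have hmem : ∀ x ∈ E' ⊓ M, x = 1 ∨ x = g * z * g⁻¹ := by
    rintro x ⟨⟨e, he, rfl⟩, hxM⟩
    have hx2 : (MulAut.conj g).toMonoidHom e ^ 2 = 1 := hM.2 _ hxM
    rw [← map_pow, map_eq_one_iff (MulAut.conj g).toMonoidHom (MulAut.conj g).injective, pow_two] at hx2
    rcases huniq e he hx2 with rfl | rfl
    · left; simp
    · right; rfl
  haveI := Fintype.ofFinite (E' × M)
  haveI := Fintype.ofFinite (S : Subgroup G)
  have h1 := Finset.card_le_mul_card_image_of_maps_to (f := φ) (s := Finset.univ) (t := Finset.univ)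
    (fun _ _ => Finset.mem_univ _) 2 fun s _ => ?_
  · rw [Finset.card_univ, Finset.card_univ, ← Nat.card_eq_fintype_card, ← Nat.card_eq_fintype_card,
      Nat.card_prod, hE', card_map_of_injective (MulAut.conj g).injective, hE8, hM16] at h1
    omega
  · rcases Finset.eq_empty_or_nonempty (Finset.univ.filter fun p => φ p = s) with e | ⟨p0, hp0⟩
    · rw [e, Finset.card_empty]; exact Nat.zero_le _
    refine le_trans ?_ (Finset.card_le_two (a := (1 : G)) (b := g * z * g⁻¹))
    refine Finset.card_le_card_of_injOn (fun p => (p0.1 : G)⁻¹ * p.1) (fun p hp => ?_) ?_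
    · have e : (p.1 : G) * p.2 = (p0.1 : G) * p0.2 :=
        congrArg Subtype.val ((Finset.mem_filter.1 hp).2.trans (Finset.mem_filter.1 hp0).2.symm)
      have e' : (p0.1 : G)⁻¹ * p.1 = (p0.2 : G) * (p.2 : G)⁻¹ := by
        rw [← mul_inv_eq_iff_eq_mul.2 e.symm]; group
      rw [Finset.mem_coe, Finset.mem_insert, Finset.mem_singleton]
      exact hmem _ ⟨E'.mul_mem (E'.inv_mem p0.1.2) p.1.2, (by
        show (p0.1 : G)⁻¹ * p.1 ∈ M
        rw [e']; exact M.mul_mem p0.2.2 (M.inv_mem p.2.2))⟩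
    · intro p hp p' hp' e
      have e1 : p.1 = p'.1 := Subtype.ext (mul_left_cancel e)
      have e2 : (p.1 : G) * p.2 = (p'.1 : G) * p'.2 :=
        congrArg Subtype.val ((Finset.mem_filter.1 hp).2.trans (Finset.mem_filter.1 hp').2.symm)
      rw [e1] at e2
      exact Prod.ext e1 (Subtype.ext (mul_left_cancel e2))

section Local

variable {k : G} {L U : Subgroup G}

/-- Subgroups generated by an invariant normal subgroup and `k`: decomposition. -/
theorem One.local_decomp (h : One R q a b) (hk : orderOf k = 3) (hU : Inv k U) (hU1 : U ≠ ⊥)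
    (hkL : k ∈ L) (hUL : U ≤ L) (hn : L ≤ normalizer (U : Set G))
    (hc : Nat.card L = 3 * Nat.card U ∨ Nat.card L = 6 * Nat.card U) :
    Nat.card {x : L // orderOf x = 3} ≤ 2 * Nat.card U ∧
      ∀ g ∈ L, g * k * g⁻¹ * k ∈ U ∨ ∃ u ∈ U, ∃ i : ℕ, g = u * k ^ i := by
  haveI : Fact (Nat.Prime 3) := ⟨Nat.prime_three⟩
  set K := zpowers (⟨k, hkL⟩ : L) with hK
  have hK3 : Nat.card K = 3 := by rw [hK, Nat.card_zpowers, ← Subgroup.orderOf_coe]; exact hk
  have hfac : (Nat.card L).factorization 3 = 1 := by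
    rcases hc with hc | hc
    · rw [hc, Nat.factorization_mul (by norm_num) Nat.card_pos.ne', Finsupp.add_apply,
        Nat.factorization_eq_zero_of_not_dvd hU.prime_three, Nat.prime_three.factorization_self]
    · have h2U : (2 * Nat.card U).factorization 3 = 0 := by
        refine Nat.factorization_eq_zero_of_not_dvd fun hd => ?_
        rcases Nat.prime_three.dvd_mul.1 hd with h' | h'
        · norm_num at h'
        · exact hU.prime_three h'
      rw [hc, show (6 : ℕ) = 3 * 2 by norm_num, mul_assoc, Nat.factorization_mul (by norm_num)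
        (Nat.mul_ne_zero two_ne_zero Nat.card_pos.ne'), Finsupp.add_apply, h2U,
        Nat.prime_three.factorization_self]
  let P : Sylow 3 L := Sylow.ofCard K (by rw [hK3, hfac, pow_one])
  have hPK : (P : Subgroup L) = K := Sylow.coe_ofCard _ _
  set n := Nat.card (Sylow 3 L) with hn3
  -- elements of `U` give distinct Sylow subgroups
  have hinj : Function.Injective fun u : U => (⟨u, hUL u.2⟩ : L) • P := by
    intro u v e
    simp only at e
    have e1 : ((⟨v, hUL v.2⟩ : L)⁻¹ * ⟨u, hUL u.2⟩) • P = P := by rw [mul_smul, e, inv_smul_smul]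
    rw [Sylow.smul_eq_iff_mem_normalizer] at e1
    replace e1 : (⟨v, hUL v.2⟩ : L)⁻¹ * ⟨u, hUL u.2⟩ ∈ normalizer ((K : Subgroup L) : Set L) := by
      rw [← hPK]; exact e1
    set w : G := (v : G)⁻¹ * u with hw
    have hwU : w ∈ U := U.mul_mem (U.inv_mem v.2) u.2
    obtain ⟨i, hi⟩ := mem_zpowers_iff.1 ((mem_normalizer_iff.1 e1 _).1 (mem_zpowers (⟨k, hkL⟩ : L)))
    have hi' : w * k * w⁻¹ = k ^ i := (congrArg Subtype.val hi).symm
    have hki : k ^ i * k⁻¹ ∈ U := by
      rw [← hi']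
      have := U.mul_mem hwU (hU.conj_mem (U.inv_mem hwU))
      rwa [show w * (k * w⁻¹ * k⁻¹) = w * k * w⁻¹ * k⁻¹ by group] at this
    have hkk : k ^ i * k⁻¹ = 1 := by
      refine orderOf_eq_one_iff.1 (Nat.eq_one_of_dvd_coprimes
        ((Nat.prime_three.coprime_iff_not_dvd).2 hU.prime_three) ?_ (Subgroup.orderOf_dvd_natCard U hki))
      have := Subgroup.orderOf_dvd_natCard (zpowers k)
        ((zpowers k).mul_mem ((zpowers k).zpow_mem (mem_zpowers k) i) ((zpowers k).inv_mem (mem_zpowers k)))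
      rwa [Nat.card_zpowers, hk] at this
    rw [mul_inv_eq_one] at hkk
    rw [hkk] at hi'
    have hw1 := hU.fpf h.toData hk hwU (x := w) (by
      rw [mul_inv_eq_iff_eq_mul] at hi' ⊢
      exact hi'.symm)
    exact Subtype.ext (inv_mul_eq_one.1 hw1).symm
  have hge : Nat.card U ≤ n := Nat.card_le_card_of_injective _ hinj
  have hnd : n ∣ 2 * Nat.card U := by
    have h1 := P.card_dvd_index
    have h2 := (P : Subgroup L).card_mul_index
    rw [hPK, hK3] at h2
    rw [hPK] at h1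
    refine h1.trans ?_
    rcases hc with hc | hc
    · exact Dvd.intro_left 2 (by rw [Nat.eq_of_mul_eq_mul_left (by norm_num) (h2.trans hc)])
    · exact dvd_of_eq (Nat.eq_of_mul_eq_mul_left (show 0 < 3 by norm_num) (by rw [h2, hc]; ring))
  have hn_eq : n = Nat.card U := by
    obtain ⟨c, hc2⟩ := hnd
    have hm := card_sylow_modEq_one 3 L
    rw [← hn3, Nat.ModEq] at hm
    have hUm := hU.card_mod h.toData hk
    have hpos := Nat.card_pos (α := U)
    rcases Nat.lt_or_ge c 2 with hlt | hge2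
    · rcases Nat.lt_or_ge c 1 with h0 | h1
      · have : c = 0 := by omega
        rw [this, mul_zero] at hc2; omega
      · have : c = 1 := by omega
        rw [this, mul_one] at hc2; omega
    · have := Nat.mul_le_mul_left n hge2; omega
  refine ⟨?_, fun g hg => ?_⟩
  · haveI := Fintype.ofFinite L
    classical
    let f : {x : L // orderOf x = 3} → Sylow 3 L := fun x => Sylow.ofCard (zpowers (x : L))
      (by rw [Nat.card_zpowers, x.2, hfac, pow_one])
    haveI := Fintype.ofFinite (Sylow 3 L)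
    rw [← hn_eq, hn3, Nat.card_eq_fintype_card, Nat.card_eq_fintype_card, ← Finset.card_univ, ← Finset.card_univ]
    refine Finset.card_le_mul_card_image_of_maps_to (f := f) (fun _ _ => Finset.mem_univ _) 2 fun X _ => ?_
    rcases Finset.eq_empty_or_nonempty (Finset.univ.filter fun x => f x = X) with e | ⟨x0, hx0⟩
    · rw [e, Finset.card_empty]; exact Nat.zero_le _
    refine le_trans ?_ (Finset.card_le_two (a := (x0 : L)) (b := (x0 : L)⁻¹))
    refine Finset.card_le_card_of_injOn (fun x => (x : L)) (fun x hx => ?_)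
      (fun x _ y _ e => Subtype.ext e)
    rw [Finset.mem_coe, Finset.mem_insert, Finset.mem_singleton]
    have e : zpowers (x : L) = zpowers (x0 : L) := by
      have := congrArg (fun Y : Sylow 3 L => (Y : Subgroup L))
        ((Finset.mem_filter.1 hx).2.trans (Finset.mem_filter.1 hx0).2.symm)
      simpa [f, Sylow.coe_ofCard] using this
    obtain ⟨i, hi⟩ := mem_zpowers_iff.1 (show (x : L) ∈ zpowers (x0 : L) by rw [← e]; exact mem_zpowers _)
    have hx03 : (x0 : L) ^ 3 = 1 := orderOf_dvd_iff_pow_eq_one.1 (dvd_of_eq x0.2)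
    rw [zpow_eq_zpow_emod' i (n := 3) hx03] at hi
    rcases (show i % 3 = 0 ∨ i % 3 = 1 ∨ i % 3 = 2 by omega) with e' | e' | e'
    · push_cast at hi
      rw [e', zpow_zero] at hi
      have h1 := x.2
      rw [← hi, orderOf_one] at h1
      omega
    · left; push_cast at hi; rw [e', zpow_one] at hi; exact hi.symm
    · right
      push_cast at hi
      rw [e'] at hi
      rw [show (2 : ℤ) = ((2 : ℕ) : ℤ) from rfl, zpow_natCast] at hi
      show (x : L) = _
      rw [← hi, eq_inv_iff_mul_eq_one, ← pow_succ]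
      exact hx03
  · -- every Sylow subgroup is a conjugate under `U`
    obtain ⟨u, hu⟩ := ((Nat.bijective_iff_injective_and_card _).2 ⟨hinj, hn_eq.symm.trans hn3⟩).2
      ((⟨g, hg⟩ : L) • P)
    simp only at hu
    have e1 : ((⟨u, hUL u.2⟩ : L)⁻¹ * ⟨g, hg⟩) • P = P := by rw [mul_smul, ← hu, inv_smul_smul]
    rw [Sylow.smul_eq_iff_mem_normalizer] at e1
    replace e1 : (⟨u, hUL u.2⟩ : L)⁻¹ * ⟨g, hg⟩ ∈ normalizer ((K : Subgroup L) : Set L) := by
      rw [← hPK]; exact e1
    set p : G := (u : G)⁻¹ * g with hp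
    have hpL : p ∈ L := L.mul_mem (L.inv_mem (hUL u.2)) hg
    obtain ⟨i, hi⟩ := mem_zpowers_iff.1 ((mem_normalizer_iff.1 e1 _).1 (mem_zpowers (⟨k, hkL⟩ : L)))
    have hi' : p * k * p⁻¹ = k ^ i := (congrArg Subtype.val hi).symm
    have hk3 : k ^ 3 = 1 := hk ▸ pow_orderOf_eq_one k
    rw [zpow_eq_zpow_emod' i (n := 3) hk3] at hi'
    push_cast at hi'
    rcases (show i % 3 = 0 ∨ i % 3 = 1 ∨ i % 3 = 2 by omega) with e' | e' | e'
    · exfalso
      rw [e', zpow_zero, conj_eq_one_iff] at hi'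
      rw [hi', orderOf_one] at hk
      omega
    · right
      rw [e', zpow_one] at hi'
      have hpc : p ∈ centralizer ({k} : Set G) ⊓ L :=
        ⟨mem_centralizer_singleton_iff.2 (mul_inv_eq_iff_eq_mul.1 hi'), hpL⟩
      rw [h.centralizer_inf hk hkL hU1 hU.prime_three hn, ← mem_powers_iff_mem_zpowers] at hpc
      obtain ⟨j, hj⟩ := hpc
      exact ⟨u, u.2, j, by simp only at hj; rw [hj, hp, mul_inv_cancel_left]⟩
    · left
      rw [e', show (2 : ℤ) = ((2 : ℕ) : ℤ) from rfl, zpow_natCast, pow_two, ← inv_eq_sq hk] at hi'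
      have := U.mul_mem u.2 (hU.conj_mem' hk (U.inv_mem u.2))
      convert this using 1
      calc g * k * g⁻¹ * k = (u : G) * (p * k * p⁻¹) * (u : G)⁻¹ * k := by rw [hp]; group
        _ = _ := by rw [hi']; group

/-- An involution outside `U` inverts some element of order three normalising `U`. -/
theorem One.exists_inverted (h : One R q a b) (hk : orderOf k = 3) (hU : Inv k U) (hU1 : U ≠ ⊥)
    (hUL : U ≤ L) (hkL : k ∈ L) (hn : L ≤ normalizer (U : Set G))
    (hc : Nat.card L = 3 * Nat.card U ∨ Nat.card L = 6 * Nat.card U) {n : G} (hnL : n ∈ L) (hnU : n ∉ U)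
    (hn2 : n * n = 1) :
    ∃ k' : G, orderOf k' = 3 ∧ Inv k' U ∧ k' ∈ L ∧ n * k' * n⁻¹ = k'⁻¹ := by
  obtain ⟨-, hdec⟩ := h.local_decomp hk hU hU1 hkL hUL hn hc
  have hinv : n⁻¹ = n := inv_eq_of_mul_eq_one_right hn2
  have hpow : ∀ (x : G) (m : ℕ), x * k⁻¹ ∈ U → x ^ m * (k ^ m)⁻¹ ∈ U := by
    intro x m hx
    induction m with
    | zero => simp
    | succ m ih =>
      rw [pow_succ', pow_succ', show x * x ^ m * (k * k ^ m)⁻¹ = x * k⁻¹ * (k * (x ^ m * (k ^ m)⁻¹) * k⁻¹) by group]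
      exact U.mul_mem hx (hU.conj_mem ih)
  rcases hdec n hnL with hkn | ⟨u, hu, i, hi⟩
  · set w := n * (k * n * k⁻¹) with hw
    have hwk : w * k⁻¹ ∈ U := by
      have e : w * k⁻¹ = (n * k * n⁻¹ * k) * (k * k * k)⁻¹ := by
        rw [hw, hinv]; group
      rwa [e, cube_eq_one hk, inv_one, mul_one]
    have h3w : 3 ∣ orderOf w := by
      have h1 := hpow w (orderOf w) hwk
      rw [pow_orderOf_eq_one, one_mul] at h1
      rw [← hk]
      refine orderOf_dvd_of_pow_eq_one (orderOf_eq_one_iff.1 (Nat.eq_one_of_dvd_coprimes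
        ((Nat.prime_three.coprime_iff_not_dvd).2 hU.prime_three) ?_ (Subgroup.orderOf_dvd_natCard U (inv_mem_iff.1 h1))))
      exact hk ▸ orderOf_pow_dvd _
    have hwL : w ∈ L := L.mul_mem hnL (L.mul_mem (L.mul_mem hkL hnL) (L.inv_mem hkL))
    have hwn : n * w * n⁻¹ = w⁻¹ := by
      rw [hw]
      calc n * (n * (k * n * k⁻¹)) * n⁻¹ = (n * n) * (k * n * k⁻¹) * n⁻¹ := by group
        _ = (k * n⁻¹ * k⁻¹) * n⁻¹ := by rw [hn2, one_mul, hinv]
        _ = _ := by group
    have hpos := orderOf_pos w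
    refine ⟨w ^ (orderOf w / 3), ?_, ⟨hn (L.pow_mem hwL _), hU.prime_three⟩, L.pow_mem hwL _, ?_⟩
    · haveI : Fact (Nat.Prime 3) := ⟨Nat.prime_three⟩
      refine orderOf_eq_prime (by rw [← pow_mul, Nat.div_mul_cancel h3w, pow_orderOf_eq_one]) fun e => ?_
      have := Nat.le_of_dvd (Nat.div_pos (Nat.le_of_dvd hpos h3w) (by norm_num)) (orderOf_dvd_of_pow_eq_one e)
      omega
    · rw [← conj_pow, hwn, inv_pow]
  · exfalso
    have h1 : k ^ i * k ^ i ∈ U := by
      have e : u * (k ^ i * u * (k ^ i)⁻¹) * (k ^ i * k ^ i) = 1 := by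
        rw [← hn2, hi]; group
      rw [eq_inv_of_mul_eq_one_right e]
      exact U.inv_mem (U.mul_mem hu ((mem_normalizer_iff.1 (pow_mem hU.norm i) u).1 hu))
    have h2 : k ^ i * k ^ i = 1 := by
      refine orderOf_eq_one_iff.1 (Nat.eq_one_of_dvd_coprimes
        ((Nat.prime_three.coprime_iff_not_dvd).2 hU.prime_three) ?_ (Subgroup.orderOf_dvd_natCard U h1))
      rw [← pow_add]; exact hk ▸ orderOf_pow_dvd _
    rw [← pow_add, ← orderOf_dvd_iff_pow_eq_one, hk] at h2
    obtain ⟨j, rfl⟩ : 3 ∣ i := by omega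
    rw [pow_mul, ← hk, pow_orderOf_eq_one, one_pow, mul_one] at hi
    exact hnU (hi ▸ hu)

end Local

end CfsgLib.Known.ThreeNine
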