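import Cfsg.Agent.Lib.Known.ThreeNine.Setup
import Cfsg.Agent.Lib.Transfer.ThompsonTransfer
import Cfsg.Agent.Lib.OddLocal.Puig

/-!
# Maximal invariant 2-subgroups of order at least sixteen
-/

set_option autoImplicit false
set_option linter.all false

namespace CfsgLib.Known.ThreeNine

open Subgroup

universe u

variable {G : Type u} [Group G] [Finite G] {R : Sylow 3 G} {q a b : ℕ} {k : G} {U : Subgroup G}

theorem Data.isSolvable_local (h : Data R q a b) {H : Subgroup G} (h3 : ¬ 3 ∣ Nat.card H) :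
    Group.IsSolvable H := by
  have hd : Nat.card H ∣ 2 ^ a * q ^ b := by
    have h1 := card_subgroup_dvd_card H
    rw [h.card, mul_assoc, show (9 : ℕ) = 3 ^ 2 by norm_num] at h1
    exact (((Nat.prime_three.coprime_iff_not_dvd).2 h3).symm.pow_right 2).dvd_of_dvd_mul_left h1
  obtain ⟨d1, d2, h1, h2, e⟩ := exists_dvd_and_dvd_of_dvd_mul hd
  obtain ⟨i, -, rfl⟩ := (Nat.dvd_prime_pow Nat.prime_two).1 h1
  obtain ⟨j, -, rfl⟩ := (Nat.dvd_prime_pow h.prime).1 h2
  exact CfsgLib.Burnside.isSolvable_of_card_eq Nat.prime_two h.prime e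

theorem Data.not_isPGroup_both (h : Data R q a b) {X : Subgroup G} (h2 : IsPGroup 2 X) (hq : IsPGroup q X) :
    X = ⊥ := by
  haveI := Fact.mk h.prime
  haveI : Fact (Nat.Prime 2) := ⟨Nat.prime_two⟩
  exact disjoint_self.1 (IsPGroup.disjoint_of_ne 2 q (Ne.symm h.ne_two) X X h2 hq)

theorem One.isPGroup_two (h : One R q a b) [IsSimpleGroup G] (hk : orderOf k = 3) (hU : Inv k U) {x : G}
    (hx : x ∈ U) (hx2 : x * x = 1) (hx1 : x ≠ 1) : IsPGroup 2 U := by
  haveI := Fact.mk h.prime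
  refine (h.isPGroup_inv hk hU).resolve_right fun hq => ?_
  obtain ⟨i, hi⟩ := IsPGroup.iff_orderOf.1 hq ⟨x, hx⟩
  rw [← Subgroup.orderOf_coe, orderOf_eq_prime (p := 2) (by rw [pow_two]; exact hx2) hx1] at hi
  rcases Nat.eq_zero_or_pos i with rfl | hpos
  · simp at hi
  · exact h.ne_two (((Nat.prime_dvd_prime_iff_eq h.prime Nat.prime_two).1 (hi ▸ dvd_pow_self q hpos.ne')))

/-- The centraliser of an invariant 2-subgroup is a 2-group. -/
theorem One.centralizer_inv (h : One R q a b) [IsSimpleGroup G] (hk : orderOf k = 3) {X : Subgroup G}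
    (hX : Inv k X) (hX2 : IsPGroup 2 X) (hX1 : X ≠ ⊥) :
    Inv k (centralizer (X : Set G)) ∧ IsPGroup 2 (centralizer (X : Set G)) := by
  have hC : Inv k (centralizer (X : Set G)) := by
    refine ⟨CfsgLib.Signalizer.normalizer_le_normalizer_centralizer_set _ hX.norm, fun h3 => ?_⟩
    obtain ⟨x, hx, hx1⟩ := X.bot_or_exists_ne_one.resolve_left hX1
    refine h.not_three_dvd_centralizer hx1 ?_ (h3.trans (card_dvd_of_le (centralizer_le (Set.singleton_subset_iff.2 hx))))
    exact fun hd3 => hX.prime_three (hd3.trans (Subgroup.orderOf_dvd_natCard X hx))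
  refine ⟨hC, (h.isPGroup_inv hk hC).elim id fun hq => ?_⟩
  rcases h.isPGroup_inv hk (Inv.sup hX hC (le_normalizer.trans
      (CfsgLib.Signalizer.normalizer_le_normalizer_centralizer_set _))) with h2 | hq'
  · exact h2.to_le le_sup_left
  · exact absurd (h.toData.not_isPGroup_both hX2 (hq'.to_le le_sup_right)) hX1

theorem One.centralizer_le_max (h : One R q a b) [IsSimpleGroup G] (hk : orderOf k = 3) (hU : MaxInv k U)
    {X : Subgroup G} (hX : Inv k X) (hX2 : IsPGroup 2 X) (hX1 : X ≠ ⊥) (hUX : U ≤ centralizer (X : Set G)) :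
    centralizer (X : Set G) = U :=
  hU.2 _ (h.centralizer_inv hk hX hX2 hX1).1 hUX

theorem mem_of_two_group {P : Subgroup G} (hP : IsPGroup 2 P) (hk : orderOf k = 3) (hUP : U ≤ P) {u : G}
    (hu : u ∈ U) {i : ℕ} (h : u * k ^ i ∈ P) : u * k ^ i ∈ U := by
  have h1 : k ^ i ∈ P := by
    have := P.mul_mem (P.inv_mem (hUP hu)) h
    rwa [inv_mul_cancel_left] at this
  obtain ⟨j, hj⟩ := IsPGroup.iff_orderOf.1 hP ⟨_, h1⟩
  rw [← Subgroup.orderOf_coe] at hj
  have h2 : orderOf (k ^ i) ∣ 3 := hk ▸ orderOf_pow_dvd i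
  have h3 : k ^ i = 1 := orderOf_eq_one_iff.1 (Nat.eq_one_of_dvd_coprimes
    (Nat.Coprime.pow_right j (by norm_num : Nat.Coprime 3 2)) h2 (dvd_of_eq hj))
  rwa [h3, mul_one]

/-- A maximal invariant 2-subgroup of order at least sixteen with a Sylow subgroup normalising it. -/
structure Big (k : G) (U : Subgroup G) (S : Sylow 2 G) : Prop where
  order : orderOf k = 3
  max : MaxInv k U
  two : IsPGroup 2 U
  le : U ≤ (S : Subgroup G)
  norm : (S : Subgroup G) ≤ normalizer (U : Set G)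
  card_le_two : Nat.card (S : Subgroup G) ∣ 2 * Nat.card U
  size : 16 ≤ Nat.card U

theorem One.exists_big (h : One R q a b) [IsSimpleGroup G] (hk : orderOf k = 3) (hU : MaxInv k U)
    (hU2 : IsPGroup 2 U) (h16 : 16 ≤ Nat.card U) : ∃ S : Sylow 2 G, Big k U S := by
  classical
  haveI : Fact (Nat.Prime 2) := ⟨Nat.prime_two⟩
  have hU1 : U ≠ ⊥ := fun e => by rw [e, card_bot] at h16; omega
  have hc := h.card_normalizer_of_max hk hU hU1 hU.1.norm le_normalizer le_rfl
  set N := normalizer (U : Set G) with hN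
  obtain ⟨P0, hP0⟩ := (hU2.comap_of_injective N.subtype N.subtype_injective).exists_le_sylow
  set P := (P0 : Subgroup N).map N.subtype with hP
  have hUP : U ≤ P := fun x hx => ⟨⟨x, le_normalizer hx⟩, hP0 hx, rfl⟩
  have hP2 : IsPGroup 2 P := P0.isPGroup'.map _
  have hPd : Nat.card P ∣ 2 * Nat.card U := by
    have h1 : Nat.card P ∣ Nat.card N := card_dvd_of_le (map_subtype_le _)
    obtain ⟨i, hi⟩ := hP2.exists_card_eq
    rw [hi] at h1 ⊢
    refine Nat.Coprime.dvd_of_dvd_mul_left (k := 2 ^ i) (m := 3) (Nat.Coprime.pow_left i (by norm_num)) ?_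
    rw [show 3 * (2 * Nat.card U) = 6 * Nat.card U by ring]
    rcases hc with e | e
    · exact h1.trans (e ▸ ⟨2, by ring⟩)
    · exact e ▸ h1
  obtain ⟨S, hS⟩ := hP2.exists_le_sylow
  by_cases hPS : P = (S : Subgroup G)
  · exact ⟨S, hk, hU, hU2, hPS ▸ hUP, hPS ▸ map_subtype_le _, hPS ▸ hPd, h16⟩
  exfalso
  have hlt : P < (S : Subgroup G) := lt_of_le_of_ne hS hPS
  obtain ⟨g, hg, hgP⟩ := SetLike.exists_of_lt (CfsgLib.Transfer.lt_inf_normalizer S.isPGroup' hlt)
  have hgN : g ∉ N := fun hgN => by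
    have hle : P0.toSubgroup ≤ ((S : Subgroup G) ⊓ N).subgroupOf N := fun x hx =>
      ⟨hS ⟨x, hx, rfl⟩, x.2⟩
    have hX : IsPGroup 2 (((S : Subgroup G) ⊓ N).subgroupOf N) :=
      (S.isPGroup'.to_le inf_le_left).comap_of_injective N.subtype N.subtype_injective
    have e := P0.3 hX hle
    exact hgP ⟨⟨g, hgN⟩, e.le (show (⟨g, hgN⟩ : N) ∈ ((S : Subgroup G) ⊓ N).subgroupOf N from ⟨hg.1, hgN⟩), rfl⟩
  set U' := U.map (MulAut.conj g).toMonoidHom with hU'
  have hU'P : U' ≤ P := (map_mono hUP).trans (mem_normalizer_iff_map_conj_eq.1 hg.2).le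
  have hne : U' ≠ U := fun e => hgN (mem_normalizer_iff_map_conj_eq.2 e)
  have hU'c : Nat.card U' = Nat.card U := card_map_of_injective (MulAut.conj g).injective
  have hPU : Nat.card P = 2 * Nat.card U := by
    have h1 : Nat.card U < Nat.card P := by
      refine lt_of_le_of_ne (card_le_of_le hUP) fun e => ?_
      have : U = P := eq_of_le_of_card_ge hUP e.ge
      exact hne (eq_of_le_of_card_ge (this.ge.trans' hU'P) hU'c.ge)
    obtain ⟨c, hc'⟩ := hPd
    rcases Nat.lt_or_ge c 2 with hlt | hge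
    · interval_cases c
      · simp at hc'; omega
      · omega
    · have := Nat.mul_le_mul_left (Nat.card P) hge; omega
  have hrel : U'.relIndex P = 2 := by
    have := card_mul_index (U'.subgroupOf P)
    rw [Nat.card_congr (subgroupOfEquivOfLe hU'P).toEquiv, hU'c, hPU, mul_comm 2] at this
    exact Nat.eq_of_mul_eq_mul_left Nat.card_pos this
  have hrelU : U'.relIndex U ≤ 2 := hrel ▸ relIndex_le_of_le_right hUP (by rw [hrel]; norm_num)
  have hinter : ∀ X : Subgroup G, X ≤ U → Nat.card X ≤ 2 * Nat.card (X ⊓ U' : Subgroup G) := by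
    intro X hX
    have h1 := card_mul_index (U'.subgroupOf X)
    rw [← inf_subgroupOf_left, Nat.card_congr (subgroupOfEquivOfLe inf_le_left).toEquiv] at h1
    rw [inf_subgroupOf_left] at h1
    have h2 : U'.relIndex X ≤ 2 := (relIndex_le_of_le_right hX (by
      intro e; exact index_ne_zero_of_finite e)).trans hrelU
    rw [← h1, mul_comm 2]
    exact Nat.mul_le_mul_left _ h2
  obtain ⟨n, hn', hnU⟩ : ∃ n ∈ U', n ∉ U := by
    by_contra hcon
    push Not at hcon
    exact hne (eq_of_le_of_card_ge hcon hU'c.ge)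
  -- `n` inverts `k` modulo `U`
  have hnk : n * k * n⁻¹ * k ∈ U := by
    obtain ⟨-, hdec⟩ := h.local_decomp hk hU.1 hU1 hU.1.norm le_normalizer le_rfl hc
    rcases hdec n (map_subtype_le _ (hU'P hn')) with e | ⟨u, hu, i, e⟩
    · exact e
    · exact absurd (e ▸ mem_of_two_group hP2 hk hUP hu (e ▸ hU'P hn')) hnU
  set k' := g * k * g⁻¹ with hk'
  have hk'o : orderOf k' = 3 := by
    rw [hk', show g * k * g⁻¹ = (MulAut.conj g).toMonoidHom k from rfl,
      orderOf_injective _ (MulAut.conj g).injective, hk]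
  have hU'i : Inv k' U' := by
    refine ⟨?_, by rw [hU'c]; exact hU.1.prime_three⟩
    refine mem_normalizer_iff_map_conj_eq.2 ?_
    conv_rhs => rw [hU', ← mem_normalizer_iff_map_conj_eq.1 hU.1.norm]
    rw [hU', Subgroup.map_map, Subgroup.map_map]
    congr 1
    ext x
    simp [hk', mul_assoc]
  set Z := U ⊓ centralizer (U : Set G) with hZ
  have hZi : Inv k Z := hU.1.centralizer h.toData hk fun y hy => hy
  have hfix : ∀ z ∈ Z, z ∈ U' → n * z * n⁻¹ = z := by
    intro z hz hz'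
    have hle : U ⊓ U' ≤ U' ⊓ centralizer {z} := fun x hx =>
      ⟨hx.2, mem_centralizer_singleton_iff.2 (mem_centralizer_iff.1 hz.2 x hx.1)⟩
    have e := Inv.eq_of_card_le h.toData hk'o (hU'i.centralizer h.toData hk'o (B := {z})
      fun y hy => by rw [Set.mem_singleton_iff] at hy; rw [hy]; exact hz') hU'i
      (hU2.map _) inf_le_left (by
        rw [hU'c]
        exact (hinter U le_rfl).trans (Nat.mul_le_mul_left 2 (card_le_of_le hle)))
    have hn2 : n ∈ U' ⊓ centralizer {z} := e.symm ▸ hn'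
    exact mul_inv_eq_iff_eq_mul.2 (mem_centralizer_singleton_iff.1 hn2.2)
  set M := Z ⊓ U' with hM
  have hMle : Nat.card Z ≤ 2 * Nat.card M := hinter Z inf_le_left
  have hconj : ∀ z ∈ Z, k⁻¹ * z * k ∈ Z := fun z hz => hZi.conj_mem' hk hz
  have hMdisj : ∀ m ∈ M, k * m * k⁻¹ ∈ M → m = 1 := by
    intro m hm hm'
    refine hU.1.eq_one_of_conj_eq h.toData hk hm.1.1 ?_
    have e1 := hfix _ hm'.1 hm'.2
    have e2 : n * (k * m * k⁻¹) * n⁻¹ = (n * k * n⁻¹ * k) * (k⁻¹ * (n * m * n⁻¹) * k) * (n * k * n⁻¹ * k)⁻¹ := by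
      group
    rw [hfix m hm.1 hm.2, mem_centralizer_iff.1 (hconj m hm.1).2 _ hnk, mul_inv_cancel_right] at e2
    rw [← e1, e2]
  have hM2 : Nat.card M ≤ 2 := by
    have h1 : Nat.card M * Nat.card M ≤ Nat.card Z := by
      rw [← Nat.card_prod]
      refine Nat.card_le_card_of_injective
        (fun p : M × M => (⟨(p.1 : G) * (k * p.2 * k⁻¹), Z.mul_mem p.1.2.1 (hZi.conj_mem p.2.2.1)⟩ : Z))
        fun p p' e => ?_
      have e' : (p.1 : G) * (k * p.2 * k⁻¹) = p'.1 * (k * p'.2 * k⁻¹) := congrArg Subtype.val e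
      have e2 : k * ((p'.2 : G) * (p.2 : G)⁻¹) * k⁻¹ = (p'.1 : G)⁻¹ * p.1 := by
        rw [eq_comm, ← mul_inv_eq_iff_eq_mul.2 e'.symm]; group
      have h3 := hMdisj _ (M.mul_mem p'.2.2 (M.inv_mem p.2.2)) (e2 ▸ M.mul_mem (M.inv_mem p'.1.2) p.1.2)
      have h4 : p'.2 = p.2 := Subtype.ext (mul_inv_eq_one.1 h3)
      rw [h4] at e'
      exact Prod.ext (Subtype.ext (mul_right_cancel e')) h4.symm
    have h5 : 0 < Nat.card M := Nat.card_pos
    have := Nat.le_of_mul_le_mul_right (h1.trans hMle) h5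
    exact this
  -- the squares
  set K := Subgroup.closure {x : G | ∃ u ∈ U, x = u * u} with hK
  have hKU : K ≤ U := (Subgroup.closure_le _).2 (by rintro x ⟨u, hu, rfl⟩; exact U.mul_mem hu hu)
  have hKU' : K ≤ U' := (Subgroup.closure_le _).2 (by
    rintro x ⟨u, hu, rfl⟩
    rcases Nat.lt_or_ge (U'.relIndex U) 2 with hlt | hge
    · have h1 : U'.relIndex U = 1 := by
        have : U'.relIndex U ≠ 0 := index_ne_zero_of_finite
        omega
      exact U'.mul_mem (relIndex_eq_one.1 h1 hu) (relIndex_eq_one.1 h1 hu)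
    · have h2 : (U'.subgroupOf U).index = 2 := le_antisymm hrelU hge
      exact mem_subgroupOf.1 (mul_self_mem_of_index_two h2 (⟨u, hu⟩ : U)))
  have hKn : ∀ w ∈ normalizer (U : Set G), w ∈ normalizer (K : Set G) := by
    intro w hw
    refine mem_normalizer_iff_map_conj_eq.2 (eq_of_le_of_card_ge ?_
      (card_map_of_injective (MulAut.conj w).injective).ge)
    rw [hK, MonoidHom.map_closure, Subgroup.closure_le]
    rintro _ ⟨_, ⟨u, hu, rfl⟩, rfl⟩
    refine subset_closure ⟨w * u * w⁻¹, (mem_normalizer_iff.1 hw u).1 hu, ?_⟩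
    show w * (u * u) * w⁻¹ = _
    group
  by_cases hK1 : K = ⊥
  · -- `U` is elementary abelian
    have hsq : ∀ u ∈ U, u * u = 1 := fun u hu => by
      have : u * u ∈ K := subset_closure ⟨u, hu, rfl⟩
      rwa [hK1, mem_bot] at this
    have hUZ : U ≤ Z := fun u hu => ⟨hu, mem_centralizer_iff.2 fun w hw => by
      have e1 := hsq _ (U.mul_mem hw hu)
      rw [← inv_eq_of_mul_eq_one_right e1, mul_inv_rev, inv_eq_of_mul_eq_one_right (hsq u hu),
        inv_eq_of_mul_eq_one_right (hsq w hw)]⟩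
    have := (card_le_of_le hUZ).trans hMle
    omega
  · haveI : (K.subgroupOf U).Normal := (normal_subgroupOf_iff_le_normalizer hKU).2 fun w hw => hKn w (le_normalizer hw)
    obtain ⟨x, hx, hx1, hxc⟩ := CfsgLib.OddLocal.exists_ne_one_mem_center hU2 (N := K.subgroupOf U)
      (by rw [ne_eq, subgroupOf_eq_bot]; intro hd; exact hK1 (le_bot_iff.1 (hd le_rfl hKU)))
    have hxZ : (x : G) ∈ Z := ⟨x.2, mem_centralizer_iff.2 fun w hw =>
      congrArg Subtype.val (mem_center_iff.1 hxc ⟨w, hw⟩)⟩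
    have hxK : (x : G) ∈ K := hx
    have hkxK : k * (x : G) * k⁻¹ ∈ K := (mem_normalizer_iff.1 (hKn k hU.1.norm) _).1 hxK
    have hx1' : (x : G) ≠ 1 := fun e => hx1 (Subtype.ext e)
    exact hx1' (hMdisj _ ⟨hxZ, hKU' hxK⟩ ⟨hZi.conj_mem hxZ, hKU' hkxK⟩)

namespace Big

variable {S : Sylow 2 G}

theorem ne_bot (hB : Big k U S) : U ≠ ⊥ := fun e => by
  have := hB.size
  rw [e, card_bot] at this; omega

theorem card_normalizer (hB : Big k U S) (h : One R q a b) :
    Nat.card (normalizer (U : Set G)) = 3 * Nat.card U ∨ Nat.card (normalizer (U : Set G)) = 6 * Nat.card U :=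
  h.card_normalizer_of_max hB.order hB.max hB.ne_bot hB.max.1.norm le_normalizer le_rfl

theorem inverts_mod (hB : Big k U S) (h : One R q a b) {s : G} (hs : s ∈ (S : Subgroup G)) (hsU : s ∉ U) :
    s * k * s⁻¹ * k ∈ U := by
  obtain ⟨-, hdec⟩ := h.local_decomp hB.order hB.max.1 hB.ne_bot hB.max.1.norm le_normalizer le_rfl
    (hB.card_normalizer h)
  rcases hdec s (hB.norm hs) with e | ⟨u, hu, i, e⟩
  · exact e
  · exact absurd (e ▸ mem_of_two_group S.isPGroup' hB.order hB.le hu (e ▸ hs)) hsU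

theorem exists_inverted (hB : Big k U S) (h : One R q a b) {s : G} (hs : s ∈ (S : Subgroup G)) (hsU : s ∉ U)
    (hs2 : s * s = 1) : ∃ k' : G, orderOf k' = 3 ∧ Inv k' U ∧ s * k' * s⁻¹ = k'⁻¹ := by
  obtain ⟨k', h1, h2, -, h3⟩ := h.exists_inverted hB.order hB.max.1 hB.ne_bot le_normalizer hB.max.1.norm
    le_rfl (hB.card_normalizer h) (hB.norm hs) hsU hs2
  exact ⟨k', h1, h2, h3⟩

/-- The four group `V`. -/
theorem exists_four (hB : Big k U S) (h : One R q a b) [IsSimpleGroup G] :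
    ∃ V : Subgroup G, ∃ c : G, Inv k V ∧ Nat.card V = 4 ∧ V ≤ U ∧ c ∈ V ∧ c ≠ 1 ∧
      (∀ v ∈ V, v * v = 1) ∧ (∀ s ∈ (S : Subgroup G), s * c * s⁻¹ = c) ∧
      centralizer (V : Set G) = U ∧ normalizer (U : Set G) ≤ normalizer (V : Set G) ∧
      (∀ v ∈ V, v = 1 ∨ v = c ∨ v = k * c * k⁻¹ ∨ v = c * (k * c * k⁻¹)) := by
  classical
  haveI : Fact (Nat.Prime 2) := ⟨Nat.prime_two⟩
  set O : Subgroup G := U ⊓ centralizer (U : Set G) with hO
  let O2 : Subgroup G :=
    { carrier := {x | x ∈ O ∧ x * x = 1}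
      one_mem' := ⟨O.one_mem, one_mul 1⟩
      mul_mem' := fun {x y} hx hy => ⟨O.mul_mem hx.1 hy.1, by
        have e := mem_centralizer_iff.1 hx.1.2 y hy.1.1
        calc x * y * (x * y) = x * (y * x) * y := by group
          _ = (x * x) * (y * y) := by rw [e]; group
          _ = 1 := by rw [hx.2, hy.2, one_mul]⟩
      inv_mem' := fun {x} hx => ⟨O.inv_mem hx.1, by rw [← mul_inv_rev, hx.2, inv_one]⟩ }
  have hn : ∀ w ∈ normalizer (U : Set G), w ∈ normalizer (O2 : Set G) := by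
    intro w hw
    refine mem_normalizer_iff_map_conj_eq.2 (eq_of_le_of_card_ge ?_
      (card_map_of_injective (MulAut.conj w).injective).ge)
    rintro _ ⟨x, ⟨⟨hxU, hxC⟩, hx2⟩, rfl⟩
    refine ⟨⟨(mem_normalizer_iff.1 hw x).1 hxU,
      (mem_normalizer_iff.1 (CfsgLib.Signalizer.normalizer_le_normalizer_centralizer_set _ hw) x).1 hxC⟩, ?_⟩
    show w * x * w⁻¹ * (w * x * w⁻¹) = 1
    calc w * x * w⁻¹ * (w * x * w⁻¹) = w * (x * x) * w⁻¹ := by group
      _ = 1 := by rw [hx2]; group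
  have hdvd : 2 ∣ Nat.card O2 := by
    haveI : Nontrivial U := (nontrivial_iff_ne_bot _).2 hB.ne_bot
    haveI := hB.two.center_nontrivial
    obtain ⟨z, hz⟩ := exists_prime_orderOf_dvd_card' (G := center U) 2 (by
      obtain ⟨i, hi, hi'⟩ := (hB.two.to_subgroup (center U)).nontrivial_iff_card.1 inferInstance
      rw [hi']; exact dvd_pow_self 2 (by omega))
    rw [← Subgroup.orderOf_coe, ← Subgroup.orderOf_coe] at hz
    have hzO : ((z : U) : G) ∈ O2 := ⟨⟨(z : U).2, mem_centralizer_iff.2 fun w hw =>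
      congrArg Subtype.val (mem_center_iff.1 z.2 ⟨w, hw⟩)⟩, by rw [← pow_two, ← hz]; exact pow_orderOf_eq_one _⟩
    exact hz ▸ Subgroup.orderOf_dvd_natCard O2 hzO
  let _ : MulAction (S : Subgroup G) O2 :=
    { smul := fun s e => ⟨(s : G) * e * (s : G)⁻¹, (mem_normalizer_iff.1 (hn _ (hB.norm s.2)) _).1 e.2⟩
      one_smul := fun e => Subtype.ext (by show (1 : G) * e * 1⁻¹ = e; group)
      mul_smul := fun s t e => Subtype.ext (by
        show ((s : G) * t) * e * ((s : G) * t)⁻¹ = (s : G) * ((t : G) * e * (t : G)⁻¹) * (s : G)⁻¹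
        group) }
  obtain ⟨c, hc, hc1⟩ := S.isPGroup'.exists_fixed_point_of_prime_dvd_card_of_fixed_point O2 hdvd
    (a := 1) (fun s => Subtype.ext (by show (s : G) * 1 * (s : G)⁻¹ = 1; group))
  have hcS : ∀ s ∈ (S : Subgroup G), s * (c : G) * s⁻¹ = c := fun s hs => congrArg Subtype.val (hc ⟨s, hs⟩)
  have hcne : (c : G) ≠ 1 := fun e => hc1 (Subtype.ext e.symm)
  have hOi : Inv k O := hB.max.1.centralizer h.toData hB.order fun y hy => hy
  obtain ⟨V, hV, hV4, hVO, hcV, hdV, hVmem, -, hVe⟩ :=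
    hOi.orbit_four h.toData hB.order c.2.1 c.2.2 hcne
  have hV2 : IsPGroup 2 V := IsPGroup.of_card (n := 2) (by rw [hV4]; norm_num)
  have hV1 : V ≠ ⊥ := fun e => by rw [e, card_bot] at hV4; omega
  have hUC : U ≤ centralizer (V : Set G) := fun x hx => mem_centralizer_iff.2 fun v hv =>
    (mem_centralizer_iff.1 (hVO hv).2 x hx).symm
  have hCV := h.centralizer_le_max hB.order hB.max hV hV2 hV1 hUC
  refine ⟨V, c, hV, hV4, hVO.trans inf_le_left, hcV, hcne, hVe, hcS, hCV, ?_, fun v hv => (hVmem v).1 hv⟩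
  -- the normaliser
  set K := normalizer (U : Set G) ⊓ normalizer (V : Set G) with hK
  have hUK : U ≤ K := fun x hx => ⟨le_normalizer hx, centralizer_le_normalizer _ (hUC hx)⟩
  have hSK : (S : Subgroup G) ≤ K := by
    intro s hs
    refine ⟨hB.norm hs, ?_⟩
    by_cases hsU : s ∈ U
    · exact (hUK hsU).2
    set u := s * k * s⁻¹ * k with hu
    have huU : u ∈ U := hB.inverts_mod h hs hsU
    have hd : s * (k * (c : G) * k⁻¹) * s⁻¹ = k⁻¹ * c * k := by
      calc s * (k * (c : G) * k⁻¹) * s⁻¹ = u * (k⁻¹ * (s * c * s⁻¹) * k) * u⁻¹ := by rw [hu]; group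
        _ = u * (k⁻¹ * (c : G) * k) * u⁻¹ := by rw [hcS s hs]
        _ = _ := by
          rw [mem_centralizer_iff.1 ((hOi.conj_mem' hB.order c.2.1)).2 u huU, mul_inv_cancel_right]
    refine mem_normalizer_iff_map_conj_eq.2 (eq_of_le_of_card_ge ?_
      (card_map_of_injective (MulAut.conj s).injective).ge)
    rintro _ ⟨v, hv, rfl⟩
    show s * v * s⁻¹ ∈ V
    rcases (hVmem v).1 hv with rfl | rfl | rfl | rfl
    · simp
    · rw [hcS s hs]; exact hcV
    · rw [hd]; exact hV.conj_mem' hB.order hcV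
    · rw [show s * ((c : G) * (k * c * k⁻¹)) * s⁻¹ = (s * c * s⁻¹) * (s * (k * c * k⁻¹) * s⁻¹) by group,
        hcS s hs, hd]
      exact V.mul_mem hcV (hV.conj_mem' hB.order hcV)
  have hkK : k ∈ K := ⟨hB.max.1.norm, hV.norm⟩
  refine le_trans (eq_of_le_of_card_ge inf_le_left ?_).ge inf_le_right
  obtain ⟨i, hi⟩ := S.isPGroup'.exists_card_eq
  have h3S : 3 * 2 ^ i ∣ Nat.card K := Nat.Coprime.mul_dvd_of_dvd_of_dvd (Nat.Coprime.pow_right i (by norm_num))
    (hB.order ▸ Subgroup.orderOf_dvd_natCard K hkK) (hi ▸ card_dvd_of_le hSK)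
  have hSc : Nat.card U ≤ 2 ^ i := hi ▸ card_le_of_le hB.le
  have hKpos : 0 < Nat.card K := Nat.card_pos
  have hle := Nat.le_of_dvd hKpos h3S
  have h3U := Nat.mul_le_mul_left 3 hSc
  show Nat.card (normalizer (U : Set G)) ≤ Nat.card K
  rcases hB.card_normalizer h with e | e
  · rw [e]; omega
  · rw [e]
    -- the Sylow subgroup has order twice that of `U`
    obtain ⟨P⟩ := Sylow.nonempty (p := 2) (G := normalizer (U : Set G))
    obtain ⟨j, hj⟩ := hB.two.exists_card_eq
    have hP : Nat.card (P : Subgroup (normalizer (U : Set G))) = 2 ^ (j + 1) := by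
      rw [P.card_eq_multiplicity, e, hj, show 6 * 2 ^ j = 2 ^ (j + 1) * 3 by ring,
        Nat.factorization_mul (by positivity) (by norm_num), Finsupp.add_apply, Nat.prime_two.factorization_pow,
        Finsupp.single_eq_same, Nat.factorization_eq_zero_of_not_dvd (by norm_num), add_zero]
    have h1 : 2 ^ (j + 1) ≤ 2 ^ i := by
      obtain ⟨T, hT⟩ := (P.isPGroup'.map (normalizer (U : Set G)).subtype).exists_le_sylow
      calc 2 ^ (j + 1) = Nat.card ((P : Subgroup _).map (normalizer (U : Set G)).subtype) := by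
            rw [card_map_of_injective (normalizer (U : Set G)).subtype_injective, hP]
        _ ≤ Nat.card (T : Subgroup G) := card_le_of_le hT
        _ = 2 ^ i := by rw [T.card_eq_multiplicity, ← S.card_eq_multiplicity, hi]
    rw [hj]
    have h3j := Nat.mul_le_mul_left 3 h1
    rw [pow_succ] at h3j
    omega

/-- Every involution is conjugate into `U`. -/
theorem exists_conj (hB : Big k U S) (h : One R q a b) [IsSimpleGroup G] {y : G} (hy : y * y = 1) (hy1 : y ≠ 1) :
    ∃ g : G, g * y * g⁻¹ ∈ U := by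
  haveI : Fact (Nat.Prime 2) := ⟨Nat.prime_two⟩
  have hyo : orderOf y = 2 := orderOf_eq_prime (by rw [pow_two]; exact hy) hy1
  by_cases hUS : U = (S : Subgroup G)
  · obtain ⟨P, hP⟩ := (IsPGroup.of_card (n := 1) (by rw [Nat.card_zpowers, hyo, pow_one]) :
      IsPGroup 2 (zpowers y)).exists_le_sylow
    obtain ⟨g, hg⟩ := MulAction.exists_smul_eq G P S
    refine ⟨g, ?_⟩
    rw [hUS, ← hg, Sylow.coe_subgroup_smul]
    exact ⟨y, hP (mem_zpowers y), rfl⟩
  have hrel : U.relIndex (S : Subgroup G) = 2 := by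
    have h1 := card_mul_index (U.subgroupOf (S : Subgroup G))
    rw [Nat.card_congr (subgroupOfEquivOfLe hB.le).toEquiv] at h1
    obtain ⟨c, hc⟩ := hB.card_le_two
    have hne : U.relIndex (S : Subgroup G) ≠ 1 := fun e => hUS (le_antisymm hB.le (relIndex_eq_one.1 e))
    have h2 : U.relIndex (S : Subgroup G) ∣ 2 := ⟨c, Nat.eq_of_mul_eq_mul_left Nat.card_pos (by
      rw [← mul_assoc]
      show _ = Nat.card U * (U.subgroupOf (S : Subgroup G)).index * c
      rw [h1, mul_comm (Nat.card U), hc])⟩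
    rcases (Nat.dvd_prime Nat.prime_two).1 h2 with e | e
    exacts [absurd e hne, e]
  rcases CfsgLib.Transfer.thompson_transfer S U hrel hyo with ⟨M, hM, hM2, hyM⟩ | hg
  · exfalso
    rcases hM.eq_bot_or_eq_top with e | e
    · subst e
      rw [index_bot] at hM2
      refine h.nonab ?_
      haveI : IsCyclic G := isCyclic_of_prime_card hM2
      exact ⟨⟨fun x z => by letI := IsCyclic.commGroup (α := G); exact mul_comm x z⟩⟩
    · exact hyM (e ▸ mem_top y)
  · exact hg

/-- An involution has a conjugate in `U` whose centraliser has a Sylow subgroup inside `S`. -/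
theorem exists_extremal (hB : Big k U S) (h : One R q a b) [IsSimpleGroup G] {y : G} (hy : y * y = 1)
    (hy1 : y ≠ 1) : ∃ x ∈ U, IsConj y x ∧ ∀ Y : Subgroup G, IsPGroup 2 Y → Y ≤ centralizer ({x} : Set G) →
      Nat.card Y ≤ Nat.card ((S : Subgroup G) ⊓ centralizer {x} : Subgroup G) := by
  classical
  haveI : Fact (Nat.Prime 2) := ⟨Nat.prime_two⟩
  set H := centralizer ({y} : Set G) with hH
  obtain ⟨T⟩ := Sylow.nonempty (p := 2) (G := H)
  set TG := (T : Subgroup H).map H.subtype with hTG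
  have hyT : y ∈ TG := by
    have hyH : y ∈ H := mem_centralizer_singleton_iff.2 rfl
    refine ⟨⟨y, hyH⟩, ?_, rfl⟩
    haveI : (zpowers (⟨y, hyH⟩ : H)).Normal := ⟨fun x hx g => by
      obtain ⟨i, rfl⟩ := mem_zpowers_iff.1 hx
      rw [show g * (⟨y, hyH⟩ : H) ^ i * g⁻¹ = (⟨y, hyH⟩ : H) ^ i from ?_]
      · exact zpow_mem (mem_zpowers _) i
      · have : Commute g (⟨y, hyH⟩ : H) := Subtype.ext (mem_centralizer_singleton_iff.1 g.2)
        rw [(this.zpow_right i).eq, mul_inv_cancel_right]⟩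
    exact IsPGroup.le_sylow_of_normal (N := zpowers (⟨y, hyH⟩ : H)) (IsPGroup.of_card (n := 1) (by
      rw [Nat.card_zpowers, ← Subgroup.orderOf_coe, pow_one]
      exact orderOf_eq_prime (by rw [pow_two]; exact hy) hy1)) T (mem_zpowers _)
  obtain ⟨P, hP⟩ := (T.isPGroup'.map H.subtype).exists_le_sylow
  obtain ⟨g, hg⟩ := MulAction.exists_smul_eq G P S
  set y' := g * y * g⁻¹ with hy'
  have hy'S : y' ∈ (S : Subgroup G) := by
    rw [← hg, Sylow.coe_subgroup_smul]; exact ⟨y, hP hyT, rfl⟩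
  have hy'2 : y' * y' = 1 := by
    rw [hy']; calc g * y * g⁻¹ * (g * y * g⁻¹) = g * (y * y) * g⁻¹ := by group
      _ = 1 := by rw [hy]; group
  have hy'1 : y' ≠ 1 := fun e => hy1 (conj_eq_one_iff.1 e)
  have htrans : ∀ (w c : G) (Y : Subgroup G), IsPGroup 2 Y → Y ≤ centralizer ({w * c * w⁻¹} : Set G) →
      ∃ Y' : Subgroup G, IsPGroup 2 Y' ∧ Y' ≤ centralizer ({c} : Set G) ∧ Nat.card Y' = Nat.card Y := by
    intro w c Y hY hYc
    refine ⟨Y.map (MulAut.conj w⁻¹).toMonoidHom, hY.map _, ?_, card_map_of_injective (MulAut.conj w⁻¹).injective⟩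
    rintro _ ⟨v, hv, rfl⟩
    have e := mem_centralizer_singleton_iff.1 (hYc hv)
    refine mem_centralizer_singleton_iff.2 ?_
    show w⁻¹ * v * w⁻¹⁻¹ * c = c * (w⁻¹ * v * w⁻¹⁻¹)
    calc w⁻¹ * v * w⁻¹⁻¹ * c = w⁻¹ * (v * (w * c * w⁻¹)) * w := by group
      _ = _ := by rw [e]; group
  have hmaxy : ∀ Y : Subgroup G, IsPGroup 2 Y → Y ≤ H → Nat.card Y ≤ Nat.card TG := by
    intro Y hY hYH
    rw [hTG, card_map_of_injective H.subtype_injective]
    obtain ⟨T', hT'⟩ := (hY.comap_of_injective H.subtype H.subtype_injective).exists_le_sylow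
    calc Nat.card Y = Nat.card (Y.subgroupOf H) := (Nat.card_congr (subgroupOfEquivOfLe hYH).toEquiv).symm
      _ ≤ Nat.card (T' : Subgroup H) := card_le_of_le hT'
      _ = Nat.card (T : Subgroup H) := by rw [T'.card_eq_multiplicity, T.card_eq_multiplicity]
  have hext : Nat.card TG ≤ Nat.card ((S : Subgroup G) ⊓ centralizer {y'} : Subgroup G) := by
    rw [← card_map_of_injective (K := TG) (f := (MulAut.conj g).toMonoidHom) (MulAut.conj g).injective]
    refine card_le_of_le ?_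
    rintro _ ⟨v, hv, rfl⟩
    refine ⟨?_, mem_centralizer_singleton_iff.2 ?_⟩
    · rw [← hg, Sylow.coe_subgroup_smul]; exact ⟨v, hP hv, rfl⟩
    · show g * v * g⁻¹ * y' = y' * (g * v * g⁻¹)
      have e := mem_centralizer_singleton_iff.1 ((map_subtype_le _) hv)
      calc g * v * g⁻¹ * y' = g * (v * y) * g⁻¹ := by rw [hy']; group
        _ = _ := by rw [e, hy']; group
  by_cases hy'U : y' ∈ U
  · refine ⟨y', hy'U, isConj_iff.2 ⟨g, rfl⟩, fun Y hY hYc => ?_⟩
    obtain ⟨Y', hY', hY'c, e⟩ := htrans g y Y hY hYc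
    exact e ▸ (hmaxy Y' hY' hY'c).trans hext
  obtain ⟨g', hg'⟩ := hB.exists_conj h hy hy1
  set x := g' * y * g'⁻¹ with hx
  refine ⟨x, hg', isConj_iff.2 ⟨g', rfl⟩, fun Y hY hYc => ?_⟩
  obtain ⟨Y', hY', hY'c, e⟩ := htrans g' y Y hY hYc
  rw [← e]
  refine (hmaxy Y' hY' hY'c).trans (hext.trans ?_)
  obtain ⟨k', hk', hk'U, hinv⟩ := hB.exists_inverted h hy'S hy'U hy'2
  obtain ⟨hsq, -⟩ := hk'U.fixed_split h.toData hk' (hB.norm hy'S) hinv hy'2
  have hlt := hB.max.1.card_lt_centralizer_sq h.toData hB.order hg' (fun e => hy1 (conj_eq_one_iff.1 e))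
  have hC2 : Nat.card ((S : Subgroup G) ⊓ centralizer {y'} : Subgroup G) ≤
      2 * Nat.card (U ⊓ centralizer {y'} : Subgroup G) := by
    set C := (S : Subgroup G) ⊓ centralizer {y'} with hC
    have h1 := card_mul_index (U.subgroupOf C)
    rw [← inf_subgroupOf_left, Nat.card_congr (subgroupOfEquivOfLe inf_le_left).toEquiv] at h1
    rw [inf_subgroupOf_left] at h1
    have h2 : U.relIndex C ≤ 2 := by
      refine (relIndex_le_of_le_right inf_le_left (fun e => index_ne_zero_of_finite e)).trans ?_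
      have h3 := card_mul_index (U.subgroupOf (S : Subgroup G))
      rw [Nat.card_congr (subgroupOfEquivOfLe hB.le).toEquiv] at h3
      refine Nat.le_of_mul_le_mul_left ?_ (Nat.card_pos (α := U))
      show Nat.card U * (U.subgroupOf (S : Subgroup G)).index ≤ _
      rw [h3, mul_comm (Nat.card U) 2]
      exact Nat.le_of_dvd (Nat.mul_pos two_pos Nat.card_pos) hB.card_le_two
    rw [← h1]
    refine le_trans (Nat.mul_le_mul_left _ h2) ?_
    rw [mul_comm]
    refine Nat.mul_le_mul_left 2 (card_le_of_le ?_)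
    exact fun v hv => ⟨hv.2, hv.1.2⟩
  refine hC2.trans ?_
  set C := U ⊓ centralizer {y'}
  set W := U ⊓ centralizer {x}
  have hWS : W ≤ (S : Subgroup G) ⊓ centralizer {x} := fun v hv => ⟨hB.le hv.1, hv.2⟩
  refine le_trans ?_ (card_le_of_le hWS)
  rw [← hsq] at hlt
  have hCW : Nat.card C < Nat.card W := lt_of_pow_lt_pow_left₀ 2 (Nat.zero_le _) hlt
  obtain ⟨i, hi⟩ := (hB.two.to_le (inf_le_left : C ≤ U)).exists_card_eq
  obtain ⟨j, hj⟩ := (hB.two.to_le (inf_le_left : W ≤ U)).exists_card_eq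
  rw [hi, hj] at hCW ⊢
  rw [← pow_succ']
  exact Nat.pow_le_pow_right (by norm_num) ((Nat.pow_lt_pow_iff_right (by norm_num)).1 hCW)

end Big

end CfsgLib.Known.ThreeNine
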